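import Cfsg.Agent.KFacts.HS.Base
import Cfsg.Agent.HN.Classes
import Cfsg.Agent.Lib.FinFast
import Cfsg.Agent.OddHalf.D8.Sheet
import Cfsg.Agent.HN.CentUp
import Cfsg.Agent.Lib.AltCarmichael
import Cfsg.Agent.Schreier.Tools
import Cfsg.Agent.HN.CentUp2
import Cfsg.Agent.OddHalf.D4.Spor.Sheet
import Cfsg.Agent.FastGrp
import Cfsg.Agent.Prune
set_option linter.all false

section
prune_inst 0x7fbefefbaff9addfffff7e7ffffddffffdfcffffffdffbfbfffdfbffefdf6b7ffbf5fb8f7fef58ffbef7f096b2f87bd3ff7eeeffeffbdc7ffffd5ff47fffff9fffffbfaf5df7b83e1ffe7ffffbffffffffffffffffffffffffffffffffffffffffffffffffff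

-- part: KFacts/HS/Cent5
section
prune_inst 0x40010040061220000000000002000002010000002000000002040010201480000804200000a0004100002800008008000001000004000000000008000000400000400020080481000000000400000000000000000000000000000000000000000000000000
set_option linter.all false
open scoped Cfsg.Agent.FastGrp

-- part: KFacts/HS/Cent3
section
-- merged: Cfsg.Agent.KFacts.HS.Cent
section

set_option autoImplicit false

/-!
# Facts on `HS`: the centraliser of the central involution, in `H0 = 2.HS.2`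

`b = a τ`, `U = R 28` (`U² = b`), `Pt = C(b) ∩ K`, `P0t = C(U) ∩ K`, `Rt = W ∩ K`, `W = O₂(C(b))`.
-/

namespace Cfsg.Agent.KFacts.HS.Cent

open Cfsg.Agent.HN Cfsg.Agent.HN.Pres Cfsg.Agent.HN.HS100 Cfsg.Agent.HN.P1408 Cfsg.Agent.HN.H0Basic
open Cfsg.Agent.HN.XMat Cfsg.Agent.HN.WMask
open Cfsg.Agent.SporadicA.PermTab (band band_eq_true allB allB_iff)

/-! ### actions on masks -/

/-- `g ∈ C(b)` acts on the masks by `f` -/
structure Act (g : H0) (f : ℕ → ℕ) : Prop where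
  cb : b * g = g * b
  lt : ∀ m < 128, f m < 128
  eq : ∀ m < 128, ∃ e, R m * g = g * (R (f m) * sg e)

theorem xor_lt {m m' : ℕ} (hm : m < 128) (hm' : m' < 128) : m ^^^ m' < 128 :=
  Nat.xor_lt_two_pow (n := 7) hm hm'

theorem two_pow_lt {i : ℕ} (hi : i < 7) : 2 ^ i < 128 := by
  calc 2 ^ i < 2 ^ 7 := Nat.pow_lt_pow_right (by norm_num) hi
    _ = 128 := by norm_num

/-- induction on masks -/
theorem mask_ind {p : ℕ → Prop} (h0 : p 0) (hb : ∀ i < 7, p (2 ^ i))
    (hx : ∀ m < 128, ∀ m' < 128, p m → p m' → p (m ^^^ m')) : ∀ m < 128, p m := by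
  have key : ∀ n ≤ 7, ∀ m < 2 ^ n, p m := by
    intro n
    induction n with
    | zero =>
      intro _ m hm
      have : m = 0 := by simpa using hm
      rw [this]; exact h0
    | succ n ih =>
      intro hn m hm
      have h7 : 2 ^ n < 128 := two_pow_lt (by omega)
      by_cases h : m < 2 ^ n
      · exact ih (by omega) m h
      · have h1 : m ^^^ 2 ^ n < 2 ^ n := by
          have h2 : m.testBit n = true := by
            rw [Nat.testBit_eq_decide_div_mod_eq]
            have h3 : m / 2 ^ n = 1 := by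
              rw [pow_succ] at hm
              exact Nat.div_eq_of_lt_le (by omega) (by omega)
            rw [h3]; rfl
          apply Nat.lt_pow_two_of_testBit
          intro i hi
          rw [Nat.testBit_xor, Nat.testBit_two_pow]
          rcases Nat.lt_or_ge n i with h3 | h3
          · have h4 : m.testBit i = false := Nat.testBit_lt_two_pow (lt_of_lt_of_le hm (Nat.pow_le_pow_right (by norm_num) h3))
            rw [h4, decide_eq_false (by omega)]; rfl
          · have h4 : i = n := by omega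
            rw [h4, h2, decide_eq_true rfl]; rfl
        have h2 := hx _ (lt_trans h1 h7) _ h7 (ih (by omega) _ h1) (hb n (by omega))
        rwa [Nat.xor_assoc, Nat.xor_self, Nat.xor_zero] at h2
  exact fun m hm => key 7 le_rfl m hm

namespace Act

variable {g h : H0} {f f' : ℕ → ℕ}

theorem one : Act 1 (fun m => m) :=
  ⟨by rw [mul_one, one_mul], fun _ h => h, fun m _ => ⟨false, by rw [mul_one, one_mul]; exact (mul_one _).symm⟩⟩

theorem mul (hg : Act g f) (hh : Act h f') : Act (g * h) (fun m => f' (f m)) := by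
  refine ⟨by rw [← mul_assoc, hg.cb, mul_assoc, hh.cb, mul_assoc], fun m hm => hh.lt _ (hg.lt m hm),
    fun m hm => ?_⟩
  obtain ⟨e, he⟩ := hg.eq m hm
  obtain ⟨e', he'⟩ := hh.eq (f m) (hg.lt m hm)
  refine ⟨e' ^^ e, ?_⟩
  calc R m * (g * h) = (R m * g) * h := by rw [mul_assoc]
    _ = g * (R (f m) * (sg e * h)) := by rw [he]; group
    _ = g * ((R (f m) * h) * sg e) := by rw [sg_comm hh.cb]; group
    _ = g * h * (R (f' (f m)) * (sg e' * sg e)) := by rw [he']; group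
    _ = _ := by rw [sg_mul]

theorem pow (hg : Act g f) (n : ℕ) : Act (g ^ n) (f^[n]) := by
  induction n with
  | zero => rw [pow_zero]; exact one
  | succ n ih =>
    rw [pow_succ, Function.iterate_succ']
    exact ih.mul hg

theorem uniq (hg : Act g f) (hg' : Act g f') {m : ℕ} (hm : m < 128) : f m = f' m := by
  obtain ⟨e, he⟩ := hg.eq m hm
  obtain ⟨e', he'⟩ := hg'.eq m hm
  rw [he] at he'
  exact (R_inj (hg.lt m hm) (hg'.lt m hm) (mul_left_cancel he')).1

/-- the action is linear -/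
theorem xor (hg : Act g f) {m m' : ℕ} (hm : m < 128) (hm' : m' < 128) : f (m ^^^ m') = f m ^^^ f m' := by
  obtain ⟨e1, h1⟩ := hg.eq m hm
  obtain ⟨e2, h2⟩ := hg.eq m' hm'
  obtain ⟨e3, h3⟩ := hg.eq _ (xor_lt hm hm')
  obtain ⟨e4, h4⟩ := R_mul m m'
  obtain ⟨e5, h5⟩ := R_mul (f m) (f m')
  have k1 : R m * R m' * g = g * (R (f m ^^^ f m') * sg (e5 ^^ (e1 ^^ e2))) := by
    calc R m * R m' * g = R m * (R m' * g) := by rw [mul_assoc]
      _ = (R m * g) * (R (f m') * sg e2) := by rw [h2]; group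
      _ = g * (R (f m) * (sg e1 * R (f m')) * sg e2) := by rw [h1]; group
      _ = g * ((R (f m) * R (f m')) * (sg e1 * sg e2)) := by rw [R_sg]; group
      _ = g * (R (f m ^^^ f m') * (sg e5 * (sg e1 * sg e2))) := by rw [h5]; group
      _ = _ := by rw [sg_mul, sg_mul]
  have k2 : R m * R m' * g = g * (R (f (m ^^^ m')) * sg (e3 ^^ e4)) := by
    calc R m * R m' * g = R (m ^^^ m') * (sg e4 * g) := by rw [h4, mul_assoc]
      _ = (R (m ^^^ m') * g) * sg e4 := by rw [sg_comm hg.cb]; group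
      _ = g * (R (f (m ^^^ m')) * (sg e3 * sg e4)) := by rw [h3]; group
      _ = _ := by rw [sg_mul]
  rw [k2] at k1
  exact (R_inj (hg.lt _ (xor_lt hm hm')) (xor_lt (hg.lt m hm) (hg.lt m' hm')) (mul_left_cancel k1)).1

theorem zero (hg : Act g f) : f 0 = 0 := by
  have := hg.xor (m := 0) (m' := 0) (by norm_num) (by norm_num)
  rwa [Nat.xor_self, Nat.xor_self] at this

theorem ext (hg : Act g f) (hh : Act h f') (H : ∀ i < 7, f (2 ^ i) = f' (2 ^ i)) : ∀ m < 128, f m = f' m := by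
  apply mask_ind
  · rw [hg.zero, hh.zero]
  · exact H
  · intro m hm m' hm' h1 h2
    rw [hg.xor hm hm', hh.xor hm hm', h1, h2]

theorem el (m : ℕ) {w : List ℕ} (hw1 : w ∈ S5W) (e : Bool) : Act (el m w e) (fw w) :=
  ⟨el_b m hw1 e, fun _ hm => fw_lt (S5_lt hw1) hm, fun _ hm => act_el (S5_lt hw1) hm⟩

theorem E {w : List ℕ} (hw1 : ∀ g ∈ w, g < 2) : Act (E w) (fw w) :=
  ⟨E_b hw1, fun _ hm => fw_lt hw1 hm, fun _ hm => act_E hw1 hm⟩

/-- every element of `C(b)` acts as a word of `S5W` -/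
theorem exists_of_comm (hb : b * g = g * b) : ∃ w ∈ S5W, Act g (fw w) := by
  obtain ⟨m, -, w, hw1, e, rfl⟩ := cent_b hb
  exact ⟨w, hw1, el m hw1 e⟩

/-- the kernel of the action is `W` -/
theorem mem_W (hg : Act g f) (H : ∀ i < 7, f (2 ^ i) = 2 ^ i) : ∃ m < 128, ∃ e, g = R m * sg e := by
  obtain ⟨m, hm, w, hw1, e, rfl⟩ := cent_b hg.cb
  have h1 : w = [] := by
    apply key_inj hw1 (by decide +kernel)
    apply key_congr
    intro i hi
    rw [(el m hw1 e).uniq hg (two_pow_lt hi), H i hi]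
    rfl
  subst h1
  exact ⟨m, hm, e, by rw [WMask.el, E_nil, mul_one]⟩

/-- an action of 2-power order and of odd order is trivial -/
theorem trivial_of (hg : Act g f) {k n : ℕ} (hk : g ^ 2 ^ k = 1) (hn : Odd n)
    (H : ∀ i < 7, f^[n] (2 ^ i) = 2 ^ i) : ∀ i < 7, f (2 ^ i) = 2 ^ i := by
  intro i hi
  have h1 : Function.IsPeriodicPt f (2 ^ k) (2 ^ i) := by
    have h2 := hg.pow (2 ^ k)
    rw [hk] at h2
    exact (h2.uniq one (two_pow_lt hi))
  have h3 : Function.IsPeriodicPt f n (2 ^ i) := H i hi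
  have h4 := h1.gcd h3
  have h5 : Nat.gcd (2 ^ k) n = 1 := Nat.Coprime.pow_left k (Nat.coprime_two_left.2 hn)
  rw [h5] at h4
  exact h4

end Act

end Cfsg.Agent.KFacts.HS.Cent

end

-- merged: Cfsg.Agent.KFacts.HS.Cent2
section

set_option autoImplicit false

/-!
# Facts on `HS`: the centraliser of the central involution, in `H0 = 2.HS.2`: subgroups

`U = R 28` (`U² = b`), `Pt = C(b) ∩ K`, `P0t = C(U) ∩ K`, `Rt = W ∩ K`, `W = O₂(C(b))`.
-/

namespace Cfsg.Agent.KFacts.HS.Cent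

open Cfsg.Agent.HN Cfsg.Agent.HN.Pres Cfsg.Agent.HN.HS100 Cfsg.Agent.HN.P1408 Cfsg.Agent.HN.H0Basic
open Cfsg.Agent.HN.XMat Cfsg.Agent.HN.WMask
open Cfsg.Agent.SporadicA.PermTab (band band_eq_true allB allB_iff)

/-! ### the elements -/

/-- the element of order 4 with square `b` -/
def U : H0 := R 28

theorem U_sq : U * U = b := by
  rw [U, R, b, ← hw_append]
  exact hw_eq (by decide +kernel)

theorem R_mem_K_iff {m : ℕ} (hm : m < 128) : R m ∈ K ↔ par (rmw m) = false := by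
  constructor
  · intro h
    cases h1 : par (rmw m)
    · rfl
    · exact absurd h (not_mem_K_of_par (okw_rmw hm) h1)
  · exact mem_K_of_par (okw_rmw hm)

theorem b_mem_K : b ∈ K := mem_K_of_par (by decide) (by decide)

theorem sg_mem_K (e : Bool) : sg e ∈ K := by
  cases e
  · exact K.one_mem
  · exact b_mem_K

theorem gw_mem_K {g : ℕ} (hg : g < 2) : hw (gw g) ∈ K := by
  interval_cases g
  · exact mem_K_of_par (by decide) (by decide)
  · exact mem_K_of_par (by decide) (by decide)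

theorem E_mem_K {w : List ℕ} (h : ∀ g ∈ w, g < 2) : E w ∈ K := by
  induction w with
  | nil => exact K.one_mem
  | cons g w ih =>
    rw [E_cons]
    exact K.mul_mem (gw_mem_K (h g (by simp))) (ih fun g' hg' => h g' (by simp [hg']))

theorem U_mem_K : U ∈ K := (R_mem_K_iff (by norm_num)).2 (by decide +kernel)

/-- parity of a word in the generators -/
def evw (w : List ℕ) : Bool := List.rec true (fun g _ ih => bif Nat.beq g 1 then !ih else ih) w

theorem U_gw0 : U * hw (gw 0) = hw (gw 0) * U := by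
  rw [U, R, ← hw_append, ← hw_append]
  exact hw_eq (by decide +kernel)

/-- `a = b τ` -/
def sa (e : Bool) : H0 := bif e then b * τ else 1

theorem sa_comm {g : H0} (h : b * g = g * b) (e : Bool) : sa e * g = g * sa e := by
  cases e
  · exact (one_mul _).trans (mul_one _).symm
  · change b * τ * g = g * (b * τ)
    rw [mul_assoc, ← τ_comm, ← mul_assoc, h, mul_assoc]

theorem sa_sq : b * τ * (b * τ) = 1 := by
  calc b * τ * (b * τ) = b * (τ * b) * τ := by group
    _ = (b * b) * (τ * τ) := by rw [← τ_comm]; group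
    _ = 1 := by rw [b_sq, τ_mul_τ, one_mul]

theorem U_gw1 : U * hw (gw 1) = hw (gw 1) * (U * (b * τ)) := by
  rw [U, R, b, ← hw_τ, ← hw_append, ← hw_append, ← hw_append, ← hw_append]
  exact hw_eq (by decide +kernel)

theorem U_b : b * U = U * b := by rw [← U_sq, mul_assoc]

theorem bτ_ne : b * τ ≠ 1 := by
  rw [b_eq, mul_assoc, τ_mul_τ, mul_one]
  exact Classes.a_ne_one

theorem U_E {w : List ℕ} (h : ∀ g ∈ w, g < 2) : U * E w = E w * (U * sa (!evw w)) := by
  induction w with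
  | nil =>
    rw [E_nil]
    change U * 1 = 1 * (U * 1)
    group
  | cons g w ih =>
    have h3 : ∀ g ∈ w, g < 2 := fun g' hg' => h g' (by simp [hg'])
    have ih' := ih h3
    rw [E_cons]
    have hg : g < 2 := h g (by simp)
    interval_cases g
    · calc U * (hw (gw 0) * E w) = (U * hw (gw 0)) * E w := by rw [mul_assoc]
        _ = hw (gw 0) * (U * E w) := by rw [U_gw0, mul_assoc]
        _ = _ := by rw [ih']; change _ = hw (gw 0) * E w * (U * sa (!evw w)); group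
    · calc U * (hw (gw 1) * E w) = (U * hw (gw 1)) * E w := by rw [mul_assoc]
        _ = hw (gw 1) * (U * ((b * τ) * E w)) := by rw [U_gw1]; group
        _ = hw (gw 1) * ((U * E w) * (b * τ)) := by
            have := sa_comm (E_b h3) true
            change b * τ * E w = E w * (b * τ) at this
            rw [this]; group
        _ = hw (gw 1) * E w * (U * (sa (!evw w) * (b * τ))) := by rw [ih']; group
        _ = _ := by
            change _ = hw (gw 1) * E w * (U * sa (!(!evw w)))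
            cases evw w
            · change _ * (U * (b * τ * (b * τ))) = _ * (U * 1)
              rw [sa_sq]
            · change _ * (U * (1 * (b * τ))) = _ * (U * (b * τ))
              rw [one_mul]

private noncomputable def _root_.Cfsg.Agent.LsF.fc09395_0 : {f // @Cfsg.Agent.HN.WMask.qw = f} := ⟨_, by first | (delta Cfsg.Agent.HN.WMask.qw; (try delta Cfsg.Agent.HN.WMask.qw.match_1); (try rewrite [Cfsg.Agent.LsF.instDecEq_eq, Cfsg.Agent.LsF.dite_eq]); exact rfl) | exact rfl⟩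
private noncomputable def _root_.Cfsg.Agent.LsF.fc09395_1 : {f // @Cfsg.Agent.HN.WMask.rwn = f} := ⟨_, by first | (delta Cfsg.Agent.HN.WMask.rwn; rewrite [Cfsg.Agent.LsF.fc09395_0.2, Cfsg.Agent.LsF.lappend_pat, Cfsg.Agent.LsF.cond_eq, Cfsg.Agent.LsF.testBit_eq]; exact rfl) | exact rfl⟩
private noncomputable def _root_.Cfsg.Agent.LsF.fc09395_2 : {f // @Cfsg.Agent.HN.WMask.rmw = f} := ⟨_, by first | (delta Cfsg.Agent.HN.WMask.rmw; rewrite [Cfsg.Agent.LsF.fc09395_1.2]; exact rfl) | exact rfl⟩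
theorem chk_UR : allB (fun m => eqw (rmw 28 ++ rmw m) (rmw m ++ (rmw 28 ++ (bif par (rmw m) then bw else [])))) 128 = true := by
  ((try (rewrite [Cfsg.Agent.LsF.fc09395_2.2, Cfsg.Agent.LsF.lappend_pat, Cfsg.Agent.LsF.cond_eq])); decide +kernel)

theorem U_R {m : ℕ} (hm : m < 128) : U * R m = R m * (U * sg (par (rmw m))) := by
  have h := hw_eq ((allB_iff _ _).1 chk_UR m hm)
  rw [hw_append, hw_append, hw_append] at h
  cases h1 : par (rmw m)
  · rw [h1] at h; exact h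
  · rw [h1] at h; exact h

theorem U_el {m : ℕ} (hm : m < 128) {w : List ℕ} (hw1 : w ∈ S5W) (e : Bool) :
    U * el m w e = el m w e * (U * (sa (!evw w) * sg (par (rmw m)))) := by
  have h2 : ∀ e, sg e * U = U * sg e := sg_comm U_b
  have h3 : ∀ e, sg e * E w = E w * sg e := sg_comm (E_b (S5_lt hw1))
  have hsb : ∀ e, b * sg e = sg e * b := by
    intro e
    cases e
    · exact (mul_one _).trans (one_mul _).symm
    · rfl
  have h4 : ∀ e e', sa e * sg e' = sg e' * sa e := fun e e' => sa_comm (hsb e') e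
  have h5 : ∀ e e', sg e * sg e' = sg e' * sg e := by
    intro e e'; rw [sg_mul, sg_mul, Bool.xor_comm]
  unfold el
  calc U * (R m * E w * sg e) = (U * R m) * E w * sg e := by group
    _ = R m * (U * (sg (par (rmw m)) * E w)) * sg e := by rw [U_R hm]; group
    _ = R m * ((U * E w) * sg (par (rmw m))) * sg e := by rw [h3]; group
    _ = R m * E w * (U * (sa (!evw w) * (sg (par (rmw m)) * sg e))) := by rw [U_E (S5_lt hw1)]; group
    _ = R m * E w * (U * (sa (!evw w) * sg e * sg (par (rmw m)))) := by rw [h5, mul_assoc (sa _)]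
    _ = R m * E w * ((U * sg e) * (sa (!evw w) * sg (par (rmw m)))) := by rw [h4]; group
    _ = R m * E w * sg e * (U * (sa (!evw w) * sg (par (rmw m)))) := by rw [← h2]; group

theorem el_mem_K {m : ℕ} (hm : m < 128) {w : List ℕ} (hw1 : w ∈ S5W) {e : Bool} :
    el m w e ∈ K ↔ par (rmw m) = false := by
  rw [← R_mem_K_iff hm]
  unfold el
  rw [K.mul_mem_cancel_right (sg_mem_K e), K.mul_mem_cancel_right (E_mem_K (S5_lt hw1))]

/-! ### the subgroups -/

/-- the preimage of `C_K(z)` -/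
def Pt : Subgroup H0 := Subgroup.centralizer {b} ⊓ K

/-- the preimage of `C_K(u)` -/
def P0t : Subgroup H0 := Subgroup.centralizer {U} ⊓ K

/-- `W = O₂(C(b))` -/
def Wt : Subgroup H0 where
  carrier := {g | ∃ m < 128, ∃ e, g = R m * sg e}
  one_mem' := ⟨0, by norm_num, false, by rw [R_zero]; exact (mul_one _).symm⟩
  mul_mem' := by
    rintro _ _ ⟨m, hm, e, rfl⟩ ⟨m', hm', e', rfl⟩
    obtain ⟨e1, h1⟩ := R_mul m m'
    refine ⟨m ^^^ m', xor_lt hm hm', (e1 ^^ e) ^^ e', ?_⟩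
    calc R m * sg e * (R m' * sg e') = R m * (sg e * R m') * sg e' := by group
      _ = (R m * R m') * sg e * sg e' := by rw [R_sg]; group
      _ = R (m ^^^ m') * (sg e1 * sg e * sg e') := by rw [h1]; group
      _ = _ := by rw [sg_mul, sg_mul]
  inv_mem' := by
    rintro _ ⟨m, hm, e, rfl⟩
    obtain ⟨e1, h1⟩ := R_sq m
    refine ⟨m, hm, e1 ^^ e, ?_⟩
    rw [inv_eq_iff_mul_eq_one]
    calc R m * sg e * (R m * sg (e1 ^^ e)) = R m * (sg e * R m) * sg (e1 ^^ e) := by group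
      _ = (R m * R m) * (sg e * sg (e1 ^^ e)) := by rw [R_sg]; group
      _ = 1 := by rw [h1, sg_mul, sg_mul]; cases e1 <;> cases e <;> rfl

/-- the preimage of `R` -/
def Rt : Subgroup H0 := Wt ⊓ K

theorem mem_Pt {h : H0} : h ∈ Pt ↔ h * b = b * h ∧ h ∈ K := by
  unfold Pt
  rw [Subgroup.mem_inf, Subgroup.mem_centralizer_singleton_iff]

theorem mem_P0t {h : H0} : h ∈ P0t ↔ h * U = U * h ∧ h ∈ K := by
  unfold P0t
  rw [Subgroup.mem_inf, Subgroup.mem_centralizer_singleton_iff]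

theorem mem_Wt {h : H0} : h ∈ Wt ↔ ∃ m < 128, ∃ e, h = R m * sg e := Iff.rfl

theorem mem_Rt {h : H0} : h ∈ Rt ↔ ∃ m < 128, par (rmw m) = false ∧ ∃ e, h = R m * sg e := by
  unfold Rt
  rw [Subgroup.mem_inf, mem_Wt]
  constructor
  · rintro ⟨⟨m, hm, e, rfl⟩, h2⟩
    rw [K.mul_mem_cancel_right (sg_mem_K e), R_mem_K_iff hm] at h2
    exact ⟨m, hm, h2, e, rfl⟩
  · rintro ⟨m, hm, h2, e, rfl⟩
    refine ⟨⟨m, hm, e, rfl⟩, ?_⟩
    rwa [K.mul_mem_cancel_right (sg_mem_K e), R_mem_K_iff hm]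

theorem exists_of_mem_Pt {h : H0} (hh : h ∈ Pt) :
    ∃ m < 128, par (rmw m) = false ∧ ∃ w ∈ S5W, ∃ e, h = el m w e := by
  obtain ⟨h1, h2⟩ := mem_Pt.1 hh
  obtain ⟨m, hm, w, hw1, e, rfl⟩ := cent_b h1.symm
  exact ⟨m, hm, (el_mem_K hm hw1).1 h2, w, hw1, e, rfl⟩

theorem el_mem_Pt {m : ℕ} (hm : m < 128) (hp : par (rmw m) = false) {w : List ℕ} (hw1 : w ∈ S5W) (e : Bool) :
    el m w e ∈ Pt :=
  mem_Pt.2 ⟨(el_b m hw1 e).symm, (el_mem_K hm hw1).2 hp⟩

theorem P0t_le : P0t ≤ Pt := by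
  intro h hh
  obtain ⟨h1, h2⟩ := mem_P0t.1 hh
  refine mem_Pt.2 ⟨?_, h2⟩
  rw [← U_sq, ← mul_assoc, h1, mul_assoc, h1, mul_assoc]

theorem el_mem_P0t {m : ℕ} (hm : m < 128) (hp : par (rmw m) = false) {w : List ℕ} (hw1 : w ∈ S5W) {e : Bool} :
    el m w e ∈ P0t ↔ evw w = true := by
  rw [mem_P0t, and_iff_left ((el_mem_K hm hw1).2 hp)]
  have h := U_el hm hw1 e
  rw [hp] at h
  constructor
  · intro h1
    rw [← h1] at h
    have h2 : sa (!evw w) * 1 = 1 := mul_eq_left.1 (mul_left_cancel h).symm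
    cases h3 : evw w
    · rw [h3, mul_one] at h2
      exact absurd h2 bτ_ne
    · rfl
  · intro h1
    rw [h, h1]
    change _ = el m w e * (U * (1 * 1))
    rw [mul_one, mul_one]

theorem exists_of_mem_P0t {h : H0} (hh : h ∈ P0t) :
    ∃ m < 128, par (rmw m) = false ∧ ∃ w ∈ S5W, evw w = true ∧ ∃ e, h = el m w e := by
  obtain ⟨m, hm, hp, w, hw1, e, rfl⟩ := exists_of_mem_Pt (P0t_le hh)
  exact ⟨m, hm, hp, w, hw1, (el_mem_P0t hm hp hw1).1 hh, e, rfl⟩

theorem nil_mem : ([] : List ℕ) ∈ S5W := by decide +kernel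

theorem Rt_le : Rt ≤ P0t := by
  intro h hh
  obtain ⟨m, hm, hp, e, rfl⟩ := mem_Rt.1 hh
  have h1 : R m * sg e = el m [] e := by rw [WMask.el, E_nil, mul_one]
  rw [h1]
  exact (el_mem_P0t hm hp nil_mem).2 rfl

end Cfsg.Agent.KFacts.HS.Cent

end

-- merged: Cfsg.Agent.KFacts.HS.Cent3
section

set_option autoImplicit false

/-!
# Facts on `HS`: normal 2-subgroups of `C(z)`, in `H0 = 2.HS.2`
-/

namespace Cfsg.Agent.KFacts.HS.Cent

open Cfsg.Agent.HN Cfsg.Agent.HN.Pres Cfsg.Agent.HN.HS100 Cfsg.Agent.HN.P1408 Cfsg.Agent.HN.H0Basic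
open Cfsg.Agent.HN.XMat Cfsg.Agent.HN.WMask
open Cfsg.Agent.SporadicA.PermTab (band band_eq_true allB allB_iff)

/-! ### 2-subgroups normalised by `P0t` -/

/-- `x` acts as `h⁻¹ w h` -/
def rel (w h x : List ℕ) : Bool := allB (fun i => Nat.beq (fw x (fw h (2 ^ i))) (fw h (fw w (2 ^ i)))) 7

/-- the action of `w x` has order 3 or 5 -/
def bad (w x : List ℕ) : Bool :=
  bif allB (fun i => Nat.beq (fw x (fw w (2 ^ i))) (2 ^ i)) 7 then false else
    bif allB (fun i => Nat.beq ((fun m => fw x (fw w m))^[3] (2 ^ i)) (2 ^ i)) 7 then true else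
      allB (fun i => Nat.beq ((fun m => fw x (fw w m))^[5] (2 ^ i)) (2 ^ i)) 7

def chkCore (w : List ℕ) : Bool :=
  bif w.isEmpty then true else
    [[], [0], [1, 1], [1, 0, 1]].any (fun h => S5W.all (fun x => bif rel w h x then bad w x else true))

private noncomputable def _root_.Cfsg.Agent.LsF.fc09395_3 : {f // @Cfsg.Agent.KFacts.HS.Cent.rel = f} := ⟨_, by first | (delta Cfsg.Agent.KFacts.HS.Cent.rel; rewrite [Cfsg.Agent.LsF.npow_pat]; exact rfl) | exact rfl⟩
private noncomputable def _root_.Cfsg.Agent.LsF.fc09395_4 : {f // @Cfsg.Agent.KFacts.HS.Cent.bad = f} := ⟨_, by first | (delta Cfsg.Agent.KFacts.HS.Cent.bad; rewrite [Cfsg.Agent.LsF.npow_pat, Cfsg.Agent.LsF.iterate_eq, Cfsg.Agent.LsF.cond_eq]; exact rfl) | exact rfl⟩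
private noncomputable def _root_.Cfsg.Agent.LsF.fc09395_5 : {f // @Cfsg.Agent.KFacts.HS.Cent.chkCore = f} := ⟨_, by first | (delta Cfsg.Agent.KFacts.HS.Cent.chkCore; rewrite [Cfsg.Agent.LsF.fc09395_3.2, Cfsg.Agent.LsF.fc09395_4.2, Cfsg.Agent.LsF.cond_eq, Cfsg.Agent.LsF.all_eq, Cfsg.Agent.LsF.any_eq, Cfsg.Agent.LsF.isEmpty_eq]; exact rfl) | exact rfl⟩
theorem chkCore_all : S5W.all chkCore = true := by ((try (rewrite [Cfsg.Agent.LsF.fc09395_5.2, Cfsg.Agent.LsF.all_eq])); decide +kernel)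

theorem allB_beq {f g : ℕ → ℕ} {n : ℕ} : allB (fun i => Nat.beq (f i) (g i)) n = true ↔ ∀ i < n, f i = g i := by
  rw [allB_iff]
  exact forall₂_congr fun i _ => ⟨Nat.eq_of_beq_eq_true, fun h => h ▸ Nat.beq_refl _⟩

theorem even4 : ∀ h ∈ ([[], [0], [1, 1], [1, 0, 1]] : List (List ℕ)), evw h = true ∧ h ∈ S5W := by
  decide +kernel

/-- 2-subgroups of `C(b) ∩ K` normalised by `P0t` are in `Rt` -/
theorem core {N : Subgroup H0} (hN : N ≤ Pt) (h2 : ∀ g ∈ N, ∃ k : ℕ, g ^ 2 ^ k = 1)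
    (hn : ∀ h ∈ P0t, ∀ g ∈ N, h * g * h⁻¹ ∈ N) : N ≤ Rt := by
  intro g hg
  obtain ⟨m, hm, hp, w, hw1, e, rfl⟩ := exists_of_mem_Pt (hN hg)
  have h1 := List.all_eq_true.1 chkCore_all w hw1
  unfold chkCore at h1
  cases h0 : w.isEmpty
  · rw [h0, cond_false, List.any_eq_true] at h1
    obtain ⟨h, hh, h3⟩ := h1
    rw [List.all_eq_true] at h3
    obtain ⟨hev, hhS⟩ := even4 h hh
    have hP : E h ∈ P0t := by
      have : E h = el 0 h false := by
        unfold el
        rw [R_zero, one_mul]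
        exact (mul_one _).symm
      rw [this]
      exact (el_mem_P0t (by norm_num) (by decide) hhS).2 hev
    set x : H0 := (E h)⁻¹ * el m w e * E h with hx
    have hxN : x ∈ N := by
      have := hn _ (P0t.inv_mem hP) _ hg
      rwa [inv_inv] at this
    have hag : Act (el m w e) (fw w) := Act.el m hw1 e
    have hah : Act (E h) (fw h) := Act.E (S5_lt hhS)
    obtain ⟨wx, hwx, hax⟩ := Act.exists_of_comm (g := x) (mem_Pt.1 (hN hxN)).1.symm
    have hrel : rel w h wx = true := by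
      unfold rel
      rw [allB_beq]
      intro i hi
      have e1 : E h * x = el m w e * E h := by rw [hx]; group
      have a1 := hah.mul hax
      rw [e1] at a1
      exact a1.uniq (hag.mul hah) (two_pow_lt hi)
    have h4 := h3 wx hwx
    rw [hrel, cond_true] at h4
    unfold bad at h4
    have hag2 := hag.mul hax
    obtain ⟨k, hk⟩ := h2 _ (N.mul_mem hg hxN)
    cases h5 : allB (fun i => Nat.beq (fw wx (fw w (2 ^ i))) (2 ^ i)) 7
    · exfalso
      have h6 : ∀ i < 7, fw wx (fw w (2 ^ i)) = 2 ^ i := by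
        rw [h5, cond_false] at h4
        cases h7 : allB (fun i => Nat.beq ((fun m => fw wx (fw w m))^[3] (2 ^ i)) (2 ^ i)) 7
        · rw [h7, cond_false] at h4
          exact hag2.trivial_of hk (n := 5) (by decide) (allB_beq.1 h4)
        · exact hag2.trivial_of hk (n := 3) (by decide) (allB_beq.1 h7)
      rw [← allB_beq] at h6
      rw [h6] at h5
      exact absurd h5 (by decide)
    · rw [h5, cond_true] at h4
      exact absurd h4 (by decide)
  · have : w = [] := List.isEmpty_iff.1 h0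
    subst this
    exact mem_Rt.2 ⟨m, hm, hp, e, by rw [WMask.el, E_nil, mul_one]⟩

/-! ### subgroups of `Rt` normalised by `P0t` -/

/-- sum of images of a mask -/
def xorl (ws : List (List ℕ)) (m : ℕ) : ℕ := List.rec 0 (fun w _ ih => fw w m ^^^ ih) ws

/-- the mask is in the radical -/
def inU (m : ℕ) : Bool := [0, 1, 28, 29].any (fun k => Nat.beq m k)

/-- orbits of `P0t` on the masks of `Rt` -/
def chkOrb (m : ℕ) : Bool :=
  bif par (rmw m) then true else bif inU m then true else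
    S5W.any (fun w => bif evw w then [2, 3, 12, 13].any (fun k => Nat.beq (fw w m) k) else false)

private noncomputable def _root_.Cfsg.Agent.LsF.fc09395_6 : {f // @Cfsg.Agent.KFacts.HS.Cent.inU = f} := ⟨_, by first | (delta Cfsg.Agent.KFacts.HS.Cent.inU; rewrite [Cfsg.Agent.LsF.any_eq]; exact rfl) | exact rfl⟩
private noncomputable def _root_.Cfsg.Agent.LsF.fc09395_7 : {f // @Cfsg.Agent.KFacts.HS.Cent.evw = f} := ⟨_, by first | (delta Cfsg.Agent.KFacts.HS.Cent.evw; rewrite [Cfsg.Agent.LsF.not_eq, Cfsg.Agent.LsF.cond_eq]; exact rfl) | exact rfl⟩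
private noncomputable def _root_.Cfsg.Agent.LsF.fc09395_8 : {f // @Cfsg.Agent.KFacts.HS.Cent.chkOrb = f} := ⟨_, by first | (delta Cfsg.Agent.KFacts.HS.Cent.chkOrb; rewrite [Cfsg.Agent.LsF.fc09395_2.2, Cfsg.Agent.LsF.fc09395_6.2, Cfsg.Agent.LsF.fc09395_7.2, Cfsg.Agent.LsF.cond_eq, Cfsg.Agent.LsF.any_eq]; exact rfl) | exact rfl⟩
theorem chkOrb_all : allB chkOrb 128 = true := by ((try (rewrite [Cfsg.Agent.LsF.fc09395_8.2])); decide +kernel)

/-- certificates of generation -/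
def certs : List (ℕ × ℕ × List (List ℕ)) :=
  [(2, 12, [[0, 1, 0, 1], [0]]), (2, 16, [[0, 1, 1, 0]]), (2, 36, [[0, 1, 0, 1]]), (2, 68, [[1, 0, 1]]),
    (12, 2, [[0, 1, 0, 1, 0, 0], []]), (12, 16, [[1, 0, 1, 0], [0, 1, 0, 1]]), (12, 36, [[0, 1, 0, 1], [0, 0]]),
    (12, 68, [[0, 1, 0, 1, 0], []])]

theorem certs_ok : ∀ c ∈ certs, (∀ w ∈ c.2.2, evw w = true ∧ w ∈ S5W) ∧
    (Nat.beq (xorl c.2.2 c.1) c.2.1 || Nat.beq (xorl c.2.2 c.1 ^^^ 1) c.2.1) = true := by decide +kernel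

/-- decomposition of an even mask -/
def comb (m : ℕ) : ℕ :=
  (bif m.testBit 0 then 1 else 0) ^^^ ((bif xor (m.testBit 1) false then 2 else 0) ^^^
    ((bif m.testBit 4 then 16 else 0) ^^^ ((bif m.testBit 3 then 12 else 0) ^^^
      ((bif m.testBit 5 then 36 else 0) ^^^ (bif m.testBit 6 then 68 else 0)))))

private noncomputable def _root_.Cfsg.Agent.LsF.fc09395_9 : {f // @Cfsg.Agent.KFacts.HS.Cent.comb = f} := ⟨_, by first | (delta Cfsg.Agent.KFacts.HS.Cent.comb; rewrite [Cfsg.Agent.LsF.nxor_pat, Cfsg.Agent.LsF.cond_eq, Cfsg.Agent.LsF.testBit_eq, Cfsg.Agent.LsF.bxor_eq]; exact rfl) | exact rfl⟩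
theorem comb_ok : allB (fun m => bif par (rmw m) then true else Nat.beq (comb m) m) 128 = true := by ((try (rewrite [Cfsg.Agent.LsF.fc09395_2.2, Cfsg.Agent.LsF.fc09395_9.2, Cfsg.Agent.LsF.cond_eq])); decide +kernel)

section

variable {N : Subgroup H0}

/-- the mask is good -/
def Good (N : Subgroup H0) (m : ℕ) : Prop := ∃ e, R m * sg e ∈ N

theorem Good.xor {m m' : ℕ} (h : Good N m) (h' : Good N m') : Good N (m ^^^ m') := by
  obtain ⟨e, h⟩ := h
  obtain ⟨e', h'⟩ := h'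
  obtain ⟨e1, h1⟩ := R_mul m m'
  refine ⟨(e1 ^^ e) ^^ e', ?_⟩
  have h2 : R m * sg e * (R m' * sg e') = R (m ^^^ m') * sg ((e1 ^^ e) ^^ e') := by
    calc R m * sg e * (R m' * sg e') = R m * (sg e * R m') * sg e' := by group
      _ = (R m * R m') * sg e * sg e' := by rw [R_sg]; group
      _ = R (m ^^^ m') * (sg e1 * sg e * sg e') := by rw [h1]; group
      _ = _ := by rw [sg_mul, sg_mul]
  rw [← h2]
  exact N.mul_mem h h'

theorem Good.zero : Good N 0 := ⟨false, by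
  have : R 0 * sg false = 1 := mul_one _
  rw [this]; exact N.one_mem⟩

theorem E_mem_P0t {w : List ℕ} (hw1 : w ∈ S5W) (hev : evw w = true) : E w ∈ P0t := by
  have : E w = el 0 w false := by
    unfold el
    rw [R_zero, one_mul]
    exact (mul_one _).symm
  rw [this]
  exact (el_mem_P0t (by norm_num) (by decide) hw1).2 hev

theorem Good.fw (hn : ∀ h ∈ P0t, ∀ g ∈ N, h * g * h⁻¹ ∈ N) {m : ℕ} (hm : m < 128) (h : Good N m)
    {w : List ℕ} (hw1 : w ∈ S5W) (hev : evw w = true) : Good N (fw w m) := by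
  obtain ⟨e, h⟩ := h
  obtain ⟨e1, h1⟩ := act_E (S5_lt hw1) hm
  refine ⟨e1 ^^ e, ?_⟩
  have h2 := hn _ (P0t.inv_mem (E_mem_P0t hw1 hev)) _ h
  have h3 : (E w)⁻¹ * (R m * sg e) * (E w)⁻¹⁻¹ = R (WMask.fw w m) * sg (e1 ^^ e) := by
    calc (E w)⁻¹ * (R m * sg e) * (E w)⁻¹⁻¹ = (E w)⁻¹ * (R m * (sg e * E w)) := by group
      _ = (E w)⁻¹ * ((R m * E w) * sg e) := by rw [sg_comm (E_b (S5_lt hw1))]; group
      _ = R (WMask.fw w m) * (sg e1 * sg e) := by rw [h1]; group
      _ = _ := by rw [sg_mul]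
  rwa [h3] at h2

theorem Good.xorl (hn : ∀ h ∈ P0t, ∀ g ∈ N, h * g * h⁻¹ ∈ N) {m : ℕ} (hm : m < 128) (h : Good N m)
    {ws : List (List ℕ)} (hw : ∀ w ∈ ws, evw w = true ∧ w ∈ S5W) : Good N (xorl ws m) := by
  induction ws with
  | nil => exact Good.zero
  | cons w ws ih =>
    exact (Good.fw hn hm h (hw w (by simp)).2 (hw w (by simp)).1).xor (ih fun w' hw' => hw w' (by simp [hw']))

theorem Good.one (ht : τ ∈ N) : Good N 1 := ⟨false, by
  have : R 1 * sg false = τ := by rw [R_one]; exact mul_one _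
  rw [this]; exact ht⟩

theorem Good.gen (hn : ∀ h ∈ P0t, ∀ g ∈ N, h * g * h⁻¹ ∈ N) (ht : τ ∈ N) {m0 t : ℕ} (hm : m0 < 128)
    (h : Good N m0) {ws : List (List ℕ)} (hc : (m0, t, ws) ∈ certs) : Good N t := by
  obtain ⟨h1, h2⟩ := certs_ok _ hc
  have h3 := Good.xorl hn hm h h1
  rw [Bool.or_eq_true] at h2
  rcases h2 with h2 | h2
  · have h4 := Nat.eq_of_beq_eq_true h2
    change Cent.xorl ws m0 = t at h4
    rwa [h4] at h3
  · have h4 := Nat.eq_of_beq_eq_true h2
    change Cent.xorl ws m0 ^^^ 1 = t at h4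
    rw [← h4]
    exact h3.xor (Good.one ht)

theorem Good.all (ht : τ ∈ N) (h2 : Good N 2) (h12 : Good N 12) (h16 : Good N 16) (h36 : Good N 36)
    (h68 : Good N 68) {m : ℕ} (hm : m < 128) (hp : par (rmw m) = false) : Good N m := by
  have h := (allB_iff _ _).1 comb_ok m hm
  rw [hp, cond_false] at h
  rw [← Nat.eq_of_beq_eq_true h]
  have hc : ∀ (c : Bool) (k : ℕ), Good N k → Good N (bif c then k else 0) := by
    intro c k hk
    cases c
    · exact Good.zero
    · exact hk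
  exact (hc _ _ (Good.one ht)).xor ((hc _ _ h2).xor ((hc _ _ h16).xor ((hc _ _ h12).xor ((hc _ _ h36).xor (hc _ _ h68)))))

theorem R2_R68 : R 2 * R 68 = R 68 * (R 2 * b) := by
  rw [R, R, b, ← hw_append, ← hw_append, ← hw_append]
  exact hw_eq (by decide +kernel)

/-- a subgroup normalised by `P0t` with a mask outside the radical contains `Rt` -/
theorem Rt_le_of_good (hn : ∀ h ∈ P0t, ∀ g ∈ N, h * g * h⁻¹ ∈ N) (ht : τ ∈ N) {m : ℕ} (hm : m < 128)
    (hp : par (rmw m) = false) (h : Good N m) (hu : inU m = false) : Rt ≤ N := by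
  have h1 := (allB_iff _ _).1 chkOrb_all m hm
  unfold chkOrb at h1
  rw [hp, hu, cond_false, cond_false, List.any_eq_true] at h1
  obtain ⟨w, hw1, h2⟩ := h1
  cases hev : evw w
  · rw [hev, cond_false] at h2
    exact absurd h2 (by decide)
  rw [hev, cond_true, List.any_eq_true] at h2
  obtain ⟨k, hk, h3⟩ := h2
  have h4 := Nat.eq_of_beq_eq_true h3
  have h5 := Good.fw hn hm h hw1 hev
  rw [h4] at h5
  have h6 : Good N 2 ∨ Good N 12 := by
    simp only [List.mem_cons, List.not_mem_nil, or_false] at hk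
    rcases hk with rfl | rfl | rfl | rfl
    · exact Or.inl h5
    · exact Or.inl (h5.xor (Good.one ht) : Good N (3 ^^^ 1))
    · exact Or.inr h5
    · exact Or.inr (h5.xor (Good.one ht) : Good N (13 ^^^ 1))
  have h7 : Good N 2 ∧ Good N 12 ∧ Good N 16 ∧ Good N 36 ∧ Good N 68 := by
    rcases h6 with h6 | h6
    · exact ⟨h6, h6.gen hn ht (by norm_num) (t := 12) (List.mem_cons_self),
        h6.gen hn ht (by norm_num) (t := 16) (ws := [[0, 1, 1, 0]]) (by decide),
        h6.gen hn ht (by norm_num) (t := 36) (ws := [[0, 1, 0, 1]]) (by decide),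
        h6.gen hn ht (by norm_num) (t := 68) (ws := [[1, 0, 1]]) (by decide)⟩
    · exact ⟨h6.gen hn ht (by norm_num) (t := 2) (ws := [[0, 1, 0, 1, 0, 0], []]) (by decide), h6,
        h6.gen hn ht (by norm_num) (t := 16) (ws := [[1, 0, 1, 0], [0, 1, 0, 1]]) (by decide),
        h6.gen hn ht (by norm_num) (t := 36) (ws := [[0, 1, 0, 1], [0, 0]]) (by decide),
        h6.gen hn ht (by norm_num) (t := 68) (ws := [[0, 1, 0, 1, 0], []]) (by decide)⟩
  obtain ⟨g2, g12, g16, g36, g68⟩ := h7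
  have hb : b ∈ N := by
    obtain ⟨e, he⟩ := g2
    obtain ⟨e', he'⟩ := g68
    have h8 : (R 68 * sg e' * (R 2 * sg e))⁻¹ * (R 2 * sg e * (R 68 * sg e')) = b := by
      have h9 : R 2 * sg e * (R 68 * sg e') = R 68 * sg e' * (R 2 * sg e) * b := by
        calc R 2 * sg e * (R 68 * sg e') = R 2 * (sg e * R 68) * sg e' := by group
          _ = (R 2 * R 68) * (sg e * sg e') := by rw [R_sg]; group
          _ = R 68 * R 2 * (b * (sg e * sg e')) := by rw [R2_R68]; group
          _ = R 68 * R 2 * (sg e' * sg e * b) := by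
              have h10 : b * (sg e * sg e') = sg e' * sg e * b := by
                change sg true * _ = _ * sg true
                rw [sg_mul, sg_mul, sg_mul, sg_mul]
                cases e <;> cases e' <;> rfl
              rw [h10]
          _ = R 68 * (R 2 * sg e') * sg e * b := by group
          _ = _ := by rw [← R_sg]; group
      rw [h9, inv_mul_cancel_left]
    rw [← h8]
    exact N.mul_mem (N.inv_mem (N.mul_mem he' he)) (N.mul_mem he he')
  intro g hg
  obtain ⟨m', hm', hp', e, rfl⟩ := mem_Rt.1 hg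
  obtain ⟨e', he'⟩ := Good.all ht g2 g12 g16 g36 g68 hm' hp'
  have h8 : sg (e' ^^ e) ∈ N := by
    cases e' ^^ e
    · exact N.one_mem
    · exact hb
  have h9 : R m' * sg e = R m' * sg e' * sg (e' ^^ e) := by
    rw [mul_assoc, sg_mul]
    cases e <;> cases e' <;> rfl
  rw [h9]
  exact N.mul_mem he' h8

theorem inU_cases {m : ℕ} (h : inU m = true) : m = 0 ∨ m = 1 ∨ m = 28 ∨ m = 29 := by
  unfold inU at h
  rw [List.any_eq_true] at h
  obtain ⟨k, hk, h1⟩ := h
  rw [Nat.eq_of_beq_eq_true h1]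
  simpa using hk

theorem R29_eq : ∃ e, R 29 = U * τ * sg e := by
  rw [U, R, R, ← hw_τ, ← hw_append]
  exact eqb_spec (by decide +kernel)

/-- **subgroups of `Rt` containing `τ`, normalised by `P0t`** -/
theorem subs (hN : N ≤ Rt) (hn : ∀ h ∈ P0t, ∀ g ∈ N, h * g * h⁻¹ ∈ N) (ht : τ ∈ N) :
    (∀ g ∈ N, ∃ e, g = sg e ∨ g = τ * sg e) ∨
      (U ∈ N ∧ ∀ g ∈ N, ∃ e, g = sg e ∨ g = τ * sg e ∨ g = U * sg e ∨ g = U * τ * sg e) ∨ N = Rt := by
  by_cases h : ∃ g ∈ N, ∃ m < 128, par (rmw m) = false ∧ inU m = false ∧ ∃ e, g = R m * sg e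
  · obtain ⟨g, hg, m, hm, hp, hu, e, rfl⟩ := h
    exact Or.inr (Or.inr (le_antisymm hN (Rt_le_of_good hn ht hm hp ⟨e, hg⟩ hu)))
  · have key : ∀ g ∈ N, ∃ e, g = sg e ∨ g = τ * sg e ∨ g = U * sg e ∨ g = U * τ * sg e := by
      intro g hg
      obtain ⟨m, hm, hp, e, rfl⟩ := mem_Rt.1 (hN hg)
      have hu : inU m = true := by
        by_contra hu
        exact h ⟨_, hg, m, hm, hp, Bool.eq_false_iff.2 hu, e, rfl⟩
      rcases inU_cases hu with rfl | rfl | rfl | rfl
      · exact ⟨e, Or.inl (by rw [R_zero, one_mul])⟩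
      · exact ⟨e, Or.inr (Or.inl (by rw [R_one]))⟩
      · exact ⟨e, Or.inr (Or.inr (Or.inl rfl))⟩
      · obtain ⟨e', h'⟩ := R29_eq
        exact ⟨e' ^^ e, Or.inr (Or.inr (Or.inr (by rw [h', mul_assoc, sg_mul])))⟩
    have hsb : ∀ e, b * sg e = sg e * b := by
      intro e
      cases e
      · exact (mul_one _).trans (one_mul _).symm
      · rfl
    by_cases hU : ∃ g ∈ N, ∃ e, g = U * sg e ∨ g = U * τ * sg e
    · right; left
      refine ⟨?_, key⟩
      obtain ⟨g, hg, e, h1⟩ := hU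
      have h2 : U * sg e ∈ N := by
        rcases h1 with rfl | rfl
        · exact hg
        · have h3 : U * sg e = τ * (U * τ * sg e) := by
            calc U * sg e = U * (τ * τ) * sg e := by rw [τ_mul_τ, mul_one]
              _ = (U * τ) * τ * sg e := by group
              _ = τ * (U * τ) * sg e := by rw [τ_comm (U * τ)]
              _ = _ := by group
          rw [h3]
          exact N.mul_mem ht hg
      have h3 : sg e * U = U * sg e := sg_comm U_b e
      have h4 : b ∈ N := by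
        have h5 : U * sg e * (U * sg e) = b := by
          calc U * sg e * (U * sg e) = U * (sg e * U) * sg e := by group
            _ = (U * U) * (sg e * sg e) := by rw [h3]; group
            _ = b := by rw [U_sq, sg_mul, Bool.xor_self]; exact mul_one _
        rw [← h5]
        exact N.mul_mem h2 h2
      have h6 : U = U * sg e * sg e := by
        rw [mul_assoc, sg_mul, Bool.xor_self]; exact (mul_one _).symm
      rw [h6]
      refine N.mul_mem h2 ?_
      cases e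
      · exact N.one_mem
      · exact h4
    · left
      intro g hg
      obtain ⟨e, h1 | h1 | h1 | h1⟩ := key g hg
      · exact ⟨e, Or.inl h1⟩
      · exact ⟨e, Or.inr h1⟩
      · exact absurd ⟨g, hg, e, Or.inl h1⟩ hU
      · exact absurd ⟨g, hg, e, Or.inr h1⟩ hU

end

end Cfsg.Agent.KFacts.HS.Cent

end
end

-- part: KFacts/HS/Cent5
section
-- merged: Cfsg.Agent.KFacts.HS.Cent4
section

set_option autoImplicit false

/-!
# Facts on `HS`: `P0t` is perfect modulo `τ`; automorphisms trivial on sections, in `H0 = 2.HS.2`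
-/

namespace Cfsg.Agent.KFacts.HS.Cent

open Cfsg.Agent.HN Cfsg.Agent.HN.Pres Cfsg.Agent.HN.HS100 Cfsg.Agent.HN.P1408 Cfsg.Agent.HN.H0Basic
open Cfsg.Agent.HN.XMat Cfsg.Agent.HN.WMask
open Cfsg.Agent.SporadicA.PermTab (band band_eq_true allB allB_iff)

/-! ### normality -/

/-- `W` is normal in `C(b)` -/
theorem Wt_conj {g : H0} (hg : g * b = b * g) {r : H0} (hr : r ∈ Wt) : g * r * g⁻¹ ∈ Wt := by
  obtain ⟨m, hm, e, rfl⟩ := hr
  have hg' : b * g⁻¹ = g⁻¹ * b := by
    rw [eq_inv_mul_iff_mul_eq, ← mul_assoc, hg, mul_assoc, mul_inv_cancel, mul_one]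
  obtain ⟨w, hw1, ha⟩ := Act.exists_of_comm hg'
  obtain ⟨e', he'⟩ := ha.eq m hm
  refine ⟨fw w m, ha.lt m hm, e' ^^ e, ?_⟩
  calc g * (R m * sg e) * g⁻¹ = g * (R m * (sg e * g⁻¹)) := by group
    _ = g * ((R m * g⁻¹) * sg e) := by rw [sg_comm hg']; group
    _ = R (fw w m) * (sg e' * sg e) := by rw [he']; group
    _ = _ := by rw [sg_mul]

theorem K_conj {g k : H0} (hk : k ∈ K) : g * k * g⁻¹ ∈ K := Subgroup.Normal.conj_mem inferInstance _ hk _

theorem Rt_conj {g : H0} (hg : g * b = b * g) {r : H0} (hr : r ∈ Rt) : g * r * g⁻¹ ∈ Rt :=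
  ⟨Wt_conj hg hr.1, K_conj hr.2⟩

theorem Pt_conj {g : H0} (hg : g * b = b * g) {r : H0} (hr : r ∈ Pt) : g * r * g⁻¹ ∈ Pt := by
  obtain ⟨h1, h2⟩ := mem_Pt.1 hr
  refine mem_Pt.2 ⟨?_, K_conj h2⟩
  have c1 : Commute g b := hg
  have c2 : Commute r b := h1
  exact (c1.mul_left c2).mul_left c1.inv_left

theorem Rt_le_Wt : Rt ≤ Wt := inf_le_left

theorem τ_mem_Rt : τ ∈ Rt := by
  refine mem_Rt.2 ⟨1, by norm_num, by decide, false, ?_⟩
  rw [R_one]; exact (mul_one _).symm

theorem b_mem_Rt : b ∈ Rt := mem_Rt.2 ⟨0, by norm_num, by decide, true, by rw [R_zero, one_mul]; rfl⟩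

theorem U_mem_Rt : U ∈ Rt := mem_Rt.2 ⟨28, by norm_num, by decide +kernel, false, (mul_one _).symm⟩

theorem bτ : b * τ = τ * b := τ_comm b

/-! ### `P0t` is perfect modulo `τ` -/

/-- equality of words up to `b` and `τ` -/
def eqbt (u v : List ℕ) : Bool := bif eqb u v then true else eqb u (v ++ [0, 0])

theorem eqbt_spec {u v : List ℕ} (h : eqbt u v = true) : ∃ e, hw u = hw v * sg e ∨ hw u = hw v * τ * sg e := by
  unfold eqbt at h
  cases h1 : eqb u v
  · rw [h1, cond_false] at h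
    obtain ⟨e, he⟩ := eqb_spec h
    rw [hw_append, hw_τ] at he
    exact ⟨e, Or.inr he⟩
  · obtain ⟨e, he⟩ := eqb_spec h1
    exact ⟨e, Or.inl he⟩

section

variable {D : Subgroup H0}

theorem sg_mem (hR : Rt ≤ D) (e : Bool) : sg e ∈ D := by
  cases e
  · exact D.one_mem
  · exact hR b_mem_Rt

/-- membership up to `b` and `τ` -/
theorem mem_of_eqbt (hR : Rt ≤ D) {u v : List ℕ} (h : eqbt u v = true) : hw u ∈ D ↔ hw v ∈ D := by
  obtain ⟨e, he | he⟩ := eqbt_spec h
  · rw [he, D.mul_mem_cancel_right (sg_mem hR e)]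
  · rw [he, D.mul_mem_cancel_right (sg_mem hR e), D.mul_mem_cancel_right (hR τ_mem_Rt)]

/-- the word of the element inverting `y²` -/
def tw : List ℕ := rmw 2 ++ ew [1, 0, 0, 1, 0, 1, 1]

theorem tw_mem : hw tw ∈ P0t := by
  have h1 : hw tw = el 2 [1, 0, 0, 1, 0, 1, 1] false := by
    rw [tw, hw_append]
    exact (mul_one _).symm
  rw [h1]
  exact (el_mem_P0t (by norm_num) (by decide +kernel) (by decide +kernel)).2 (by decide)

/-- **`P0t` is perfect modulo `τ`** -/
theorem P0t_le_of (ht : τ ∈ D) (hc : ∀ x ∈ P0t, ∀ y ∈ P0t, x * y * x⁻¹ * y⁻¹ ∈ D)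
    (hn : ∀ h ∈ Pt, ∀ g ∈ D, h * g * h⁻¹ ∈ D) : P0t ≤ D := by
  have hn0 : ∀ h ∈ P0t, ∀ g ∈ D, h * g * h⁻¹ ∈ D := fun h hh => hn h (P0t_le hh)
  have hE0 : E [0] ∈ P0t := E_mem_P0t (by decide +kernel) (by decide)
  have hR2 : R 2 ∈ P0t := Rt_le (mem_Rt.2 ⟨2, by norm_num, by decide +kernel, false, (mul_one _).symm⟩)
  -- `Rt ≤ D`
  have hR : Rt ≤ D := by
    have ha : Act (E [0]) (fw [0]) := Act.E (by simp)
    obtain ⟨e, he⟩ := ha.eq 2 (by norm_num)
    have h1 := hc _ (P0t.inv_mem hE0) _ hR2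
    have h2 : (E [0])⁻¹ * R 2 * (E [0])⁻¹⁻¹ * (R 2)⁻¹ = R (fw [0] 2) * sg e * (R 2)⁻¹ := by
      calc (E [0])⁻¹ * R 2 * (E [0])⁻¹⁻¹ * (R 2)⁻¹ = (E [0])⁻¹ * (R 2 * E [0]) * (R 2)⁻¹ := by group
        _ = _ := by rw [he]; group
    obtain ⟨e1, h3⟩ := R_sq 2
    have h4 : (R 2)⁻¹ = R 2 * sg e1 := by
      rw [inv_eq_iff_mul_eq_one, ← mul_assoc, h3, sg_mul, Bool.xor_self]
      rfl
    obtain ⟨e2, h5⟩ := R_mul (fw [0] 2) 2
    have h6 : R (fw [0] 2) * sg e * (R 2)⁻¹ = R (fw [0] 2 ^^^ 2) * sg ((e2 ^^ e) ^^ e1) := by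
      calc R (fw [0] 2) * sg e * (R 2)⁻¹ = R (fw [0] 2) * (sg e * R 2) * sg e1 := by rw [h4]; group
        _ = (R (fw [0] 2) * R 2) * sg e * sg e1 := by rw [R_sg]; group
        _ = R (fw [0] 2 ^^^ 2) * (sg e2 * sg e * sg e1) := by rw [h5]; group
        _ = _ := by rw [sg_mul, sg_mul]
    rw [h2, h6] at h1
    have h7 : fw [0] 2 ^^^ 2 = 43 := by decide +kernel
    rw [h7] at h1
    exact Rt_le_of_good hn0 ht (m := 43) (by norm_num) (by decide +kernel) ⟨_, h1⟩ (by decide)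
  -- `y`
  have hy2 : hw [2, 2] ∈ D := by
    have h1 : hw [2, 2] ∈ P0t := by
      have : hw [2, 2] = E [0] * E [0] := (hw_append [2] [2])
      rw [this]
      exact P0t.mul_mem hE0 hE0
    have h2 := hc _ (P0t.inv_mem tw_mem) _ h1
    -- `t⁻¹ y² t = y⁻²` up to `τ`, `b`
    have h3 : eqbt ([2, 2] ++ tw) (tw ++ [3, 3]) = true := by decide +kernel
    obtain ⟨e, he⟩ := eqbt_spec h3
    have h4 : hw [3, 3] * (hw [2, 2])⁻¹ ∈ D := by
      have h5 : (hw tw)⁻¹ * hw [2, 2] * (hw tw)⁻¹⁻¹ * (hw [2, 2])⁻¹ =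
          (hw tw)⁻¹ * (hw [2, 2] * hw tw) * (hw [2, 2])⁻¹ := by group
      rw [h5, ← hw_append [2, 2] tw] at h2
      rcases he with he | he
      · rw [he, hw_append] at h2
        have h6 : (hw tw)⁻¹ * (hw tw * hw [3, 3] * sg e) * (hw [2, 2])⁻¹ =
            (hw [3, 3] * (hw [2, 2])⁻¹) * (hw [2, 2] * sg e * (hw [2, 2])⁻¹) := by group
        rw [h6, D.mul_mem_cancel_right (hn0 _ h1 _ (sg_mem hR e))] at h2
        exact h2
      · rw [he, hw_append] at h2
        have h6 : (hw tw)⁻¹ * (hw tw * hw [3, 3] * τ * sg e) * (hw [2, 2])⁻¹ =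
            (hw [3, 3] * (hw [2, 2])⁻¹) * (hw [2, 2] * (τ * sg e) * (hw [2, 2])⁻¹) := by group
        rw [h6, D.mul_mem_cancel_right (hn0 _ h1 _ (D.mul_mem ht (sg_mem hR e)))] at h2
        exact h2
    have h7 : hw [2, 2] = hw [3, 3] * (hw [2, 2])⁻¹ := by
      rw [eq_mul_inv_iff_mul_eq, ← hw_append]
      exact hw_eq (by decide +kernel)
    rw [h7]
    exact h4
  have hy : hw (gw 0) ∈ D := by
    have h1 : hw [2, 2, 2] ∈ D := by
      have h2 : eqbt [2, 2, 2] [] = true := by decide +kernel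
      exact (mem_of_eqbt hR h2).2 D.one_mem
    have h2 : hw (gw 0) = (hw [2, 2])⁻¹ * hw [2, 2, 2] := by
      rw [eq_inv_mul_iff_mul_eq, ← hw_append]
      rfl
    rw [h2]
    exact D.mul_mem (D.inv_mem hy2) h1
  have hc1 : hw (gw 1) ∈ Pt := by
    have : hw (gw 1) = el 0 [1] false := by
      unfold el
      rw [R_zero, one_mul]
      have h1 : E [1] = hw (gw 1) := by rw [E_cons, E_nil, mul_one]
      rw [h1]
      exact (mul_one _).symm
    rw [this]
    exact el_mem_Pt (by norm_num) (by decide) (by decide +kernel) _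
  -- `c²`
  have hcc : hw (gw 1) * hw (gw 1) ∈ D := by
    have w1 : E [0, 1, 0, 1] ∈ P0t := E_mem_P0t (by decide +kernel) (by decide)
    have w2 : E [1, 1, 1, 0, 1, 0] ∈ P0t := E_mem_P0t (by decide +kernel) (by decide)
    have h1 := hc _ (P0t.inv_mem w1) _ (P0t.inv_mem w2)
    have h2 : eqbt (ew [0, 1, 0, 1] ++ ew [1, 1, 1, 0, 1, 0])
        (ew [1, 1, 1, 0, 1, 0] ++ ew [0, 1, 0, 1] ++ (rmw 16 ++ ew [1, 1])) = true := by decide +kernel
    have h3 : hw (ew [1, 1]) ∈ D := by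
      have hR16 : R 16 ∈ D := hR (mem_Rt.2 ⟨16, by norm_num, by decide +kernel, false, (mul_one _).symm⟩)
      have key : hw (rmw 16 ++ ew [1, 1]) ∈ D := by
        obtain ⟨e, he⟩ := eqbt_spec h2
        have h5 : (E [0, 1, 0, 1])⁻¹ * (E [1, 1, 1, 0, 1, 0])⁻¹ * (E [0, 1, 0, 1])⁻¹⁻¹ * (E [1, 1, 1, 0, 1, 0])⁻¹⁻¹ =
            (E [1, 1, 1, 0, 1, 0] * E [0, 1, 0, 1])⁻¹ * (E [0, 1, 0, 1] * E [1, 1, 1, 0, 1, 0]) := by group
        rw [h5] at h1
        have h6 : E [0, 1, 0, 1] * E [1, 1, 1, 0, 1, 0] =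
          hw (ew [0, 1, 0, 1] ++ ew [1, 1, 1, 0, 1, 0]) := (hw_append _ _).symm
        have h7 : hw (ew [1, 1, 1, 0, 1, 0] ++ ew [0, 1, 0, 1] ++ (rmw 16 ++ ew [1, 1])) =
          E [1, 1, 1, 0, 1, 0] * E [0, 1, 0, 1] * hw (rmw 16 ++ ew [1, 1]) := by
          rw [hw_append (ew [1, 1, 1, 0, 1, 0] ++ ew [0, 1, 0, 1]), hw_append (ew [1, 1, 1, 0, 1, 0])]
          rfl
        rcases he with he | he
        · rw [h6, he, h7, mul_assoc _ (hw _) (sg e), inv_mul_cancel_left,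
            D.mul_mem_cancel_right (sg_mem hR e)] at h1
          exact h1
        · rw [h6, he, h7, mul_assoc _ τ (sg e), mul_assoc _ (hw _) (τ * sg e), inv_mul_cancel_left,
            D.mul_mem_cancel_right (D.mul_mem ht (sg_mem hR e))] at h1
          exact h1
      rw [hw_append] at key
      exact (D.mul_mem_cancel_left hR16).1 key
    have h4 : hw (ew [1, 1]) = hw (gw 1) * hw (gw 1) := by
      change E [1, 1] = _
      rw [E_cons, E_cons, E_nil, mul_one]
    rwa [h4] at h3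
  have hcy : (hw (gw 1))⁻¹ * hw (gw 0) * hw (gw 1) ∈ D := by
    have := hn _ (Pt.inv_mem hc1) _ hy
    rwa [inv_inv] at this
  -- words
  have hwords : ∀ w : List ℕ, (∀ g ∈ w, g < 2) → (evw w = true → E w ∈ D) ∧
      (evw w = false → (hw (gw 1))⁻¹ * E w ∈ D) := by
    intro w
    induction w with
    | nil => exact fun _ => ⟨fun _ => D.one_mem, fun h => absurd h (by decide)⟩
    | cons g w ih =>
      intro h
      have ih' := ih fun g' hg' => h g' (by simp [hg'])
      have hg : g < 2 := h g (by simp)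
      interval_cases g
      · refine ⟨fun hev => ?_, fun hev => ?_⟩
        · rw [E_cons]
          exact D.mul_mem hy (ih'.1 hev)
        · rw [E_cons]
          have e1 : (hw (gw 1))⁻¹ * (hw (gw 0) * E w) =
            ((hw (gw 1))⁻¹ * hw (gw 0) * hw (gw 1)) * ((hw (gw 1))⁻¹ * E w) := by group
          rw [e1]
          exact D.mul_mem hcy (ih'.2 hev)
      · have hev1 : evw (1 :: w) = !evw w := rfl
        refine ⟨fun hev => ?_, fun hev => ?_⟩
        · rw [E_cons]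
          have e1 : hw (gw 1) * E w = hw (gw 1) * hw (gw 1) * ((hw (gw 1))⁻¹ * E w) := by group
          rw [e1]
          refine D.mul_mem hcc (ih'.2 ?_)
          rw [hev1] at hev
          cases h9 : evw w
          · rfl
          · rw [h9] at hev; exact absurd hev (by decide)
        · rw [E_cons, inv_mul_cancel_left]
          refine ih'.1 ?_
          rw [hev1] at hev
          cases h9 : evw w
          · rw [h9] at hev; exact absurd hev (by decide)
          · rfl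
  intro g hg
  obtain ⟨m, hm, hp, w, hw1, hev, e, rfl⟩ := exists_of_mem_P0t hg
  exact D.mul_mem (D.mul_mem (hR (mem_Rt.2 ⟨m, hm, hp, false, (mul_one _).symm⟩)) ((hwords w (S5_lt hw1)).1 hev))
    (sg_mem hR e)

end

end Cfsg.Agent.KFacts.HS.Cent

end

-- merged: Cfsg.Agent.KFacts.HS.Cent5
section

set_option autoImplicit false

/-!
# Facts on `HS`: more facts on `C(b)`, in `H0 = 2.HS.2`

* `triv`: elements of `C(b)` trivial on `P0t / Rt` are in `W`
* `fixR`: elements of `C(b)` trivial on `Rt / τ`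
* `inner`: elements of `C(b)` outside `K` inverting `U` act on `P0t / Rt` as elements of `P0t`
* `exists_conj`: elements of `Pt - P0t` of square 1 are conjugate to `w0 = k⁻¹ b k` or `w0 τ`
-/

namespace Cfsg.Agent.KFacts.HS.Cent

open Cfsg.Agent.HN Cfsg.Agent.HN.Pres Cfsg.Agent.HN.HS100 Cfsg.Agent.HN.P1408 Cfsg.Agent.HN.H0Basic
open Cfsg.Agent.HN.XMat Cfsg.Agent.HN.WMask
open Cfsg.Agent.SporadicA.PermTab (band band_eq_true allB allB_iff)

theorem Act.of_Wt {r : H0} (hr : r ∈ Wt) : Act r (fun m => m) := by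
  obtain ⟨m, hm, e, rfl⟩ := hr
  have h1 : R m * sg e = WMask.el m [] e := by rw [WMask.el, E_nil, mul_one]
  rw [h1]
  exact Act.el m nil_mem e

theorem Wt_b {r : H0} (hr : r ∈ Wt) : r * b = b * r := (Act.of_Wt hr).cb.symm

/-! ### elements trivial on `P0t / Rt` -/

def chkTriv (w : List ℕ) : Bool :=
  bif w.isEmpty then true else
    bif [[0], [1, 1], [1, 0, 1]].all (fun p => allB (fun i => Nat.beq (fw p (fw w (2 ^ i))) (fw w (fw p (2 ^ i)))) 7)
    then false else true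

theorem chkTriv_all : S5W.all chkTriv = true := by decide +kernel

theorem even3 : ∀ h ∈ ([[0], [1, 1], [1, 0, 1]] : List (List ℕ)), evw h = true ∧ h ∈ S5W := by
  decide +kernel

theorem triv {h : H0} (hb : h * b = b * h) (ht : ∀ p ∈ P0t, h * p * h⁻¹ * p⁻¹ ∈ Wt) : h ∈ Wt := by
  obtain ⟨m, hm, w, hw1, e, rfl⟩ := cent_b hb.symm
  have ha : Act (el m w e) (fw w) := Act.el m hw1 e
  have h1 := List.all_eq_true.1 chkTriv_all w hw1
  unfold chkTriv at h1
  cases h0 : w.isEmpty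
  · exfalso
    rw [h0, cond_false] at h1
    cases h2 : [[0], [1, 1], [1, 0, 1]].all
      (fun p => allB (fun i => Nat.beq (fw p (fw w (2 ^ i))) (fw w (fw p (2 ^ i)))) 7)
    · apply Bool.eq_false_iff.1 h2
      rw [List.all_eq_true]
      intro p hp
      obtain ⟨hev, hpS⟩ := even3 p hp
      rw [allB_beq]
      intro i hi
      have hap : Act (E p) (fw p) := Act.E (S5_lt hpS)
      have hr := ht _ (E_mem_P0t hpS hev)
      have har := Act.of_Wt hr
      have h3 : el m w e * E p = el m w e * E p * (el m w e)⁻¹ * (E p)⁻¹ * (E p * el m w e) := by group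
      have a1 := ha.mul hap
      rw [h3] at a1
      exact a1.uniq (har.mul (hap.mul ha)) (two_pow_lt hi)
    · rw [h2, cond_true] at h1
      exact absurd h1 (by decide)
  · have : w = [] := List.isEmpty_iff.1 h0
    subst this
    exact ⟨m, hm, e, by rw [WMask.el, E_nil, mul_one]⟩

/-- elements of `W` outside `K` invert `U` -/
theorem Wt_inv {h : H0} (hh : h ∈ Wt) (hK : h ∉ K) : U * h = h * (U * b) := by
  obtain ⟨m, hm, e, rfl⟩ := hh
  have hp : par (rmw m) = true := by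
    rw [K.mul_mem_cancel_right (sg_mem_K e), R_mem_K_iff hm] at hK
    exact Bool.eq_true_of_not_eq_false hK
  have h1 := U_R hm
  rw [hp] at h1
  calc U * (R m * sg e) = (U * R m) * sg e := by group
    _ = R m * (U * (b * sg e)) := by rw [h1]; change R m * (U * b) * sg e = _; group
    _ = R m * (U * (sg e * b)) := by
        have : b * sg e = sg e * b := by cases e <;> [exact (mul_one _).trans (one_mul _).symm; rfl]
        rw [this]
    _ = R m * ((U * sg e) * b) := by group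
    _ = R m * ((sg e * U) * b) := by rw [sg_comm U_b e]
    _ = _ := by group

/-! ### elements trivial on `Rt / τ` -/

def chkFix (w : List ℕ) : Bool :=
  bif w.isEmpty then true else
    bif [2, 12, 16, 36, 68].all (fun k => Nat.beq (fw w k) k || Nat.beq (fw w k) (k ^^^ 1)) then false else true

theorem chkFix_all : S5W.all chkFix = true := by decide +kernel

def chkFixR (m : ℕ) : Bool :=
  bif [2, 12, 16, 36, 68].all (fun k => eqw (rmw m ++ rmw k) (rmw k ++ rmw m)) then inU m else true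

private noncomputable def _root_.Cfsg.Agent.LsF.fc09395_10 : {f // @Cfsg.Agent.KFacts.HS.Cent.chkFixR = f} := ⟨_, by first | (delta Cfsg.Agent.KFacts.HS.Cent.chkFixR; rewrite [Cfsg.Agent.LsF.fc09395_2.2, Cfsg.Agent.LsF.fc09395_6.2, Cfsg.Agent.LsF.lappend_pat, Cfsg.Agent.LsF.cond_eq, Cfsg.Agent.LsF.all_eq]; exact rfl) | exact rfl⟩
theorem chkFixR_all : allB chkFixR 128 = true := by ((try (rewrite [Cfsg.Agent.LsF.fc09395_10.2])); decide +kernel)

theorem five : ∀ k ∈ [2, 12, 16, 36, 68], k < 128 ∧ par (rmw k) = false := by decide +kernel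

theorem R_comm (m m' : ℕ) : ∃ e, R m * R m' = R m' * R m * sg e := by
  obtain ⟨e1, h1⟩ := R_mul m m'
  obtain ⟨e2, h2⟩ := R_mul m' m
  refine ⟨e1 ^^ e2, ?_⟩
  rw [h1, h2, mul_assoc, sg_mul, Nat.xor_comm m' m]
  cases e1 <;> cases e2 <;> rfl

theorem sg_ne_τ (e : Bool) : sg e ≠ τ := by
  intro h
  rw [← R_one] at h
  have h1 : R 0 * sg e = R 1 * sg false := by
    rw [R_zero, one_mul, h]; exact (mul_one _).symm
  exact absurd (R_inj (by norm_num) (by norm_num) h1).1 (by norm_num)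

theorem fixR {h : H0} (hb : h * b = b * h) (hr : ∀ r ∈ Rt, h * r * h⁻¹ = r ∨ h * r * h⁻¹ = r * τ) :
    ∃ e, h = sg e ∨ h = τ * sg e ∨ h = U * sg e ∨ h = U * τ * sg e := by
  have hb' : b * h⁻¹ = h⁻¹ * b := by
    rw [eq_inv_mul_iff_mul_eq, ← mul_assoc, hb, mul_assoc, mul_inv_cancel, mul_one]
  obtain ⟨m, hm, w, hw1, e, he⟩ := cent_b hb'
  have ha : Act (el m w e) (fw w) := Act.el m hw1 e
  rw [← he] at ha
  -- masks
  have hmask : ∀ k < 128, par (rmw k) = false → fw w k = k ∨ fw w k = k ^^^ 1 := by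
    intro k hk hp
    obtain ⟨e1, h1⟩ := ha.eq k hk
    have h2 : h * R k * h⁻¹ = R (fw w k) * sg e1 := by
      rw [mul_assoc, h1]; group
    have hkR : R k ∈ Rt := mem_Rt.2 ⟨k, hk, hp, false, (mul_one _).symm⟩
    rcases hr _ hkR with h3 | h3
    · left
      rw [h2] at h3
      exact (R_inj (ha.lt k hk) hk (h3.trans (mul_one _).symm : R (fw w k) * sg e1 = R k * sg false)).1
    · right
      rw [h2, ← R_one] at h3
      obtain ⟨e2, h4⟩ := R_mul k 1
      rw [h4] at h3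
      exact (R_inj (ha.lt k hk) (xor_lt hk (by norm_num)) h3).1
  have hw0 : w = [] := by
    have h1 := List.all_eq_true.1 chkFix_all w hw1
    unfold chkFix at h1
    cases h0 : w.isEmpty
    · exfalso
      rw [h0, cond_false] at h1
      cases h2 : [2, 12, 16, 36, 68].all (fun k => Nat.beq (fw w k) k || Nat.beq (fw w k) (k ^^^ 1))
      · apply Bool.eq_false_iff.1 h2
        rw [List.all_eq_true]
        intro k hk
        obtain ⟨hk1, hk2⟩ := five k hk
        rcases hmask k hk1 hk2 with h3 | h3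
        · rw [h3, Nat.beq_refl]; rfl
        · rw [h3, Nat.beq_refl, Bool.or_true]
      · rw [h2, cond_true] at h1
        exact absurd h1 (by decide)
    · exact List.isEmpty_iff.1 h0
  subst hw0
  have he' : h⁻¹ = R m * sg e := by rw [he, WMask.el, E_nil, mul_one]
  -- commutation
  have hu : inU m = true := by
    have h1 := (allB_iff _ _).1 chkFixR_all m hm
    unfold chkFixR at h1
    cases h2 : [2, 12, 16, 36, 68].all (fun k => eqw (rmw m ++ rmw k) (rmw k ++ rmw m))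
    · exfalso
      apply Bool.eq_false_iff.1 h2
      rw [List.all_eq_true]
      intro k hk
      obtain ⟨hk1, hk2⟩ := five k hk
      have hkR : R k ∈ Rt := mem_Rt.2 ⟨k, hk1, hk2, false, (mul_one _).symm⟩
      apply eqw_of_hw_eq (okw_append (okw_rmw hm) (okw_rmw hk1)) (okw_append (okw_rmw hk1) (okw_rmw hm))
      rw [hw_append, hw_append]
      change R m * R k = R k * R m
      obtain ⟨e1, h3⟩ := R_comm m k
      -- `R k h⁻¹ = h⁻¹ (R k or R k τ)`
      have h4 : R k * h⁻¹ = h⁻¹ * R k ∨ R k * h⁻¹ = h⁻¹ * (R k * τ) := by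
        rcases hr _ hkR with h5 | h5
        · left
          have : R k * h⁻¹ = h⁻¹ * (h * R k * h⁻¹) := by group
          rw [this, h5]
        · right
          have : R k * h⁻¹ = h⁻¹ * (h * R k * h⁻¹) := by group
          rw [this, h5]
      rw [he'] at h4
      have h6 : R k * (R m * sg e) = R k * R m * sg e := by group
      have h7 : R m * sg e * R k = R k * R m * sg e1 * sg e := by
        calc R m * sg e * R k = R m * (sg e * R k) := by group
          _ = (R m * R k) * sg e := by rw [R_sg]; group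
          _ = _ := by rw [h3]
      rcases h4 with h5 | h5
      · rw [h6, h7] at h5
        rw [h3]
        have h8 : R k * R m = R k * R m * sg e1 := mul_right_cancel h5
        exact h8.symm
      · exfalso
        have h9 : R m * sg e * (R k * τ) = R k * R m * (sg e1 * τ) * sg e := by
          rw [← mul_assoc, h7]
          calc R k * R m * sg e1 * sg e * τ = R k * R m * sg e1 * (sg e * τ) := by group
            _ = R k * R m * sg e1 * (τ * sg e) := by rw [τ_comm (sg e)]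
            _ = _ := by group
        rw [h6, h9] at h5
        have h8 : R k * R m = R k * R m * (sg e1 * τ) := mul_right_cancel h5
        have h10 : sg e1 * τ = 1 := (mul_eq_left.1 h8.symm)
        have h11 : sg e1 = τ := by
          rw [← τ_inv]; exact eq_inv_of_mul_eq_one_left h10
        exact sg_ne_τ e1 h11
    · rw [h2, cond_true] at h1
      exact h1
  -- conclusion for `h⁻¹`, then for `h`
  have hsinv : ∀ e, (sg e)⁻¹ = sg e := by
    intro e; cases e
    · exact inv_one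
    · exact b_inv
  have h9 : h = (R m * sg e)⁻¹ := by rw [← he', inv_inv]
  have hUinv : U⁻¹ = U * sg true := by
    rw [inv_eq_iff_mul_eq_one, ← mul_assoc, U_sq]
    exact b_sq
  have hsU : ∀ e, sg e * U = U * sg e := sg_comm U_b
  rcases inU_cases hu with rfl | rfl | rfl | rfl
  · exact ⟨e, Or.inl (by rw [h9, R_zero, one_mul, hsinv])⟩
  · refine ⟨e, Or.inr (Or.inl ?_)⟩
    rw [h9, R_one, mul_inv_rev, hsinv, τ_inv, τ_comm]
  · refine ⟨e ^^ true, Or.inr (Or.inr (Or.inl ?_))⟩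
    rw [h9, mul_inv_rev, hsinv]
    change sg e * U⁻¹ = _
    rw [hUinv, ← mul_assoc, hsU, mul_assoc, sg_mul]
  · obtain ⟨e', h'⟩ := R29_eq
    refine ⟨(e' ^^ e) ^^ true, Or.inr (Or.inr (Or.inr ?_))⟩
    rw [h9, h', mul_assoc, sg_mul, mul_inv_rev, hsinv, mul_inv_rev, τ_inv, hUinv]
    calc sg (e' ^^ e) * (τ * (U * sg true)) = (sg (e' ^^ e) * (τ * U)) * sg true := by group
      _ = (sg (e' ^^ e) * U) * τ * sg true := by rw [← τ_comm U]; group
      _ = U * (sg (e' ^^ e) * τ) * sg true := by rw [hsU]; group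
      _ = U * τ * (sg (e' ^^ e) * sg true) := by rw [τ_comm (sg (e' ^^ e))]; group
      _ = _ := by rw [sg_mul]

/-! ### outer elements -/

/-- elements of `C(b)` outside `K` which invert `U` modulo `τ` act on `P0t / Rt` as elements of `P0t` -/
theorem inner {h : H0} (hb : h * b = b * h) (hK : h ∉ K) (hU : U * h = h * (U * b) ∨ U * h = h * (U * b * τ)) :
    ∃ p ∈ P0t, ∀ y, (p * y * p⁻¹)⁻¹ * (h * y * h⁻¹) = (p * y⁻¹ * p⁻¹) * (h * p⁻¹) * (p * y * p⁻¹) * (h * p⁻¹)⁻¹ ∧
      h * p⁻¹ ∈ Wt := by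
  obtain ⟨m, hm, w, hw1, e, rfl⟩ := cent_b hb.symm
  have hp : par (rmw m) = true := by
    rw [el_mem_K hm hw1] at hK
    exact Bool.eq_true_of_not_eq_false hK
  have h1 := U_el hm hw1 e
  rw [hp] at h1
  have hev : evw w = true := by
    by_contra hne
    rw [Bool.not_eq_true] at hne
    rw [hne] at h1
    change U * el m w e = el m w e * (U * (b * τ * b)) at h1
    have h2 : b * τ * b = τ := by rw [bτ, mul_assoc, b_sq, mul_one]
    rw [h2] at h1
    rcases hU with h3 | h3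
    · rw [h1] at h3
      have h4 : τ = b := mul_left_cancel (mul_left_cancel h3)
      exact sg_ne_τ true h4.symm
    · rw [h1] at h3
      have h4 : U * τ = U * b * τ := mul_left_cancel h3
      have h5 : U = U * b := mul_right_cancel h4
      exact b_ne (mul_eq_left.1 h5.symm)
  refine ⟨E w, E_mem_P0t hw1 hev, fun y => ⟨by group, ?_⟩⟩
  refine ⟨m, hm, e, ?_⟩
  unfold el
  rw [mul_assoc (R m), ← sg_comm (E_b (S5_lt hw1)) e]
  group

/-! ### the involutions of `Pt - P0t` -/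

/-- the word of `k` -/
def kw : List ℕ := [0, 2, 2, 0]

/-- its inverse -/
def kwi : List ℕ := [1, 3, 3, 1]

/-- the element `k` -/
def kk : H0 := hw kw

theorem kk_inv : kk⁻¹ = hw kwi := by
  rw [inv_eq_iff_mul_eq_one, kk, ← hw_append, ← hw_nil]
  exact hw_eq (by decide)

theorem kk_mem_K : kk ∈ K := mem_K_of_par (by decide) (by decide)

/-- the conjugate `k⁻¹ b k` -/
def w0 : H0 := kk⁻¹ * b * kk

/-- the conjugate `k b k⁻¹` -/
def x0 : H0 := kk * b * kk⁻¹

/-- the word of the image of `w0` and `x0` modulo `W` -/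
def w00 : List ℕ := [1, 1, 0, 1, 0]

theorem w0_eq : w0 = el 87 w00 true := by
  rw [w0, kk_inv, kk, b, ← hw_append, ← hw_append]
  have : el 87 w00 true = hw (rmw 87 ++ ew w00 ++ bw) := by
    rw [hw_append, hw_append]; rfl
  rw [this]
  exact hw_eq (by decide +kernel)

theorem x0_eq : x0 = el 86 w00 false := by
  rw [x0, kk_inv, kk, b, ← hw_append, ← hw_append]
  have : el 86 w00 false = hw (rmw 86 ++ ew w00) := by
    rw [hw_append]; exact mul_one _
  rw [this]
  exact hw_eq (by decide +kernel)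

theorem w00_mem : w00 ∈ S5W := by decide +kernel

theorem w0_mem : w0 ∈ Pt ∧ w0 ∉ P0t := by
  rw [w0_eq]
  refine ⟨el_mem_Pt (by norm_num) (by decide +kernel) w00_mem _, ?_⟩
  rw [el_mem_P0t (by norm_num) (by decide +kernel) w00_mem]
  decide

theorem x0_mem : x0 ∈ Pt ∧ x0 ∉ P0t := by
  rw [x0_eq]
  refine ⟨el_mem_Pt (by norm_num) (by decide +kernel) w00_mem _, ?_⟩
  rw [el_mem_P0t (by norm_num) (by decide +kernel) w00_mem]
  decide

/-- odd words acting as involutions are conjugate to `w00` -/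
def chkOdd (w : List ℕ) : Bool :=
  bif evw w then true else bif allB (fun i => Nat.beq (fw w (fw w (2 ^ i))) (2 ^ i)) 7 then
    S5W.any (fun v => bif evw v then allB (fun i => Nat.beq (fw w (fw v (2 ^ i))) (fw v (fw w00 (2 ^ i)))) 7 else false)
  else true

theorem chkOdd_all : S5W.all chkOdd = true := by decide +kernel

/-- `R r w0 (R r)⁻¹` for the elements of square 1 -/
def tabQ (m : ℕ) (e : Bool) : ℕ :=
  match m, e with
  | 12, false => 12
  | 12, true => 16
  | 13, false => 12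
  | 13, true => 16
  | 40, false => 18
  | 40, true => 14
  | 41, false => 18
  | 41, true => 14
  | 86, false => 28
  | 86, true => 0
  | 87, false => 28
  | 87, true => 0
  | 114, false => 2
  | 114, true => 30
  | 115, false => 2
  | _, _ => 30

/-- the word of `el m w e` -/
def elw (m : ℕ) (w : List ℕ) (e : Bool) : List ℕ := rmw m ++ ew w ++ (bif e then bw else [])

theorem hw_elw (m : ℕ) (w : List ℕ) (e : Bool) : hw (elw m w e) = el m w e := by
  rw [elw, hw_append, hw_append]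
  cases e <;> rfl

def chkQ (m : ℕ) : Bool :=
  bif par (rmw m) then true else
    bif eqw (elw m w00 false ++ elw m w00 false) [] then
      [false, true].all (fun e => bif eqw (elw m w00 e ++ rmw (tabQ m e)) (rmw (tabQ m e) ++ elw 87 w00 true) then true
        else eqw (elw m w00 e ++ rmw (tabQ m e)) (rmw (tabQ m e) ++ elw 87 w00 true ++ [0, 0]))
    else true

private noncomputable def _root_.Cfsg.Agent.LsF.fc09395_11 : {f // @Cfsg.Agent.HN.WMask.gw = f} := ⟨_, by first | (delta Cfsg.Agent.HN.WMask.gw; (try delta Cfsg.Agent.HN.WMask.gw.match_1); (try rewrite [Cfsg.Agent.LsF.instDecEq_eq, Cfsg.Agent.LsF.dite_eq]); exact rfl) | exact rfl⟩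
private noncomputable def _root_.Cfsg.Agent.LsF.fc09395_12 : {f // @Cfsg.Agent.HN.WMask.ew = f} := ⟨_, by first | (delta Cfsg.Agent.HN.WMask.ew; rewrite [Cfsg.Agent.LsF.fc09395_11.2, Cfsg.Agent.LsF.lappend_pat]; exact rfl) | exact rfl⟩
private noncomputable def _root_.Cfsg.Agent.LsF.fc09395_13 : {f // @Cfsg.Agent.KFacts.HS.Cent.elw = f} := ⟨_, by first | (delta Cfsg.Agent.KFacts.HS.Cent.elw; rewrite [Cfsg.Agent.LsF.fc09395_2.2, Cfsg.Agent.LsF.fc09395_12.2, Cfsg.Agent.LsF.lappend_pat, Cfsg.Agent.LsF.cond_eq]; exact rfl) | exact rfl⟩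
private noncomputable def _root_.Cfsg.Agent.LsF.fc09395_14 : {f // @Cfsg.Agent.KFacts.HS.Cent.tabQ = f} := ⟨_, by first | (delta Cfsg.Agent.KFacts.HS.Cent.tabQ; (try delta Cfsg.Agent.KFacts.HS.Cent.tabQ.match_1); (try delta Cfsg.Agent.KFacts.HS.Cent.tabQ._sparseCasesOn_1); (try delta Bool.casesOn); (try rewrite [Cfsg.Agent.LsF.instDecEq_eq, Cfsg.Agent.LsF.dite_eq]); exact rfl) | exact rfl⟩
private noncomputable def _root_.Cfsg.Agent.LsF.fc09395_15 : {f // @Cfsg.Agent.KFacts.HS.Cent.chkQ = f} := ⟨_, by first | (delta Cfsg.Agent.KFacts.HS.Cent.chkQ; rewrite [Cfsg.Agent.LsF.fc09395_2.2, Cfsg.Agent.LsF.fc09395_13.2, Cfsg.Agent.LsF.fc09395_14.2, Cfsg.Agent.LsF.lappend_pat, Cfsg.Agent.LsF.cond_eq, Cfsg.Agent.LsF.all_eq]; exact rfl) | exact rfl⟩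
theorem chkQ_all : allB chkQ 128 = true := by ((try (rewrite [Cfsg.Agent.LsF.fc09395_15.2])); decide +kernel)

theorem tabQ_lt (m : ℕ) (e : Bool) : tabQ m e < 128 ∧ par (rmw (tabQ m e)) = false := by
  unfold tabQ
  split <;> exact ⟨by norm_num, by decide +kernel⟩

theorem el_sq (m : ℕ) {w : List ℕ} (hw1 : w ∈ S5W) (e : Bool) :
    el m w e * el m w e = el m w false * el m w false := by
  have h1 : el m w e = el m w false * sg e := by
    unfold el
    exact (congrArg (· * sg e) (mul_one (R m * E w))).symm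
  have h2 : sg e * el m w false = el m w false * sg e := sg_comm (el_b m hw1 false) e
  rw [h1]
  calc el m w false * sg e * (el m w false * sg e) = el m w false * (sg e * el m w false) * sg e := by group
    _ = el m w false * el m w false * (sg e * sg e) := by rw [h2]; group
    _ = _ := by rw [sg_mul, Bool.xor_self]; exact mul_one _

/-- **the involutions of `Pt - P0t`** -/
theorem exists_conj {h : H0} (hh : h ∈ Pt) (h0 : h ∉ P0t) (h2 : h * h = 1) :
    ∃ g ∈ P0t, g * h * g⁻¹ = w0 ∨ g * h * g⁻¹ = w0 * τ := by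
  obtain ⟨m, hm, hp, w, hw1, e, rfl⟩ := exists_of_mem_Pt hh
  have hev : evw w = false := by
    rw [el_mem_P0t hm hp hw1] at h0
    exact Bool.eq_false_iff.2 h0
  have ha : Act (el m w e) (fw w) := Act.el m hw1 e
  have h1 := List.all_eq_true.1 chkOdd_all w hw1
  unfold chkOdd at h1
  rw [hev, cond_false] at h1
  have h3 : allB (fun i => Nat.beq (fw w (fw w (2 ^ i))) (2 ^ i)) 7 = true := by
    rw [allB_beq]
    intro i hi
    have a1 := ha.mul ha
    rw [h2] at a1
    exact a1.uniq Act.one (two_pow_lt hi)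
  rw [h3, cond_true, List.any_eq_true] at h1
  obtain ⟨v, hv1, h4⟩ := h1
  cases hvev : evw v
  · rw [hvev, cond_false] at h4
    exact absurd h4 (by decide)
  rw [hvev, cond_true, allB_beq] at h4
  have hvP : E v ∈ P0t := E_mem_P0t hv1 hvev
  have hav : Act (E v) (fw v) := Act.E (S5_lt hv1)
  -- the conjugate
  have hx : E v * el m w e * (E v)⁻¹ ∈ Pt := Pt_conj (mem_Pt.1 (P0t_le hvP)).1 hh
  have hx2 : E v * el m w e * (E v)⁻¹ * (E v * el m w e * (E v)⁻¹) = 1 := by
    calc E v * el m w e * (E v)⁻¹ * (E v * el m w e * (E v)⁻¹) = E v * (el m w e * el m w e) * (E v)⁻¹ := by group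
      _ = 1 := by rw [h2]; group
  obtain ⟨m', hm', hp', w', hw1', e', hx'⟩ := exists_of_mem_Pt hx
  have ha' : Act (el m' w' e') (fw w') := Act.el m' hw1' e'
  have hw' : w' = w00 := by
    apply key_inj hw1' w00_mem
    -- `fw w' ∘ ...`
    have h5 : ∀ i < 7, fw v (fw w' (2 ^ i)) = fw v (fw w00 (2 ^ i)) := by
      intro i hi
      rw [← h4 i hi]
      have a1 := ha'.mul hav
      have h6 : el m' w' e' * E v = E v * el m w e := by rw [← hx']; group
      rw [h6] at a1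
      exact a1.uniq (hav.mul ha) (two_pow_lt hi)
    apply key_congr
    intro i hi
    -- injectivity of `fw v`
    have hinj : ∀ p < 128, ∀ q < 128, fw v p = fw v q → p = q := by
      intro p hp1 q hq1 hpq
      obtain ⟨e1, h7⟩ := hav.eq p hp1
      obtain ⟨e2, h8⟩ := hav.eq q hq1
      have h9 : R p * sg e1 * E v = R q * sg e2 * E v := by
        rw [mul_assoc, sg_comm hav.cb, ← mul_assoc, h7, mul_assoc (R q), sg_comm hav.cb, ← mul_assoc (R q), h8, hpq]
        rw [mul_assoc, mul_assoc, mul_assoc, mul_assoc, sg_mul, sg_mul, Bool.xor_self, Bool.xor_self]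
      exact (R_inj hp1 hq1 (mul_right_cancel h9)).1
    exact hinj _ (ha'.lt _ (two_pow_lt hi)) _ ((Act.el 0 w00_mem false).lt _ (two_pow_lt hi)) (h5 i hi)
  subst hw'
  rw [hx'] at hx2
  have h5 := (allB_iff _ _).1 chkQ_all m' hm'
  unfold chkQ at h5
  rw [hp', cond_false] at h5
  have h6 : eqw (elw m' w00 false ++ elw m' w00 false) [] = true := by
    apply eqw_of_hw_eq
    · have : okw (elw m' w00 false) = true := by
        unfold elw
        exact okw_append (okw_append (okw_rmw hm') (by decide)) (by decide)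
      exact okw_append this this
    · rfl
    · rw [hw_append, hw_elw, hw_nil, ← el_sq m' w00_mem e', hx2]
  rw [h6, cond_true, List.all_eq_true] at h5
  have h7 := h5 e' (by cases e' <;> simp)
  obtain ⟨hr1, hr2⟩ := tabQ_lt m' e'
  have hrP : R (tabQ m' e') ∈ P0t := Rt_le (mem_Rt.2 ⟨_, hr1, hr2, false, (mul_one _).symm⟩)
  refine ⟨(R (tabQ m' e'))⁻¹ * E v, P0t.mul_mem (P0t.inv_mem hrP) hvP, ?_⟩
  have h8 : (R (tabQ m' e'))⁻¹ * E v * el m w e * ((R (tabQ m' e'))⁻¹ * E v)⁻¹ =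
      (R (tabQ m' e'))⁻¹ * (el m' w00 e' * R (tabQ m' e')) := by
    rw [← hx']; group
  rw [h8]
  cases h9 : eqw (elw m' w00 e' ++ rmw (tabQ m' e')) (rmw (tabQ m' e') ++ elw 87 w00 true)
  · rw [h9, cond_false] at h7
    right
    have h10 := hw_eq h7
    rw [hw_append, hw_append, hw_append, hw_elw, hw_elw, ← w0_eq, hw_τ] at h10
    change el m' w00 e' * R (tabQ m' e') = R (tabQ m' e') * w0 * τ at h10
    rw [h10]; group
  · left
    have h10 := hw_eq h9
    rw [hw_append, hw_append, hw_elw, hw_elw, ← w0_eq] at h10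
    change el m' w00 e' * R (tabQ m' e') = R (tabQ m' e') * w0 at h10
    rw [h10]; group

end Cfsg.Agent.KFacts.HS.Cent

end
end

private theorem dce_033b78f78452 : _root_.True := by
  try have : _root_.True := by simp only [_root_.Cfsg.Agent.KFacts.HS.Cent.x0.eq_1]
  try have : _root_.True := by simp only [_root_.Cfsg.Agent.KFacts.HS.Cent.tw.eq_1]
  try have : _root_.True := by simp only [_root_.Cfsg.Agent.HN.WMask.R.eq_1]
  try have : _root_.True := by simp only [_root_.Cfsg.Agent.KFacts.HS.Cent.tabQ._sparseCasesOn_1.else_eq]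
  try have : _root_.True := by simp only [_root_.Cfsg.Agent.KFacts.HS.Cent.elw.eq_1]
  try have : _root_.True := by simp only [_root_.Cfsg.Agent.HN.WMask.el.eq_1]
  try have : _root_.True := by simp only [_root_.Cfsg.Agent.KFacts.HS.Cent.kk.eq_1]
  try have : _root_.True := by simp only [_root_.Cfsg.Agent.KFacts.HS.Cent.U.eq_1]
  try have : _root_.True := by simp only [_root_.Cfsg.Agent.KFacts.HS.Cent.w0.eq_1]
  exact _root_.True.intro
end

-- part: OddHalf/D8/HS/SheetHS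
section
set_option linter.all false
open scoped Cfsg.Agent.FastGrp

/-!
# ODD half, D8: the fact sheet of `K = HS` (helper702, helper473)

All facts are about the abstract group `K`. `z` is of class 2A, `P = C_K(u) = R.A5` (`u² = z`), `C_K(z) = R.S5`,
`R = 4 ∘ 2^{1+4}`. `k ∈ K` with `k⁻¹ z k`, `k z k⁻¹ ∈ C_K(z) - P`.
-/

set_option autoImplicit false

namespace Cfsg.Agent.OddHalf.D8.HS.SheetHS

open Subgroup

/-- the fact sheet of `HS` -/
structure SheetHS {K : Type*} [Group K] (z u k : K) (P R : Subgroup K) : Prop where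
  zz : z * z = 1
  z1 : z ≠ 1
  uu : u * u = z
  uR : u ∈ R
  RP : R ≤ P
  /-- `P = C_K(u)` -/
  memP : ∀ x, x ∈ P ↔ x * u = u * x
  /-- `R` is normal in `P` -/
  Rn : ∀ x ∈ P, ∀ r ∈ R, x * r * x⁻¹ ∈ R
  /-- `C_K(z)` normalises `⟨u⟩` -/
  inv : ∀ x, x * z = z * x → x * u * x⁻¹ = u ∨ x * u * x⁻¹ = u⁻¹
  /-- `z` is 2-central and `Z(S) = ⟨z⟩` -/
  syl : ∃ S : Sylow 2 K, z ∈ S ∧ (∀ x ∈ S, x * z = z * x) ∧
    ∀ y ∈ S, (∀ x ∈ S, x * y = y * x) → y = 1 ∨ y = z
  perf : ⁅P, P⁆ = P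
  /-- `P` is the last term of the derived series of `C_K(z)` -/
  der : ∃ m, TR.dser m (centralizer ({z} : Set K)) ≤ P
  /-- `|Out(K)|₂ ≤ 2` -/
  out : ¬ 4 ∣ (MulAut.conj : K →* MulAut K).range.index
  schreier : ∃ n, TR.dser n (⊤ : Subgroup (MulAut K)) ≤ (MulAut.conj : K →* MulAut K).range
  /-- a 2-element of `Aut(K)` centralising a Sylow 2-subgroup whose centre contains `z` is inner -/
  sylAut : ∀ S : Sylow 2 K, (∀ x ∈ S, x * z = z * x) → ∀ α : MulAut K, IsPGroup 2 (zpowers α) →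
    (∀ x ∈ S, α x = x) → ∃ k : K, α = MulAut.conj k
  cardR : Nat.card R = 64
  /-- 2-subgroups of `C_K(z)` normalised by `P` -/
  core : ∀ B : Subgroup K, B ≤ centralizer ({z} : Set K) → IsPGroup 2 B →
    (∀ x ∈ P, ∀ b ∈ B, x * b * x⁻¹ ∈ B) → B ≤ R
  /-- `P`-invariant subgroups of `R` -/
  subs : ∀ B : Subgroup K, B ≤ R → (∀ x ∈ P, ∀ b ∈ B, x * b * x⁻¹ ∈ B) →
    (∀ b ∈ B, b = 1 ∨ b = z ∨ b = u ∨ b = u⁻¹) ∨ B = R
  /-- `C_P(R) = ⟨u⟩` -/
  cR : ∀ x ∈ P, (∀ r ∈ R, x * r = r * x) → x = 1 ∨ x = z ∨ x = u ∨ x = u⁻¹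
  /-- 2-elements of `Aut(K)` fixing `z` and trivial on `P/R` -/
  aut : ∀ α : MulAut K, IsPGroup 2 (zpowers α) → α z = z → (∀ x ∈ P, x⁻¹ * α x ∈ R) →
    (∃ r ∈ R, α = MulAut.conj r) ∨ α u = u⁻¹
  /-- `w = k⁻¹ z k` -/
  kz : k⁻¹ * z * k * z = z * (k⁻¹ * z * k)
  kP : k⁻¹ * z * k ∉ P
  /-- `z₁ = k z k⁻¹` -/
  kz' : k * z * k⁻¹ * z = z * (k * z * k⁻¹)
  kP' : k * z * k⁻¹ ∉ P
  /-- involutions of `C_K(z) - P` are of class 2A and conjugate to `w`, or of class 2B -/
  y1 : ∀ s : K, s * z = z * s → s ∉ P → s * s = 1 →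
    (∃ c : K, c * z = z * c ∧ s = c * (k⁻¹ * z * k) * c⁻¹) ∨
    ∃ L : Subgroup K, (∀ l ∈ L, l * s = s * l) ∧ ⁅L, L⁆ = L ∧ L ≠ ⊥ ∧
      (∃ m, TR.dser m (centralizer ({s} : Set K)) ≤ L) ∧
      ∀ B : Subgroup K, B ≤ L → IsPGroup 2 B → (∀ l ∈ L, ∀ b ∈ B, l * b * l⁻¹ ∈ B) → B = ⊥
  /-- outer automorphisms fixing `z` and inverting `u` act on `P/R` as elements of `P` -/
  y3 : ∀ α : MulAut K, (∀ g : K, α ≠ MulAut.conj g) → α z = z → α u = u⁻¹ →
    ∃ p ∈ P, ∀ x ∈ P, (p * x * p⁻¹)⁻¹ * α x ∈ R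
  /-- elements of `C_K(z)` trivial on `P/R` -/
  y4 : ∀ x : K, x * z = z * x → (∀ y ∈ P, y⁻¹ * (x * y * x⁻¹) ∈ R) → x ∈ R
  /-- `[R, z₁]` contains three singular vectors -/
  y5 : ∃ r₁ ∈ R, ∃ r₂ ∈ R, ∃ s₁ s₂ : K, (k * z * k⁻¹) * r₁ * (k * z * k⁻¹)⁻¹ * r₁⁻¹ = s₁ ∧
    (k * z * k⁻¹) * r₂ * (k * z * k⁻¹)⁻¹ * r₂⁻¹ = s₂ ∧ s₁ * s₁ = 1 ∧ s₂ * s₂ = 1 ∧
    s₁ * s₂ * (s₁ * s₂) = 1 ∧ (s₁ ≠ 1 ∧ s₁ ≠ z) ∧ (s₂ ≠ 1 ∧ s₂ ≠ z) ∧ (s₁ * s₂ ≠ 1 ∧ s₁ * s₂ ≠ z)

variable {K : Type*} [Group K] {z u k : K} {P R : Subgroup K}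

theorem SheetHS.basic (h : SheetHS z u k P R) : Sheet.Basic z P where
  zz := h.zz
  z1 := h.z1
  syl := h.syl
  zP := by
    rw [← h.uu]
    exact P.mul_mem (h.RP h.uR) (h.RP h.uR)
  cen := by
    intro x hx
    have h1 : Commute x u := (h.memP x).1 hx
    rw [← h.uu]
    exact (h1.mul_right h1).eq
  perf := h.perf
  der := h.der
  out := h.out
  schreier := h.schreier
  sylAut := h.sylAut

end Cfsg.Agent.OddHalf.D8.HS.SheetHS
end

-- part: KFacts/HS/TwoB
section
set_option linter.all false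
open scoped Cfsg.Agent.FastGrp

set_option autoImplicit false

/-!
# Facts on `HS`: the class 2B

`g0 ∈ K`, `g0² = τ`; the involution `s` below `g0` has a centraliser of order at most 2880 in `HS`, which contains
`A₆ × ⟨s⟩`; so the derived series of `C(s)` ends in `A₆`.
-/

namespace Cfsg.Agent.KFacts.HS.TwoB

open Cfsg.Agent.HN Cfsg.Agent.HN.Pres Cfsg.Agent.HN.HS100 Cfsg.Agent.HN.P1408 Cfsg.Agent.HN.H0Basic
open Cfsg.Agent.SporadicA.PermTab Cfsg.Agent.Lib.AltCarmichael Cfsg.Agent.OddHalf Equiv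
open scoped commutatorElement

/-! ### the bound -/

/-- tables for `cG` -/
def cGV : List ℕ := [0xba1482b83f0aa160318300a01002885e0c20b42f84309c1882c85b05e14c1d81d08c0d02404906412c150420a81100d85a0c00b00481f09a0a0070230480d41b04a03411c0e05c09e0ac2b03e05c1140183a02c01c0783707002c0c800078048260310820cc1080d01009c080050020780601504a0e40c0110440101e81704c0080a00a05201809820]
/-- chain for `cG` -/
def cGBS : List (ℕ × ℕ × ℕ × ℕ) := [
  (3, 40, 0x400000007d0000004000000040000000400000007d0000004000000040000000400000007d000000400000007d000000400000004000000040000000400000007d0000007d0000004000000040000000400000007d000000400000007d0000004000000040000000400000004000000040000000400000007d0000004000000040000000400000007d0000007d000000400000007d0000007d0000004000000040000000400000007d00000040000000400000004000000040000000400000007d000000400000007d00000040000000400000007d000000400000007d0000007d0000007d0000007d00000040000000400000007d0000007d0000004000000040000000400000007d0000004000000040000000400000007d0000007d0000007d0000007d0000007d000000400000007d000000400000007d0000004000000040000000400000007d0000007d0000007d0000007d000000400000007d00000040000000400000007d0000007d0000007d0000004000000040000000400000007d000000400000004000000040,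 0x7e20000007d0000007d),
  (9, 2, 0x40000000430c10007d0000004cc400004000000081bf100040000000400000004000000081bf10007d0000005033d0004cc40000400000004000000040000000430c1000430c10004cc400004000000040000000430c1000400000005033d0007d000000400000004cc400007d000000400000004cc400005033d0004cc40000400000007d0000005033d0005033d0007d000000430c1000430c10004cc40000400000004cc40000430c1000400000004cc40000400000004000000040000000430c100040000000430c10004000000040000000430c100040000000430c1000430c100081bf1000fb89d0007d0000004000000081bf100081bf10007d000000400000007d00000081bf1000400000007d0000004000000081bf1000430c100081bf1000430c10005033d00040000000430c100040000000430c1000400000004cc400004000000081bf1000430c10005033d000430c1000400000005033d0004cc4000040000000430c1000430c10005033d0004cc400004000000040000000ac1c90007d0000007d00000040000, 0x75910a000430c1000430c1),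
  (1, 6, 0x46535f9055662760a897bf21202c239046535f906157af3046535f9046535f9046535f906157af306f75c32115f72ba1202c239046535f9046535f9046535f90556627607a2d52a149905f9046535f9046535f907a2d52a046535f9115f72ba06f75c32046535f9149905f906f75c32046535f9149905f9115f72ba149905f9046535f906f75c32115f72ba115f72ba0a897bf2055662760b9627d61202c239046535f91202c23907a2d52a046535f9149905f9046535f9046535f9046535f907a2d52a046535f905566276046535f9046535f905566276046535f907a2d52a07a2d52a06157af3062e1aa50a897bf2046535f906157af306157af306f75c32046535f90a897bf206157af3046535f90a897bf2046535f906157af307a2d52a06157af305566276115f72ba046535f905566276046535f907a2d52a046535f91202c239046535f906157af305566276115f72ba05566276046535f9115f72ba1202c239046535f90932bf0207a2d52a115f72ba149905f9046535f9046535f92f853c7306f75c320a897bf2046535f9, 0xaea9ce290a897bf21202c239),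
  (40, 2, 0x1000dde923b9231305fbc434152bc05102c53bbe0b7f2f183843d36a3843d36a02c53bbe147579bc2abde6ee0c1523bd29315c2d3843d36a02c53bbe02c53bbe327b977a104f45011bcce34f02c53bbe1000dde9227e75d602c53bbe3217e6242abde6ee0a44ba8e1bcce34f2abde6ee02c53bbe1bcce34f0c1523bd1bcce34f02c53bbe2abde6ee0c1523bd3217e6242d070ba8327b977a2ac29fbf29315c2d02c53bbe152bc051104f450102c53bbe1bcce34f3843d36a1000dde90a44ba8e227e75d602c53bbe23b923131000dde93843d36a23b923131000dde9227e75d6104f45010b7f2f1802df83782d070ba802c53bbe0b7f2f180b7f2f182abde6ee02c53bbe05fbc434147579bc02c53bbe05fbc43402c53bbe147579bc104f45010b7f2f18327b977a3217e6240a44ba8e23b9231302c53bbe104f45013843d36a03072f5b02c53bbe0b7f2f1823b923130c1523bd23b923130a44ba8e0c1523bd29315c2d0a44ba8e382d7669104f45010c1523bd1bcce34f1000dde90a44ba8e064903dc2abde6ee1944a1ee02c53bbe, 0x11e319abc2d070ba8152bc051),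
  (0, 3, 0x2c5d43f305a79a1b0ac0e6c3054020d133a64f5139950c8e1da7b24a28808deb16d9eece10d4b4e70b9715b1057e7ac42c9d769e28808deb33a64f5101c4de7f32a9d72f30c9c49b19559fc616d9eece2c5d43f311d95d9733a64f5121e1a0260b9715b1266282b919559fc60b9715b116d9eece19559fc6057e7ac419559fc6072086990b9715b1057e7ac421e1a026118f96b232a9d72f07d393602c9d769e33a64f511cc4d0f91be44cbe01c4de7f19559fc628808deb2f48ffa4266282b911d95d9716d9eece05a79a1b2f48ffa41da7b24a05a79a1b2f48ffa411d95d9730c9c49b39950c8e382d314f0cf56d0c16d9eece0c82f4c90c82f4c90b9715b1072086990ac0e6c310d4b4e7072086990ac0e6c333a64f5110d4b4e730c9c49b39950c8e32a9d72f21e1a026266282b90c12edde16d9eece1be44cbe1da7b24a13b60ed533a64f510c82f4c90c12edde02c3c3cb0c12edde266282b902c3c3cb2c9d769e266282b933c696bd1be44cbe02c3c3cb19559fc62c5d43f3266282b9105cf3b70b9715b115554ff001c4de7f, 0x29ea4b01b01c4de7f07208699),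
  (2, 2, 0xc49458909fd558d3a31c7d2139a931a14124cf51a08fecb318bc8d411246de713a1e11217d67f2e1c0ee23c14ed48ce372d12310208cbb814124cf51cb514272138e5a02ede5cd139e7386c13a1e1122949cca81af2aa3b14124cf5152e69a31c0ee23c2eb885e52c86c7760e4731da13a1e11239e7386c2e4209be39e7386c39d6f3bd1c0ee23c14ed48ce152e69a3046767c12138e5a02af3973432c73fe414124cf536cc81aa39cf594c1cb5142739e7386c11246de7187c3d292eb885e5219ddbe813a1e11228cc562b187c3d29347b164d09fd558d29c1bb5b1af2aa3b2ede5cd111e657d5153ae91f1d5cbadc13a1e1121cac9df3181c3dc91c0ee23c39d6f3bd1e0f8a641fc2ac3d27b6bd261e0f8a6414124cf517d67f2e37a2cd101a08fecb0261ed96154022b21fb082500272e0e613a1e11226b725c3347b164d203cc6fa14124cf5181c3dc90272e0e607444161198d34ce1fb082500744416132c73fe42eb885e52ec0010926b725c337498b942c86c7762949cca82eb885e50710d3d70e4731da009613ea2ad45773, 0x2e73870d30e4731da2c86c776)]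
/-- last table for `cG` -/
def cGT : ℕ := 0x120680ec0c8a3a7c05833ca709bc9d2b0329c86e1faabe752e56eaec0098cbca0fc1993d21f5135011e64b5b203c200c27ed52572fafce33136529582ce632142acced7e37073c6a199476e01d892dab1269a06d30c11f130329c86e1937f87c11e64b5b375c02ce31db4e5b0af5732d0766891d199476e020497a0804a4a5332a5fa75608623b4825abcdb61937f87c25e1bbbe2acced7e338d376b1b62d699136529582c9d670d31bebbeb2ce6321404a4a5330cffe9c431b0e7381fb14c7236fc844f0766891d37e6be9d24cf2e021b0b11660111f3091dfb8f8d30c11f1334530ff2075d8c192ed9e5782d1bfed91d892dab3b5eaf7835447fb608623b482a5fa7562d0e9d890c94ed650b66479f2d0e9d8912010c4b21f513502e59b6f415c62adb0632d1a927462ffa28d4fa7932f917010fc1993d283637900553fa3614259d6f12010c4b21fd761237ee335b3136857e0cdb310528d4fa79213bb3101b62d6991fb14c721f287acd109cfa4c27613ec119a13cce0695ab2b375c02ce313002630789854f110f0ee82a4ce0d4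
/-- ranks for `cG` -/
def cGR : ℕ := 0x261280d82107014c078450900282b0410b20c0150220180600b02707c05c2d83d08c0e8048080860dc3104b07e1302882b0340802e82e0080701c81f0920480581d0200d81784204a13c0302603c0040a8440041783082c06a1482b85c0480ec118400aa1401400009c0b4190050c00503183c0680440684d0b40cc0704705200c0c8070621502c05f
/-- order for `cG` -/
def cGO : ℕ := 0x22114128130000981e82009a02c2b8010421640d8020bc0882081a05c05c060420881881b85b01012c2e02808e0c02c01c08613c2601003c1281c85f08c0c81180f014054018560620f00b024080154038190a00b01781f03a1503003e0700ac1a03a0c20fc0285209c144148120c60d8070330ba0240685306a168248480080b40a03b00c09c15018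

/-- the word of `g0` -/
def g0w : List ℕ := [3, 0, 3, 1, 4, 0, 2, 1, 2, 4]

/-- an element with square `τ` -/
def g0 : H0 := hw g0w

theorem cG_le : Nat.card (CentUp.cenA [g0w]) ≤ 5760 :=
  CentUp.card_cenA_le (VS := cGV) (bs := cGBS) (T := cGT) (R := cGR) (O := cGO) (by decide +kernel) (by decide +kernel)

theorem g0_sq : g0 * g0 = τ := by
  rw [g0, ← hw_append, ← hw_τ]
  exact hw_eq (by decide +kernel)

theorem g0_mem_K : g0 ∈ K := mem_K_of_par (by decide) (by decide)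

theorem z_g0 : gz * g0 = g0 * gz * τ := by
  rw [g0, ← hw_z, ← hw_τ, ← hw_append, ← hw_append, ← hw_append]
  exact hw_eq (by decide +kernel)

/-! ### the alternating group of degree 6 -/

/-- words for the images of the 3-cycles `(i 4 5)` -/
def vw : ℕ → List ℕ
  | 0 => [0, 2, 0, 2, 0, 2, 0, 2, 3, 0, 3, 3, 1, 3, 0, 2, 0, 2, 0, 2, 0, 2, 2, 0, 2, 2, 1, 2, 2, 0, 2, 2, 1, 2, 0, 2, 0, 2, 0, 2, 0, 2, 2, 0, 2, 2, 1, 2]
  | 1 => [2, 0, 2, 2, 1, 2, 2, 0, 2, 2, 1, 2, 0, 2, 0, 2, 0, 2, 0, 2, 2, 0, 2, 2, 1, 2, 0, 2, 0, 2, 0, 2, 0, 2, 3, 0, 3, 3, 1, 3, 0, 2, 0, 2, 0, 2, 0, 2]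
  | 2 => [0, 2, 0, 2, 0, 2, 0, 2, 3, 0, 3, 3, 1, 3, 3, 0, 3, 3, 1, 3, 0, 2, 0, 2, 0, 2, 0, 2, 2, 0, 2, 2, 1, 2, 2, 0, 2, 2, 1, 2, 0, 2, 0, 2, 0, 2, 0, 2, 3, 0, 3, 3, 1, 3]
  | _ => [3, 0, 3, 3, 1, 3, 3, 0, 3, 3, 1, 3, 0, 2, 0, 2, 0, 2, 0, 2, 2, 0, 2, 2, 1, 2, 2, 0, 2, 2, 1, 2, 0, 2, 0, 2, 0, 2, 0, 2, 2, 0, 2, 2, 1, 2, 0, 2, 0, 2, 0, 2, 0, 2]

theorem chk3 : ∀ i < 4, eqw (vw i ++ vw i ++ vw i) [] = true := by decide +kernel
theorem chk2 : ∀ i < 4, ∀ j < 4, i ≠ j → eqw (vw i ++ vw j ++ (vw i ++ vw j)) [] = true := by decide +kernel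
theorem chkg : ∀ i < 4, eqw (vw i ++ g0w) (g0w ++ vw i) = true := by decide +kernel
theorem chkp : ∀ i < 4, okw (vw i) = true ∧ par (vw i) = false := by decide +kernel
theorem chk1 : eqw (vw 0) [] = false ∧ eqw (vw 0) [0, 0] = false := by decide +kernel

theorem rel : Rel 4 (fun i => hw (vw i)) where
  cube i hi := by
    have h : hw (vw i ++ vw i ++ vw i) = hw [] := hw_eq (chk3 i hi)
    rw [hw_append, hw_append, hw_nil] at h
    rw [pow_succ, pow_two]
    exact h
  sq i hi j hj hij := by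
    have h : hw (vw i ++ vw j ++ (vw i ++ vw j)) = hw [] := hw_eq (chk2 i hi j hj hij)
    rw [hw_append, hw_append, hw_nil] at h
    rw [pow_two]
    exact h

/-- the alternating group of degree 6 -/
abbrev A6 := alternatingGroup (Fin 6)

theorem exists_psi : ∃ ψ : A6 →* H0, ∀ (i : ℕ) (hi : i < 4), ψ ⟨cyc 4 i, cyc_mem 4 i hi⟩ = hw (vw i) :=
  exists_hom (m := 4) (by norm_num) rel

/-- `A₆` in the centraliser of `g0` -/
noncomputable def psi : A6 →* H0 := exists_psi.choose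

theorem psi_cyc {i : ℕ} (hi : i < 4) : psi ⟨cyc 4 i, cyc_mem 4 i hi⟩ = hw (vw i) := exists_psi.choose_spec i hi

theorem top_of_gens {T : Subgroup A6} (h : ∀ (i : ℕ) (hi : i < 4), (⟨cyc 4 i, cyc_mem 4 i hi⟩ : A6) ∈ T) :
    T = ⊤ := by
  rw [eq_top_iff]
  intro s _
  have h1 : (s : Perm (Fin 6)) ∈ gen 4 (cyc 4) := by
    rw [gen_cyc 4 (by norm_num)]
    exact s.2
  have h2 : gen 4 (cyc 4) ≤ T.map (alternatingGroup (Fin 6)).subtype := by
    rw [gen_def, Subgroup.closure_le]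
    rintro _ ⟨i, hi, rfl⟩
    exact ⟨⟨cyc 4 i, cyc_mem 4 i hi⟩, h i hi, rfl⟩
  obtain ⟨t, ht, hts⟩ := h2 h1
  have : t = s := Subtype.ext hts
  rwa [← this]

instance simple_A6 : IsSimpleGroup A6 :=
  alternatingGroup.isSimpleGroup (by rw [Nat.card_eq_fintype_card, Fintype.card_fin]; norm_num)

theorem psi_g0 (s : A6) : psi s * g0 = g0 * psi s := by
  let T : Subgroup A6 := (Subgroup.centralizer {g0}).comap psi
  have hT : T = ⊤ := by
    apply top_of_gens
    intro i hi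
    show psi ⟨cyc 4 i, cyc_mem 4 i hi⟩ ∈ Subgroup.centralizer {g0}
    rw [psi_cyc hi, Subgroup.mem_centralizer_singleton_iff]
    have h := hw_eq (chkg i hi)
    rw [hw_append, hw_append] at h
    exact h
  have hs : s ∈ T := by rw [hT]; exact Subgroup.mem_top _
  exact Subgroup.mem_centralizer_singleton_iff.1 (show psi s ∈ Subgroup.centralizer {g0} from hs)

theorem psi_mem_K (s : A6) : psi s ∈ K := by
  let T : Subgroup A6 := K.comap psi
  have hT : T = ⊤ := by
    apply top_of_gens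
    intro i hi
    show psi ⟨cyc 4 i, cyc_mem 4 i hi⟩ ∈ K
    rw [psi_cyc hi]
    exact mem_K_of_par (chkp i hi).1 (chkp i hi).2
  have hs : s ∈ T := by rw [hT]; exact Subgroup.mem_top _
  exact hs

/-! ### the end of the derived series -/

theorem two_mul_card_le_of {G : Type*} [Group G] {A B : Subgroup G} [Finite B] (h : A ≤ B) {x : G} (hx : x ∈ B)
    (hx' : x ∉ A) : 2 * Nat.card A ≤ Nat.card B := by
  obtain ⟨k, hk⟩ := Subgroup.card_dvd_of_le h
  have h1 : k ≠ 0 := by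
    rintro rfl
    have : 0 < Nat.card B := Nat.card_pos
    omega
  have h2 : k ≠ 1 := by
    rintro rfl
    have hA : A = B := Subgroup.eq_of_le_of_card_ge h (by rw [hk, mul_one])
    exact hx' (hA ▸ hx)
  rw [hk, mul_comm]
  exact Nat.mul_le_mul_left _ (by omega)

theorem dser_eq_map {G : Type*} [Group G] (n : ℕ) (H : Subgroup G) :
    TR.dser n H = (derivedSeries ↥H n).map H.subtype := by
  induction n with
  | zero =>
    rw [derivedSeries_zero, ← MonoidHom.range_eq_map, H.range_subtype]; rfl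
  | succ n ih => rw [TR.dser_succ', ih, derivedSeries_succ, Subgroup.map_commutator]

/-- A group of order at most `8 |B|`, `B` not containing the central involution `s`. -/
theorem exists_dser_le {G : Type*} [Group G] (C B : Subgroup G) (s : G) [Finite C] (hs : s ∈ C) (hBC : B ≤ C)
    (hc : ∀ x ∈ C, x * s = s * x) (hss : s * s = 1) (hsB : s ∉ B) (hcard : Nat.card C ≤ 8 * Nat.card B) :
    ∃ m, TR.dser m C ≤ B := by
  classical
  -- `H = B ∪ B s`
  let H : Subgroup G :=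
    { carrier := {x | ∃ y ∈ B, x = y ∨ x = y * s}
      one_mem' := ⟨1, B.one_mem, Or.inl rfl⟩
      mul_mem' := by
        rintro _ _ ⟨y, hy, rfl | rfl⟩ ⟨y', hy', rfl | rfl⟩
        · exact ⟨_, B.mul_mem hy hy', Or.inl rfl⟩
        · exact ⟨_, B.mul_mem hy hy', Or.inr (by group)⟩
        · refine ⟨_, B.mul_mem hy hy', Or.inr ?_⟩
          rw [mul_assoc, ← hc _ (hBC hy'), mul_assoc]
        · refine ⟨_, B.mul_mem hy hy', Or.inl ?_⟩
          calc y * s * (y' * s) = y * (s * y') * s := by group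
            _ = y * y' * (s * s) := by rw [← hc _ (hBC hy')]; group
            _ = _ := by rw [hss, mul_one]
      inv_mem' := by
        rintro _ ⟨y, hy, rfl | rfl⟩
        · exact ⟨_, B.inv_mem hy, Or.inl rfl⟩
        · refine ⟨_, B.inv_mem hy, Or.inr ?_⟩
          have h1 : s⁻¹ = s := by rw [inv_eq_iff_mul_eq_one, hss]
          rw [mul_inv_rev, h1, hc _ (C.inv_mem (hBC hy))] }
  have hBH : B ≤ H := fun y hy => ⟨y, hy, Or.inl rfl⟩
  have hHC : H ≤ C := by
    rintro _ ⟨y, hy, rfl | rfl⟩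
    · exact hBC hy
    · exact C.mul_mem (hBC hy) hs
  have hsH : s ∈ H := ⟨1, B.one_mem, Or.inr (by group)⟩
  have hfH : Finite H := Finite.of_injective _ (Subgroup.inclusion_injective hHC)
  have hH2 : 2 * Nat.card B ≤ Nat.card H := two_mul_card_le_of hBH hsH hsB
  -- index at most 4
  let HC : Subgroup C := H.subgroupOf C
  have hidx : Nat.card (C ⧸ HC) ≤ 4 := by
    have h1 : Nat.card HC * HC.index = Nat.card C := HC.card_mul_index
    have h2 : Nat.card HC = Nat.card H := Nat.card_congr (Subgroup.subgroupOfEquivOfLe hHC).toEquiv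
    have h3 : 0 < Nat.card B := by
      have : Finite B := Finite.of_injective _ (Subgroup.inclusion_injective hBC)
      exact Nat.card_pos
    change HC.index ≤ 4
    by_contra h4
    have h5 : 5 ≤ HC.index := by omega
    have h6 : Nat.card HC * 5 ≤ Nat.card HC * HC.index := Nat.mul_le_mul_left _ h5
    omega
  have hsol : Group.IsSolvable (Perm (C ⧸ HC)) := Schreier.Tools.isSolvable_perm_of_card_le_four _ hidx
  obtain ⟨n, hn⟩ := hsol.solvable
  have h1 : derivedSeries C n ≤ HC := by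
    have h2 : (derivedSeries C n).map (MulAction.toPermHom C (C ⧸ HC)) ≤ derivedSeries _ n :=
      map_derivedSeries_le_derivedSeries _ n
    rw [hn] at h2
    intro x hx
    have h3 : MulAction.toPermHom C (C ⧸ HC) x = 1 := h2 ⟨x, hx, rfl⟩
    have h4 : x ∈ (MulAction.toPermHom C (C ⧸ HC)).ker := h3
    rw [← Subgroup.normalCore_eq_ker] at h4
    exact HC.normalCore_le h4
  refine ⟨n + 1, ?_⟩
  rw [TR.dser_succ', dser_eq_map]
  have h2 : (derivedSeries C n).map C.subtype ≤ H := by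
    rintro _ ⟨x, hx, rfl⟩
    exact h1 hx
  refine (Subgroup.commutator_mono h2 h2).trans ?_
  rw [Subgroup.commutator_le]
  have h1' : s⁻¹ = s := by rw [inv_eq_iff_mul_eq_one, hss]
  have key : ∀ x ∈ H, ∃ y ∈ B, ∀ g ∈ C, x * g * x⁻¹ = y * g * y⁻¹ := by
    rintro x ⟨y, hy, h | h⟩
    · exact ⟨y, hy, fun _ _ => by rw [h]⟩
    · refine ⟨y, hy, fun g hg => ?_⟩
      rw [h]
      calc y * s * g * (y * s)⁻¹ = y * (s * g) * s⁻¹ * y⁻¹ := by group
        _ = y * g * y⁻¹ := by rw [← hc g hg, h1']; rw [show y * (g * s) * s * y⁻¹ = y * g * (s * s) * y⁻¹ by group, hss]; group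
  intro x hx x' hx'
  obtain ⟨y, hy, hxy⟩ := key x hx
  obtain ⟨y', hy', hxy'⟩ := key x' hx'
  have e1 : ⁅x, x'⁆ = ⁅y, y'⁆ := by
    rw [commutatorElement_def, commutatorElement_def, hxy _ (hHC hx')]
    have e2 : x' * y⁻¹ * x'⁻¹ = y' * y⁻¹ * y'⁻¹ := hxy' _ (C.inv_mem (hBC hy))
    calc y * x' * y⁻¹ * x'⁻¹ = y * (x' * y⁻¹ * x'⁻¹) := by group
      _ = _ := by rw [e2]; group
  rw [e1, commutatorElement_def]
  exact B.mul_mem (B.mul_mem (B.mul_mem hy hy') (B.inv_mem hy)) (B.inv_mem hy')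

end Cfsg.Agent.KFacts.HS.TwoB

private theorem dce_7d07e139c1e9 : _root_.True := by
  try have : _root_.True := by simp only [_root_.Cfsg.Agent.KFacts.HS.TwoB.g0.eq_1]
  exact _root_.True.intro
end

-- part: KFacts/HS/Trans
section
set_option linter.all false
open scoped Cfsg.Agent.FastGrp

set_option autoImplicit false

/-!
# Facts on `HS`: from `H0 = 2.HS.2` to a group isomorphic to `HS`

`D.im X`: the image in `L` of a subgroup `X` of `H0`; `D.pre B`: the preimage in `K` of a subgroup of `L`.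
-/

namespace Cfsg.Agent.KFacts.HS

open Cfsg.Agent.HN Cfsg.Agent.HN.Pres Cfsg.Agent.HN.HS100 Cfsg.Agent.HN.H0Basic
open Cfsg.Agent.HN.XMat Cfsg.Agent.HN.WMask Cfsg.Agent.KFacts.HS.Cent
open Cfsg.Agent.SporadicA.PermTab (band band_eq_true allB allB_iff)

/-! ### orders in `H0` -/

namespace Cent

/-- even masks -/
abbrev EM := {m : Fin 128 // par (rmw m) = false}

theorem card_EM : Nat.card EM = 64 := by
  rw [Nat.card_eq_fintype_card]
  decide +kernel

theorem card_S5W : S5W.length = 120 := by decide +kernel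

/-- even words -/
abbrev EW := {i : Fin S5W.length // evw (S5W.get i) = true}

theorem card_EW : Nat.card EW = 60 := by
  rw [Nat.card_eq_fintype_card]
  decide +kernel

theorem S5W_nodup : S5W.Nodup := List.Nodup.of_map _ nodup_key

theorem card_Rt : Nat.card Rt = 128 := by
  let F : EM × Bool → Rt := fun p => ⟨R p.1.1 * sg p.2, mem_Rt.2 ⟨p.1.1, p.1.1.2, p.1.2, p.2, rfl⟩⟩
  have hF : Function.Bijective F := by
    constructor
    · rintro ⟨m, e⟩ ⟨m', e'⟩ h
      obtain ⟨h1, h2⟩ := R_inj m.1.2 m'.1.2 (congrArg Subtype.val h)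
      exact Prod.ext (Subtype.ext (Fin.ext h1)) h2
    · rintro ⟨g, hg⟩
      obtain ⟨m, hm, hp, e, rfl⟩ := mem_Rt.1 hg
      exact ⟨(⟨⟨m, hm⟩, hp⟩, e), rfl⟩
  rw [← Nat.card_congr (Equiv.ofBijective F hF), Nat.card_prod, card_EM, Nat.card_eq_fintype_card, Fintype.card_bool]

theorem card_Pt : Nat.card Pt = 15360 := by
  let F : EM × Fin S5W.length × Bool → Pt := fun p =>
    ⟨el p.1.1 (S5W.get p.2.1) p.2.2, el_mem_Pt p.1.1.2 p.1.2 (List.get_mem _ _) _⟩
  have hF : Function.Bijective F := by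
    constructor
    · rintro ⟨m, i, e⟩ ⟨m', i', e'⟩ h
      obtain ⟨h1, h2, h3⟩ := el_inj m.1.2 m'.1.2 (List.get_mem _ _) (List.get_mem _ _) (congrArg Subtype.val h)
      exact Prod.ext (Subtype.ext (Fin.ext h1)) (Prod.ext ((List.nodup_iff_injective_get.1 S5W_nodup) h2) h3)
    · rintro ⟨g, hg⟩
      obtain ⟨m, hm, hp, w, hw1, e, rfl⟩ := exists_of_mem_Pt hg
      obtain ⟨i, rfl⟩ := List.get_of_mem hw1
      exact ⟨(⟨⟨m, hm⟩, hp⟩, i, e), rfl⟩
  rw [← Nat.card_congr (Equiv.ofBijective F hF), Nat.card_prod, Nat.card_prod, card_EM, Nat.card_eq_fintype_card,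
    Fintype.card_fin, Nat.card_eq_fintype_card, Fintype.card_bool, card_S5W]

theorem card_P0t : Nat.card P0t = 7680 := by
  let F : EM × EW × Bool → P0t := fun p =>
    ⟨el p.1.1 (S5W.get p.2.1.1) p.2.2, (el_mem_P0t p.1.1.2 p.1.2 (List.get_mem _ _)).2 p.2.1.2⟩
  have hF : Function.Bijective F := by
    constructor
    · rintro ⟨m, i, e⟩ ⟨m', i', e'⟩ h
      obtain ⟨h1, h2, h3⟩ := el_inj m.1.2 m'.1.2 (List.get_mem _ _) (List.get_mem _ _) (congrArg Subtype.val h)
      exact Prod.ext (Subtype.ext (Fin.ext h1))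
        (Prod.ext (Subtype.ext ((List.nodup_iff_injective_get.1 S5W_nodup) h2)) h3)
    · rintro ⟨g, hg⟩
      obtain ⟨m, hm, hp, w, hw1, hev, e, rfl⟩ := exists_of_mem_P0t hg
      obtain ⟨i, rfl⟩ := List.get_of_mem hw1
      exact ⟨(⟨⟨m, hm⟩, hp⟩, ⟨i, hev⟩, e), rfl⟩
  rw [← Nat.card_congr (Equiv.ofBijective F hF), Nat.card_prod, Nat.card_prod, card_EM, card_EW,
    Nat.card_eq_fintype_card, Fintype.card_bool]

end Cent

namespace Mod

variable {L : Type*} [Group L] (D : Mod L)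

/-- the image of a subgroup of `H0` -/
def im (X : Subgroup H0) : Subgroup L := (X.subgroupOf K).map D.π

/-- the preimage of a subgroup of `L` -/
def pre (B : Subgroup L) : Subgroup H0 := (B.comap D.π).map K.subtype

theorem mem_im {X : Subgroup H0} {l : L} : l ∈ D.im X ↔ ∃ (h : H0) (hk : h ∈ K), h ∈ X ∧ D.π ⟨h, hk⟩ = l := by
  constructor
  · rintro ⟨⟨h, hk⟩, hX, rfl⟩
    exact ⟨h, hk, hX, rfl⟩
  · rintro ⟨h, hk, hX, rfl⟩
    exact ⟨⟨h, hk⟩, hX, rfl⟩

theorem mem_pre {B : Subgroup L} {h : H0} : h ∈ D.pre B ↔ ∃ hk : h ∈ K, D.π ⟨h, hk⟩ ∈ B := by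
  constructor
  · rintro ⟨⟨h, hk⟩, hB, rfl⟩
    exact ⟨hk, hB⟩
  · rintro ⟨hk, hB⟩
    exact ⟨⟨h, hk⟩, hB, rfl⟩

theorem π_τ : D.π ⟨τ, τ_mem_K⟩ = 1 := (D.ker _).2 (Or.inr rfl)

theorem τ_mem_pre (B : Subgroup L) : τ ∈ D.pre B := D.mem_pre.2 ⟨τ_mem_K, by rw [π_τ]; exact B.one_mem⟩

theorem π_mem_im {X : Subgroup H0} (hτ : τ ∈ X) {h : H0} (hk : h ∈ K) : D.π ⟨h, hk⟩ ∈ D.im X ↔ h ∈ X := by
  rw [mem_im]
  constructor
  · rintro ⟨h', hk', hX, he⟩
    rw [eq_iff] at he
    rcases he with he | he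
    · exact (show h' = h from he) ▸ hX
    · have h1 : h = h' * τ := by
        have : h' = h * τ := he
        rw [this, mul_assoc, τ_mul_τ, mul_one]
      rw [h1]
      exact X.mul_mem hX hτ
  · exact fun hX => ⟨h, hk, hX, rfl⟩

theorem im_pre (B : Subgroup L) : D.im (D.pre B) = B := by
  ext l
  obtain ⟨⟨h, hk⟩, rfl⟩ := D.surj l
  rw [D.π_mem_im (D.τ_mem_pre B) hk, mem_pre]
  exact ⟨fun ⟨_, h⟩ => h, fun h => ⟨hk, h⟩⟩

theorem im_mono {X Y : Subgroup H0} (h : X ≤ Y) : D.im X ≤ D.im Y := by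
  intro l hl
  obtain ⟨g, hk, hX, rfl⟩ := D.mem_im.1 hl
  exact D.mem_im.2 ⟨g, hk, h hX, rfl⟩

theorem le_im_of_pre {B : Subgroup L} {X : Subgroup H0} (h : D.pre B ≤ X) : B ≤ D.im X := by
  rw [← D.im_pre B]
  exact D.im_mono h

theorem π_mul {g h : H0} (hg : g ∈ K) (hh : h ∈ K) :
    D.π ⟨g, hg⟩ * D.π ⟨h, hh⟩ = D.π ⟨g * h, K.mul_mem hg hh⟩ := by
  rw [← map_mul]; rfl

theorem π_inv {g : H0} (hg : g ∈ K) : (D.π ⟨g, hg⟩)⁻¹ = D.π ⟨g⁻¹, K.inv_mem hg⟩ := by
  rw [← map_inv]; rfl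

theorem π_conj {g h : H0} (hg : g ∈ K) (hh : h ∈ K) :
    D.π ⟨g, hg⟩ * D.π ⟨h, hh⟩ * (D.π ⟨g, hg⟩)⁻¹ = D.π ⟨g * h * g⁻¹, K_conj hh⟩ := by
  rw [π_inv, π_mul, π_mul]

/-- equality in `L` -/
theorem π_eq {g h : H0} (hg : g ∈ K) (hh : h ∈ K) : D.π ⟨g, hg⟩ = D.π ⟨h, hh⟩ ↔ g = h ∨ g = h * τ :=
  D.eq_iff _ _

theorem π_eq_one {g : H0} (hg : g ∈ K) : D.π ⟨g, hg⟩ = 1 ↔ g = 1 ∨ g = τ := D.ker _

theorem au_π' (h : H0) {g : H0} (hg : g ∈ K) : D.au h (D.π ⟨g, hg⟩) = D.π ⟨h * g * h⁻¹, K_conj hg⟩ := D.au_π h _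

include D in
theorem finite : Finite L := Finite.of_surjective D.π D.surj

theorem card_im {X : Subgroup H0} (hτ : τ ∈ X) (hX : X ≤ K) : 2 * Nat.card (D.im X) = Nat.card X := by
  have := D.finite
  have h1 : (D.im X).comap D.π = X.subgroupOf K := by
    ext ⟨h, hk⟩
    exact D.π_mem_im hτ hk
  have h2 : (X.subgroupOf K).index = (D.im X).index := by
    rw [← h1, Subgroup.index_comap_of_surjective _ D.surj]
  have h3 := (D.im X).card_mul_index
  have h4 := (X.subgroupOf K).card_mul_index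
  rw [h2, Nat.card_congr (Subgroup.subgroupOfEquivOfLe hX).toEquiv] at h4
  have h5 : Nat.card K = 88704000 := DoubleCover.card_K card_H0
  have h6 := D.card
  have h7 : 0 < (D.im X).index := Nat.pos_of_ne_zero Subgroup.index_ne_zero_of_finite
  have h8 : 2 * Nat.card (D.im X) * (D.im X).index = Nat.card X * (D.im X).index := by
    rw [h4, mul_assoc, h3, h5, h6]; norm_num
  exact Nat.eq_of_mul_eq_mul_right h7 h8

/-! ### the elements `z`, `u`, `k` and the subgroups `P`, `R` -/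

/-- the central involution -/
def z : L := D.π ⟨b, b_mem_K⟩

/-- the element of order 4 -/
def u : L := D.π ⟨U, U_mem_K⟩

/-- the element `k` -/
def k : L := D.π ⟨kk, kk_mem_K⟩

/-- `C(u)` -/
def P : Subgroup L := D.im P0t

/-- `O₂(C(z))` -/
def R : Subgroup L := D.im Rt

theorem τ_mem_P0t : τ ∈ P0t := Rt_le τ_mem_Rt

theorem τ_mem_Pt : τ ∈ Pt := P0t_le τ_mem_P0t

theorem Pt_le_K : Pt ≤ K := fun _ h => (mem_Pt.1 h).2

theorem P0t_le_K : P0t ≤ K := fun _ h => (mem_P0t.1 h).2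

theorem Rt_le_K : Rt ≤ K := Rt_le.trans P0t_le_K

theorem not_conj_bτ (h : H0) : h * b * h⁻¹ ≠ b * τ := by
  intro h1
  have h2 : IsConj b (b * τ) := isConj_iff.2 ⟨h, h1⟩
  have h3 : b * τ = Syl.a := by rw [b_eq, mul_assoc, τ_mul_τ, mul_one]
  rw [h3, b_eq] at h2
  exact Classes.not_isConj_a_aτ h2.symm

/-- the centraliser of `z` -/
theorem comm_z {h : H0} (hk : h ∈ K) : D.π ⟨h, hk⟩ * D.z = D.z * D.π ⟨h, hk⟩ ↔ h ∈ Pt := by
  rw [mem_Pt, and_iff_left hk]
  unfold z
  rw [π_mul, π_mul, π_eq]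
  constructor
  · rintro (h1 | h1)
    · exact h1
    · exfalso
      apply not_conj_bτ h
      rw [h1]
      calc b * h * τ * h⁻¹ = b * (h * τ) * h⁻¹ := by group
        _ = b * (τ * h) * h⁻¹ := by rw [τ_comm h]
        _ = _ := by group
  · exact Or.inl


theorem mem_centralizer_z {l : L} : l ∈ Subgroup.centralizer ({D.z} : Set L) ↔ l ∈ D.im Pt := by
  obtain ⟨⟨h, hk⟩, rfl⟩ := D.surj l
  rw [Subgroup.mem_centralizer_singleton_iff, D.comm_z hk, D.π_mem_im τ_mem_Pt hk]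

theorem centralizer_z : Subgroup.centralizer ({D.z} : Set L) = D.im Pt := by
  ext l
  exact D.mem_centralizer_z

/-- elements of `Pt` map `U` to `U` or `U b τ` -/
theorem Pt_U {h : H0} (hh : h ∈ Pt) : h * U * h⁻¹ = U ∨ h * U * h⁻¹ = U * (b * τ) := by
  obtain ⟨m, hm, hp, w, hw1, e, he⟩ := exists_of_mem_Pt (Pt.inv_mem hh)
  have h1 := U_el hm hw1 e
  rw [← he, hp] at h1
  have h2 : h * U * h⁻¹ = U * (sa (!evw w) * sg false) := by
    rw [mul_assoc, h1]; group
  rw [h2]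
  change U * (sa (!evw w) * 1) = U ∨ U * (sa (!evw w) * 1) = U * (b * τ)
  rw [mul_one]
  cases evw w
  · exact Or.inr rfl
  · exact Or.inl (mul_one U)

theorem mem_P0t_iff {h : H0} (hh : h ∈ Pt) : h ∈ P0t ↔ h * U * h⁻¹ = U := by
  rw [mem_P0t, and_iff_left (Pt_le_K hh), mul_inv_eq_iff_eq_mul]

/-- the centraliser of `u` -/
theorem comm_u {h : H0} (hk : h ∈ K) : D.π ⟨h, hk⟩ * D.u = D.u * D.π ⟨h, hk⟩ ↔ h ∈ P0t := by
  constructor
  · intro h1
    have hz : D.π ⟨h, hk⟩ * D.z = D.z * D.π ⟨h, hk⟩ := by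
      have h2 : D.z = D.u * D.u := by
        unfold z u
        rw [π_mul]
        congr 2
        exact U_sq.symm
      have c : Commute (D.π ⟨h, hk⟩) D.u := h1
      rw [h2]
      exact (c.mul_right c).eq
    have hP := (D.comm_z hk).1 hz
    rw [mem_P0t_iff hP]
    rcases Pt_U hP with h2 | h2
    · exact h2
    · exfalso
      unfold u at h1
      rw [π_mul, π_mul, π_eq] at h1
      rw [mul_inv_eq_iff_eq_mul] at h2
      rcases h1 with h3 | h3
      · rw [h2, mul_assoc, mul_assoc] at h3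
        have h4 := mul_left_cancel h3
        rw [← mul_assoc] at h4
        exact bτ_ne (mul_eq_right.1 h4)
      · rw [h2] at h3
        have h4 : U * (b * τ * h) = U * (τ * h) := by
          rw [← mul_assoc, h3, mul_assoc, τ_comm h]
        have h5 : b * τ * h = τ * h := mul_left_cancel h4
        have h6 : b * τ = τ := mul_right_cancel h5
        exact b_ne (mul_eq_right.1 h6)
  · intro h1
    unfold u
    rw [π_mul, π_mul, π_eq]
    exact Or.inl (mem_P0t.1 h1).1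

end Mod

end Cfsg.Agent.KFacts.HS
end

-- part: KFacts/HS/Sheet
section
prune_inst 0x1010010044220000001800002000000020000002004000000040000000080040a00008000a6000100022004000000008111000000210000020000000000400000000000080080000000000000000000000000000000000000000000000000000000000000
set_option linter.all false
open scoped Cfsg.Agent.FastGrp

set_option autoImplicit false

/-!
# Facts on `HS`: the fact sheet

`sheetHS : Spor.IsoHS L → ∃ z u k P R, SheetHS z u k P R`.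
-/

namespace Cfsg.Agent.KFacts.HS

open Cfsg.Agent.HN Cfsg.Agent.HN.Pres Cfsg.Agent.HN.HS100 Cfsg.Agent.HN.H0Basic
open Cfsg.Agent.HN.XMat Cfsg.Agent.HN.WMask Cfsg.Agent.KFacts.HS.Cent
open Cfsg.Agent.OddHalf
open Subgroup (centralizer mem_centralizer_singleton_iff)
open scoped commutatorElement

/-! ### Sylow subgroups -/

section

variable {A : Type*} [Group A]

/-- a Sylow 2-subgroup contained in a subgroup of odd index -/
theorem exists_sylow_le [Finite A] (C : Subgroup A) (hodd : Odd C.index) :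
    ∃ T : Sylow 2 A, (T : Subgroup A) ≤ C := by
  have : Fact (Nat.Prime 2) := ⟨Nat.prime_two⟩
  obtain ⟨P⟩ : Nonempty (Sylow 2 C) := inferInstance
  have h1 : IsPGroup 2 ((P : Subgroup C).map C.subtype) := P.2.map _
  obtain ⟨T, hT⟩ := h1.exists_le_sylow
  have hcard : Nat.card (T : Subgroup A) ≤ Nat.card ((P : Subgroup C).map C.subtype) := by
    rw [Nat.card_congr ((P : Subgroup C).equivMapOfInjective C.subtype C.subtype_injective).toEquiv.symm,
      T.card_eq_multiplicity, P.card_eq_multiplicity]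
    have h2 : Nat.card A = Nat.card C * C.index := (Subgroup.card_mul_index C).symm
    have h3 : (Nat.card A).factorization 2 = (Nat.card C).factorization 2 := by
      rw [h2, Nat.factorization_mul (Nat.card_pos.ne') (Subgroup.index_ne_zero_of_finite)]
      simp only [Finsupp.coe_add, Pi.add_apply]
      rw [Nat.factorization_eq_zero_of_not_dvd (n := C.index), add_zero]
      rw [← even_iff_two_dvd, Nat.not_even_iff_odd]
      exact hodd
    rw [h3]
  have heq : (P : Subgroup C).map C.subtype = (T : Subgroup A) := by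
    apply SetLike.coe_injective
    exact Set.eq_of_subset_of_ncard_le hT hcard (Set.toFinite _)
  refine ⟨T, ?_⟩
  rw [← heq]
  exact Subgroup.map_subtype_le _

/-- A normal 2-subgroup of `C` lies in every Sylow 2-subgroup of `A` contained in `C`. -/
theorem normal_le_sylow [Finite A] (C Q : Subgroup A) (hQn : ∀ c ∈ C, ∀ q ∈ Q, c * q * c⁻¹ ∈ Q)
    (hQ : IsPGroup 2 Q) (T : Sylow 2 A) (hT : (T : Subgroup A) ≤ C) : Q ≤ (T : Subgroup A) := by
  have h1 : (T : Subgroup A) ≤ Subgroup.normalizer (Q : Set A) := by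
    intro t ht
    rw [Subgroup.mem_normalizer_iff]
    intro q
    refine ⟨fun hq => hQn t (hT ht) q hq, fun hq => ?_⟩
    have h2 := hQn t⁻¹ (inv_mem (hT ht)) _ hq
    have h3 : t⁻¹ * (t * q * t⁻¹) * t⁻¹⁻¹ = q := by group
    rwa [h3] at h2
  have h2 : IsPGroup 2 ((T : Subgroup A) ⊔ Q : Subgroup A) := by
    rw [sup_comm]
    exact hQ.to_sup_of_normal_left' T.2 h1
  have h3 : (T : Subgroup A) ⊔ Q = T := T.3 h2 le_sup_left
  rw [← h3]
  exact le_sup_right

end

namespace Mod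

variable {L : Type*} [Group L] (D : Mod L)

theorem π_congr {g h : H0} (hg : g ∈ K) (e : g = h) : D.π ⟨g, hg⟩ = D.π ⟨h, e ▸ hg⟩ := by
  subst e; rfl

theorem π_congrτ {g h : H0} (hg : g ∈ K) (hh : h ∈ K) (e : g = h * τ) : D.π ⟨g, hg⟩ = D.π ⟨h, hh⟩ :=
  (D.π_eq hg hh).2 (Or.inr e)

theorem π_one (h1 : (1 : H0) ∈ K) : D.π ⟨1, h1⟩ = 1 := map_one D.π

theorem zz : D.z * D.z = 1 := by
  unfold z
  rw [π_mul, π_eq_one]
  exact Or.inl b_sq

theorem z1 : D.z ≠ 1 := by
  unfold z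
  rw [Ne, π_eq_one]
  rintro (h | h)
  · exact b_ne h
  · exact sg_ne_τ true h

theorem uu : D.u * D.u = D.z := by
  unfold z u
  rw [π_mul, π_eq]
  exact Or.inl U_sq

theorem u_inv : D.u⁻¹ = D.u * D.z := by
  rw [inv_eq_iff_mul_eq_one, ← mul_assoc, uu, zz]

theorem uR : D.u ∈ D.R := (D.π_mem_im τ_mem_Rt U_mem_K).2 U_mem_Rt

theorem zR : D.z ∈ D.R := (D.π_mem_im τ_mem_Rt b_mem_K).2 b_mem_Rt

theorem RP : D.R ≤ D.P := D.im_mono Rt_le

theorem memP (x : L) : x ∈ D.P ↔ x * D.u = D.u * x := by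
  obtain ⟨⟨h, hk⟩, rfl⟩ := D.surj x
  rw [D.comm_u hk]
  exact D.π_mem_im τ_mem_P0t hk

theorem P_le : D.P ≤ centralizer ({D.z} : Set L) := by
  rw [centralizer_z]
  exact D.im_mono P0t_le

/-- `R` is normal in `C(z)` -/
theorem Rn' {x : L} (hx : x * D.z = D.z * x) {r : L} (hr : r ∈ D.R) : x * r * x⁻¹ ∈ D.R := by
  obtain ⟨⟨h, hk⟩, rfl⟩ := D.surj x
  obtain ⟨g, hg, hgR, rfl⟩ := D.mem_im.1 hr
  have hP := (D.comm_z hk).1 hx
  rw [π_conj]
  exact (D.π_mem_im τ_mem_Rt _).2 (Rt_conj (mem_Pt.1 hP).1 hgR)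

theorem Pcomm {x : L} (hx : x ∈ D.P) : x * D.z = D.z * x := mem_centralizer_singleton_iff.1 (D.P_le hx)

theorem inv (x : L) (hx : x * D.z = D.z * x) : x * D.u * x⁻¹ = D.u ∨ x * D.u * x⁻¹ = D.u⁻¹ := by
  obtain ⟨⟨h, hk⟩, rfl⟩ := D.surj x
  have hP := (D.comm_z hk).1 hx
  rcases Pt_U hP with h1 | h1
  · left
    unfold u
    rw [π_conj]
    exact D.π_congr _ h1
  · right
    rw [u_inv]
    unfold u z
    rw [π_conj, π_mul]
    refine D.π_congrτ _ _ ?_
    rw [h1, mul_assoc]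

theorem perf : ⁅D.P, D.P⁆ = D.P := by
  apply le_antisymm
  · rw [Subgroup.commutator_le]
    intro x hx y hy
    rw [commutatorElement_def]
    exact D.P.mul_mem (D.P.mul_mem (D.P.mul_mem hx hy) (D.P.inv_mem hx)) (D.P.inv_mem hy)
  · have key : P0t ≤ D.pre ⁅D.P, D.P⁆ := by
      apply P0t_le_of (D.τ_mem_pre _)
      · intro x hx y hy
        have hxK := P0t_le_K hx
        have hyK := P0t_le_K hy
        rw [mem_pre]
        have e1 : D.π ⟨x * y * x⁻¹ * y⁻¹, K.mul_mem (K.mul_mem (K.mul_mem hxK hyK) (K.inv_mem hxK)) (K.inv_mem hyK)⟩ =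
            ⁅D.π ⟨x, hxK⟩, D.π ⟨y, hyK⟩⁆ := by
          rw [commutatorElement_def, π_inv, π_inv, π_mul, π_mul, π_mul]
        refine ⟨_, e1 ▸ Subgroup.commutator_mem_commutator ?_ ?_⟩
        · exact (D.π_mem_im τ_mem_P0t hxK).2 hx
        · exact (D.π_mem_im τ_mem_P0t hyK).2 hy
      · intro h hh g hg
        have hhK := Pt_le_K hh
        obtain ⟨hgK, hgB⟩ := D.mem_pre.1 hg
        rw [mem_pre]
        refine ⟨K_conj hgK, ?_⟩
        rw [← D.π_conj hhK hgK]
        -- `P` is normalised by `C(z)`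
        have hn : ∀ x ∈ D.P, D.π ⟨h, hhK⟩ * x * (D.π ⟨h, hhK⟩)⁻¹ ∈ D.P := by
          intro x hx
          have hz : D.π ⟨h, hhK⟩ * D.z = D.z * D.π ⟨h, hhK⟩ := (D.comm_z hhK).2 hh
          have hz' : (D.π ⟨h, hhK⟩)⁻¹ * D.z = D.z * (D.π ⟨h, hhK⟩)⁻¹ := by
            rw [inv_mul_eq_iff_eq_mul, ← mul_assoc, hz, mul_assoc, mul_inv_cancel, mul_one]
          rw [memP] at hx ⊢
          set c := D.π ⟨h, hhK⟩
          rcases D.inv c⁻¹ hz' with h1 | h1
          · rw [inv_inv] at h1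
            calc c * x * c⁻¹ * D.u = c * x * (c⁻¹ * D.u * c) * c⁻¹ := by group
              _ = c * (x * D.u) * c⁻¹ := by rw [h1]; group
              _ = c * (D.u * x) * c⁻¹ := by rw [hx]
              _ = (c * D.u * c⁻¹) * (c * x * c⁻¹) := by group
              _ = D.u * (c * x * c⁻¹) := by
                  have : c * D.u * c⁻¹ = D.u := by
                    conv_lhs => rw [← h1]
                    group
                  rw [this]
          · rw [inv_inv] at h1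
            have hxi : x * D.u⁻¹ = D.u⁻¹ * x := by
              rw [eq_inv_mul_iff_mul_eq, ← mul_assoc, ← hx, mul_assoc, mul_inv_cancel, mul_one]
            calc c * x * c⁻¹ * D.u = c * x * (c⁻¹ * D.u * c) * c⁻¹ := by group
              _ = c * (x * D.u⁻¹) * c⁻¹ := by rw [h1]; group
              _ = c * (D.u⁻¹ * x) * c⁻¹ := by rw [hxi]
              _ = (c * D.u⁻¹ * c⁻¹) * (c * x * c⁻¹) := by group
              _ = D.u * (c * x * c⁻¹) := by
                  have : c * D.u⁻¹ * c⁻¹ = D.u := by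
                    rw [← h1]; group
                  rw [this]
        have hn2 : (⁅D.P, D.P⁆).map (MulAut.conj (D.π ⟨h, hhK⟩)).toMonoidHom ≤ ⁅D.P, D.P⁆ := by
          rw [Subgroup.map_commutator]
          have : D.P.map (MulAut.conj (D.π ⟨h, hhK⟩)).toMonoidHom ≤ D.P := by
            rintro _ ⟨x, hx, rfl⟩
            exact hn x hx
          exact Subgroup.commutator_mono this this
        exact hn2 ⟨_, hgB, rfl⟩
    exact (D.im_mono key).trans (D.im_pre _).le

/-- the action of `C(z)` on `⟨u⟩` -/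
theorem semiconj {g : L} (hg : g * D.z = D.z * g) :
    (SemiconjBy g D.u D.u ∧ SemiconjBy g D.u⁻¹ D.u⁻¹ ∧ SemiconjBy g⁻¹ D.u D.u ∧ SemiconjBy g⁻¹ D.u⁻¹ D.u⁻¹) ∨
    (SemiconjBy g D.u D.u⁻¹ ∧ SemiconjBy g D.u⁻¹ D.u ∧ SemiconjBy g⁻¹ D.u D.u⁻¹ ∧ SemiconjBy g⁻¹ D.u⁻¹ D.u) := by
  rcases D.inv g hg with h1 | h1
  · left
    have a : SemiconjBy g D.u D.u := mul_inv_eq_iff_eq_mul.1 h1
    exact ⟨a, a.inv_right, a.inv_symm_left, a.inv_right.inv_symm_left⟩
  · right
    have a : SemiconjBy g D.u D.u⁻¹ := mul_inv_eq_iff_eq_mul.1 h1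
    have c : SemiconjBy g D.u⁻¹ D.u := by
      have := a.inv_right
      rwa [inv_inv] at this
    exact ⟨a, c, c.inv_symm_left, a.inv_symm_left⟩

theorem der : ∃ m, TR.dser m (centralizer ({D.z} : Set L)) ≤ D.P := by
  refine ⟨1, ?_⟩
  rw [TR.dser_succ, TR.dser_zero, Subgroup.commutator_le]
  intro x hx y hy
  rw [mem_centralizer_singleton_iff] at hx hy
  rw [memP, commutatorElement_def]
  rcases D.semiconj hx with ⟨a1, a2, a3, a4⟩ | ⟨a1, a2, a3, a4⟩ <;>
    rcases D.semiconj hy with ⟨b1, b2, b3, b4⟩ | ⟨b1, b2, b3, b4⟩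
  · exact ((a1.mul_left b1).mul_left a3).mul_left b3
  · exact ((a1.mul_left b2).mul_left a4).mul_left b3
  · exact ((a2.mul_left b2).mul_left a3).mul_left b3
  · exact ((a2.mul_left b1).mul_left a4).mul_left b3

include D in
theorem out : ¬ 4 ∣ (MulAut.conj : L →* MulAut L).range.index := by
  rw [D.index_inn]; norm_num

include D in
theorem schreier : ∃ n, TR.dser n (⊤ : Subgroup (MulAut L)) ≤ (MulAut.conj : L →* MulAut L).range := by
  refine ⟨1, ?_⟩
  rw [TR.dser_succ, TR.dser_zero, Subgroup.commutator_le]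
  intro α _ β _
  obtain ⟨s, hs⟩ := D.exists_sign
  obtain ⟨h, hh⟩ := D.au_surj ⁅α, β⁆
  rw [← hh, D.au_mem_inner, mem_K_iff, ← hs, hh, map_commutatorElement]
  exact commutatorElement_eq_one_iff_mul_comm.2 (mul_comm _ _)

theorem cardR : Nat.card D.R = 64 := by
  have h := D.card_im τ_mem_Rt Rt_le_K
  rw [card_Rt] at h
  change Nat.card (D.im Rt) = 64
  omega

theorem cardP : Nat.card D.P = 3840 := by
  have h := D.card_im τ_mem_P0t P0t_le_K
  rw [card_P0t] at h
  change Nat.card (D.im P0t) = 3840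
  omega

theorem card_centralizer : Nat.card (centralizer ({D.z} : Set L)) = 7680 := by
  have h := D.card_im τ_mem_Pt Pt_le_K
  rw [card_Pt] at h
  rw [centralizer_z]
  omega

/-- preimages of 2-subgroups -/
theorem pre_two {B : Subgroup L} (hB : IsPGroup 2 B) {g : H0} (hg : g ∈ D.pre B) : ∃ k : ℕ, g ^ 2 ^ k = 1 := by
  obtain ⟨hk, hgB⟩ := D.mem_pre.1 hg
  obtain ⟨k, hk2⟩ := hB ⟨_, hgB⟩
  have h1 : (D.π ⟨g, hk⟩) ^ 2 ^ k = 1 := congrArg Subtype.val hk2
  have h2 : D.π ⟨g ^ 2 ^ k, K.pow_mem hk _⟩ = 1 := by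
    rw [← h1, ← map_pow]; rfl
  rw [π_eq_one] at h2
  refine ⟨k + 1, ?_⟩
  rw [pow_succ, pow_mul]
  rcases h2 with h2 | h2
  · rw [h2, one_pow]
  · rw [h2, τ_sq]

theorem isPGroup_R : IsPGroup 2 D.R := IsPGroup.of_card (n := 6) (by rw [cardR]; norm_num)

/-- a subgroup of `L` normalised by `P` has a preimage normalised by `P0t` -/
theorem pre_norm {B : Subgroup L} (hn : ∀ x ∈ D.P, ∀ c ∈ B, x * c * x⁻¹ ∈ B) :
    ∀ h ∈ P0t, ∀ g ∈ D.pre B, h * g * h⁻¹ ∈ D.pre B := by
  intro h hh g hg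
  have hhK := P0t_le_K hh
  obtain ⟨hgK, hgB⟩ := D.mem_pre.1 hg
  rw [mem_pre]
  refine ⟨K_conj hgK, ?_⟩
  rw [← D.π_conj hhK hgK]
  exact hn _ ((D.π_mem_im τ_mem_P0t hhK).2 hh) _ hgB

theorem core (B : Subgroup L) (hB : B ≤ centralizer ({D.z} : Set L)) (h2 : IsPGroup 2 B)
    (hn : ∀ x ∈ D.P, ∀ c ∈ B, x * c * x⁻¹ ∈ B) : B ≤ D.R := by
  apply D.le_im_of_pre
  apply Cent.core
  · intro h hh
    obtain ⟨hk, hB'⟩ := D.mem_pre.1 hh
    exact (D.comm_z hk).1 (mem_centralizer_singleton_iff.1 (hB hB'))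
  · exact fun g hg => D.pre_two h2 hg
  · exact D.pre_norm hn

/-- images of the elements of `⟨U, τ⟩` -/
theorem four_of {g : H0} (hg : g ∈ K) (h : ∃ e, g = sg e ∨ g = τ * sg e ∨ g = Cent.U * sg e ∨ g = Cent.U * τ * sg e) :
    D.π ⟨g, hg⟩ = 1 ∨ D.π ⟨g, hg⟩ = D.z ∨ D.π ⟨g, hg⟩ = D.u ∨ D.π ⟨g, hg⟩ = D.u⁻¹ := by
  have hsg : ∀ e, D.π ⟨sg e, sg_mem_K e⟩ = 1 ∨ D.π ⟨sg e, sg_mem_K e⟩ = D.z := by
    intro e; cases e
    · exact Or.inl (D.π_one _)
    · exact Or.inr rfl
  obtain ⟨e, h | h | h | h⟩ := h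
  · have h1 : D.π ⟨g, hg⟩ = D.π ⟨sg e, sg_mem_K e⟩ := D.π_congr _ h
    rcases hsg e with h2 | h2
    · exact Or.inl (h1.trans h2)
    · exact Or.inr (Or.inl (h1.trans h2))
  · have h1 : D.π ⟨g, hg⟩ = D.π ⟨sg e, sg_mem_K e⟩ := D.π_congrτ _ _ (by rw [h, τ_comm])
    rcases hsg e with h2 | h2
    · exact Or.inl (h1.trans h2)
    · exact Or.inr (Or.inl (h1.trans h2))
  · have h1 : D.π ⟨g, hg⟩ = D.u * D.π ⟨sg e, sg_mem_K e⟩ := by
      unfold u; rw [π_mul]; exact D.π_congr _ h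
    rcases hsg e with h2 | h2
    · exact Or.inr (Or.inr (Or.inl (by rw [h1, h2, mul_one])))
    · exact Or.inr (Or.inr (Or.inr (by rw [h1, h2, u_inv])))
  · have h1 : D.π ⟨g, hg⟩ = D.u * D.π ⟨sg e, sg_mem_K e⟩ := by
      unfold u; rw [π_mul]; refine D.π_congrτ _ _ ?_
      rw [h, mul_assoc, ← τ_comm (sg e), ← mul_assoc]
    rcases hsg e with h2 | h2
    · exact Or.inr (Or.inr (Or.inl (by rw [h1, h2, mul_one])))
    · exact Or.inr (Or.inr (Or.inr (by rw [h1, h2, u_inv])))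

theorem subs (B : Subgroup L) (hB : B ≤ D.R) (hn : ∀ x ∈ D.P, ∀ c ∈ B, x * c * x⁻¹ ∈ B) :
    (∀ c ∈ B, c = 1 ∨ c = D.z ∨ c = D.u ∨ c = D.u⁻¹) ∨ B = D.R := by
  have hle : D.pre B ≤ Rt := by
    intro h hh
    obtain ⟨hk, hB'⟩ := D.mem_pre.1 hh
    exact (D.π_mem_im τ_mem_Rt hk).1 (hB hB')
  rcases Cent.subs hle (D.pre_norm hn) (D.τ_mem_pre B) with h | h | h
  · left
    intro c hc
    obtain ⟨⟨g, hg⟩, rfl⟩ := D.surj c
    obtain ⟨e, h1⟩ := h g (D.mem_pre.2 ⟨hg, hc⟩)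
    exact D.four_of hg ⟨e, by rcases h1 with h1 | h1 <;> [exact Or.inl h1; exact Or.inr (Or.inl h1)]⟩
  · left
    intro c hc
    obtain ⟨⟨g, hg⟩, rfl⟩ := D.surj c
    exact D.four_of hg (h.2 g (D.mem_pre.2 ⟨hg, hc⟩))
  · right
    rw [← D.im_pre B, h]
    rfl

/-- elements of `C(z)` centralising `R` -/
theorem cR' (x : L) (hx : x * D.z = D.z * x) (hr : ∀ r ∈ D.R, x * r = r * x) :
    x = 1 ∨ x = D.z ∨ x = D.u ∨ x = D.u⁻¹ := by
  obtain ⟨⟨h, hk⟩, rfl⟩ := D.surj x
  have hP := (D.comm_z hk).1 hx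
  apply D.four_of hk
  apply fixR (mem_Pt.1 hP).1
  intro r hrR
  have hrK := Rt_le_K hrR
  have h1 := hr _ ((D.π_mem_im τ_mem_Rt hrK).2 hrR)
  rw [← mul_inv_eq_iff_eq_mul, π_conj, π_eq] at h1
  exact h1

theorem cR (x : L) (hx : x ∈ D.P) (hr : ∀ r ∈ D.R, x * r = r * x) :
    x = 1 ∨ x = D.z ∨ x = D.u ∨ x = D.u⁻¹ := D.cR' x (D.Pcomm hx) hr

/-- automorphisms fixing `z` -/
theorem au_z {h : H0} (hh : D.au h D.z = D.z) : h * b = b * h := by
  unfold z at hh
  rw [au_π', π_eq] at hh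
  rcases hh with h1 | h1
  · exact mul_inv_eq_iff_eq_mul.1 h1
  · exact absurd h1 (not_conj_bτ h)

/-- automorphisms trivial on `R` -/
theorem autR (α : MulAut L) (hα : ∀ r ∈ D.R, α r = r) :
    ∃ c : L, (c = 1 ∨ c = D.z ∨ c = D.u ∨ c = D.u⁻¹) ∧ α = MulAut.conj c := by
  obtain ⟨h, rfl⟩ := D.au_surj α
  have hb := D.au_z (hα _ D.zR)
  have h1 := fixR hb (by
    intro r hr
    have hrK := Rt_le_K hr
    have h2 := hα _ ((D.π_mem_im τ_mem_Rt hrK).2 hr)
    rw [au_π', π_eq] at h2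
    exact h2)
  have hK : h ∈ K := by
    obtain ⟨e, h2 | h2 | h2 | h2⟩ := h1
    · rw [h2]; exact sg_mem_K e
    · rw [h2]; exact K.mul_mem τ_mem_K (sg_mem_K e)
    · rw [h2]; exact K.mul_mem U_mem_K (sg_mem_K e)
    · rw [h2]; exact K.mul_mem (K.mul_mem U_mem_K τ_mem_K) (sg_mem_K e)
  exact ⟨D.π ⟨h, hK⟩, D.four_of hK h1, D.au_K ⟨h, hK⟩⟩

theorem R_le_sylow (S : Sylow 2 L) (hS : ∀ x ∈ S, x * D.z = D.z * x) : D.R ≤ S := by
  have := D.finite
  exact normal_le_sylow (centralizer ({D.z} : Set L)) D.R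
    (fun c hc q hq => D.Rn' (mem_centralizer_singleton_iff.1 hc) hq) D.isPGroup_R S
    (fun x hx => mem_centralizer_singleton_iff.2 (hS x hx))

theorem sylAut (S : Sylow 2 L) (hS : ∀ x ∈ S, x * D.z = D.z * x) (α : MulAut L) (hα : ∀ x ∈ S, α x = x) :
    ∃ c : L, α = MulAut.conj c := by
  obtain ⟨c, -, hc⟩ := D.autR α fun r hr => hα r (D.R_le_sylow S hS hr)
  exact ⟨c, hc⟩

theorem syl : ∃ S : Sylow 2 L, D.z ∈ S ∧ (∀ x ∈ S, x * D.z = D.z * x) ∧
    ∀ y ∈ S, (∀ x ∈ S, x * y = y * x) → y = 1 ∨ y = D.z := by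
  have := D.finite
  have hidx : (centralizer ({D.z} : Set L)).index = 5775 := by
    have h1 := (centralizer ({D.z} : Set L)).card_mul_index
    rw [card_centralizer, D.card] at h1
    omega
  obtain ⟨S, hS⟩ := exists_sylow_le (centralizer ({D.z} : Set L)) (by
    rw [hidx]; decide)
  have hS' : ∀ x ∈ S, x * D.z = D.z * x := fun x hx => mem_centralizer_singleton_iff.1 (hS hx)
  have hR := D.R_le_sylow S hS'
  refine ⟨S, hR D.zR, hS', fun y hy hc => ?_⟩
  have hnot : ¬ (S : Subgroup L) ≤ D.P := by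
    intro hle
    have h1 : Nat.card (S : Subgroup L) = 512 := by
      rw [S.card_eq_multiplicity, D.card]
      have : (44352000 : ℕ).factorization 2 = 9 := by
        have : (44352000 : ℕ) = 2 ^ 9 * 86625 := by norm_num
        rw [this, Nat.factorization_mul (by norm_num) (by norm_num), Nat.Prime.factorization_pow Nat.prime_two]
        simp only [Finsupp.coe_add, Pi.add_apply, Finsupp.single_eq_same]
        rw [Nat.factorization_eq_zero_of_not_dvd (by norm_num)]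
      rw [this]; norm_num
    have h2 := Subgroup.card_dvd_of_le hle
    rw [h1, cardP] at h2
    exact absurd h2 (by norm_num)
  have hnu : ∀ v : L, (v = D.u ∨ v = D.u⁻¹) → ¬ ∀ x ∈ S, x * v = v * x := by
    intro v hv hx
    apply hnot
    intro x hxS
    rw [memP]
    have h1 := hx x hxS
    rcases hv with rfl | rfl
    · exact h1
    · have h2 : Commute x D.u⁻¹ := h1
      have h3 := h2.inv_right
      rw [inv_inv] at h3
      exact h3
  rcases D.cR' y (hS' y hy) (fun r hr => (hc r (hR hr)).symm) with h | h | h | h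
  · exact Or.inl h
  · exact Or.inr h
  · exact absurd hc (hnu y (Or.inl h))
  · exact absurd hc (hnu y (Or.inr h))

/-- elements `h` of `C(b)` trivial on `P / R` -/
theorem mem_Wt_of {h : H0} (hb : h * b = b * h) (ht : ∀ x ∈ D.P, x⁻¹ * D.au h x ∈ D.R) : h ∈ Wt := by
  apply triv hb
  intro p hp
  have hpK := P0t_le_K hp
  have h1 := ht _ ((D.π_mem_im τ_mem_P0t hpK).2 hp)
  rw [au_π', π_inv, π_mul] at h1
  have h2 : p⁻¹ * (h * p * h⁻¹) ∈ Rt := (D.π_mem_im τ_mem_Rt _).1 h1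
  have h3 := Rt_conj (mem_Pt.1 (P0t_le hp)).1 h2
  have h4 : p * (p⁻¹ * (h * p * h⁻¹)) * p⁻¹ = h * p * h⁻¹ * p⁻¹ := by group
  rw [h4] at h3
  exact Rt_le_Wt h3

theorem aut (α : MulAut L) (hz : α D.z = D.z) (ht : ∀ x ∈ D.P, x⁻¹ * α x ∈ D.R) :
    (∃ r ∈ D.R, α = MulAut.conj r) ∨ α D.u = D.u⁻¹ := by
  obtain ⟨h, rfl⟩ := D.au_surj α
  have hb := D.au_z hz
  have hW := D.mem_Wt_of hb ht
  by_cases hK : h ∈ K
  · exact Or.inl ⟨D.π ⟨h, hK⟩, (D.π_mem_im τ_mem_Rt hK).2 ⟨hW, hK⟩, D.au_K ⟨h, hK⟩⟩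
  · right
    have h1 := Wt_inv hW hK
    have h2 : h * Cent.U * h⁻¹ = Cent.U * b := by
      have h3 : Cent.U = h * Cent.U * h⁻¹ * b := by
        calc Cent.U = (Cent.U * h) * h⁻¹ := by group
          _ = h * (Cent.U * b) * h⁻¹ := by rw [h1]
          _ = h * Cent.U * (b * h⁻¹) := by group
          _ = h * Cent.U * (h⁻¹ * b) := by
              have : b * h⁻¹ = h⁻¹ * b := by
                rw [eq_inv_mul_iff_mul_eq, ← mul_assoc, hb, mul_assoc, mul_inv_cancel, mul_one]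
              rw [this]
          _ = _ := by group
      calc h * Cent.U * h⁻¹ = h * Cent.U * h⁻¹ * (b * b) := by rw [b_sq, mul_one]
        _ = (h * Cent.U * h⁻¹ * b) * b := by group
        _ = _ := by rw [← h3]
    rw [u_inv]
    unfold u z
    rw [au_π', π_mul]
    exact D.π_congr _ h2

/-- `w = k⁻¹ z k` -/
theorem w_eq : D.k⁻¹ * D.z * D.k = D.π ⟨w0, (mem_Pt.1 w0_mem.1).2⟩ := by
  unfold k z
  rw [π_inv, π_mul, π_mul]
  exact D.π_congr _ rfl

theorem z1_eq : D.k * D.z * D.k⁻¹ = D.π ⟨x0, (mem_Pt.1 x0_mem.1).2⟩ := by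
  unfold k z
  rw [π_conj]
  exact D.π_congr _ rfl

theorem kz : D.k⁻¹ * D.z * D.k * D.z = D.z * (D.k⁻¹ * D.z * D.k) := by
  rw [w_eq, D.comm_z]
  exact w0_mem.1

theorem kP : D.k⁻¹ * D.z * D.k ∉ D.P := by
  rw [w_eq]
  exact fun h => w0_mem.2 ((D.π_mem_im τ_mem_P0t _).1 h)

theorem kz' : D.k * D.z * D.k⁻¹ * D.z = D.z * (D.k * D.z * D.k⁻¹) := by
  rw [z1_eq, D.comm_z]
  exact x0_mem.1

theorem kP' : D.k * D.z * D.k⁻¹ ∉ D.P := by
  rw [z1_eq]
  exact fun h => x0_mem.2 ((D.π_mem_im τ_mem_P0t _).1 h)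

theorem y3 (α : MulAut L) (hα : ∀ g : L, α ≠ MulAut.conj g) (hz : α D.z = D.z) (hu : α D.u = D.u⁻¹) :
    ∃ p ∈ D.P, ∀ x ∈ D.P, (p * x * p⁻¹)⁻¹ * α x ∈ D.R := by
  obtain ⟨h, rfl⟩ := D.au_surj α
  have hb := D.au_z hz
  have hK : h ∉ K := fun hK => hα _ (D.au_K ⟨h, hK⟩)
  have hU : Cent.U * h = h * (Cent.U * b) ∨ Cent.U * h = h * (Cent.U * b * τ) := by
    rw [u_inv] at hu
    unfold u z at hu
    rw [au_π', π_mul, π_eq] at hu
    have hbi : b * h = h * b := hb.symm
    rcases hu with h1 | h1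
    · left
      rw [mul_inv_eq_iff_eq_mul] at h1
      have h2 : h * (Cent.U * b) = (h * Cent.U) * b := by group
      rw [h2, h1]
      calc Cent.U * h = Cent.U * h * (b * b) := by rw [b_sq, mul_one]
        _ = Cent.U * (h * b) * b := by group
        _ = Cent.U * b * h * b := by rw [hb]; group
    · right
      rw [mul_inv_eq_iff_eq_mul] at h1
      have h2 : h * (Cent.U * b * τ) = (h * Cent.U) * b * τ := by group
      rw [h2, h1]
      calc Cent.U * h = Cent.U * h * (b * b) * (τ * τ) := by rw [b_sq, τ_mul_τ, mul_one, mul_one]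
        _ = Cent.U * (h * b) * (b * τ) * τ := by group
        _ = Cent.U * b * h * (τ * b) * τ := by rw [hb, τ_comm b]; group
        _ = Cent.U * b * (h * τ) * b * τ := by group
        _ = Cent.U * b * τ * h * b * τ := by rw [τ_comm h]; group
  obtain ⟨p, hp, hpy⟩ := inner hb hK hU
  have hpK := P0t_le_K hp
  refine ⟨D.π ⟨p, hpK⟩, (D.π_mem_im τ_mem_P0t hpK).2 hp, ?_⟩
  intro x hx
  obtain ⟨y, hyK, hy, rfl⟩ := D.mem_im.1 hx
  obtain ⟨h1, h2⟩ := hpy y
  rw [π_conj, au_π', π_inv, π_mul]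
  apply (D.π_mem_im τ_mem_Rt _).2
  rw [h1]
  refine ⟨?_, ?_⟩
  · -- in `W`
    have hc : (p * y⁻¹ * p⁻¹) * b = b * (p * y⁻¹ * p⁻¹) := by
      have c1 : Commute p b := (mem_Pt.1 (P0t_le hp)).1
      have c2 : Commute y b := (mem_Pt.1 (P0t_le hy)).1
      exact ((c1.mul_left c2.inv_left).mul_left c1.inv_left)
    have h3 := Wt_conj hc h2
    have h4 : (p * y⁻¹ * p⁻¹) * (h * p⁻¹) * (p * y⁻¹ * p⁻¹)⁻¹ = (p * y⁻¹ * p⁻¹) * (h * p⁻¹) * (p * y * p⁻¹) := by
      group
    rw [h4] at h3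
    exact Wt.mul_mem h3 (Wt.inv_mem h2)
  · -- in `K`
    rw [← h1]
    exact K.mul_mem (K.inv_mem (K_conj hyK)) (K_conj hyK)

theorem y4 (x : L) (hx : x * D.z = D.z * x) (ht : ∀ y ∈ D.P, y⁻¹ * (x * y * x⁻¹) ∈ D.R) : x ∈ D.R := by
  obtain ⟨⟨h, hk⟩, rfl⟩ := D.surj x
  have hP := (D.comm_z hk).1 hx
  have hW : h ∈ Wt := by
    apply D.mem_Wt_of (mem_Pt.1 hP).1
    intro y hy
    have h1 := ht y hy
    have h2 : D.au h y = D.π ⟨h, hk⟩ * y * (D.π ⟨h, hk⟩)⁻¹ := by
      rw [← MulAut.conj_apply, ← D.au_K ⟨h, hk⟩]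
    rw [h2]
    exact h1
  exact (D.π_mem_im τ_mem_Rt hk).2 ⟨hW, hk⟩

end Mod

end Cfsg.Agent.KFacts.HS
end

-- part: KFacts/HS/Sheet2
section
prune_inst 0x4100005000522000000000000200000203000000200400000004000000000000000020800002004100022800020028008101000004010000020008000000000000400020080481000000000400000000000000000000000000000000000000000000000000
set_option linter.all false
open scoped Cfsg.Agent.FastGrp

set_option autoImplicit false

/-!
# Facts on `HS`: the class 2B, the two classes of involutions, and the rest of the fact sheet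
-/

namespace Cfsg.Agent.KFacts.HS

open Cfsg.Agent.HN Cfsg.Agent.HN.Pres Cfsg.Agent.HN.HS100 Cfsg.Agent.HN.H0Basic
open Cfsg.Agent.HN.XMat Cfsg.Agent.HN.WMask Cfsg.Agent.KFacts.HS.Cent Cfsg.Agent.KFacts.HS.TwoB
open Cfsg.Agent.HN.P1408 hiding U
open Cfsg.Agent.OddHalf Cfsg.Agent.Lib.AltCarmichael Equiv
open Subgroup (centralizer mem_centralizer_singleton_iff)
open scoped commutatorElement

/-! ### the alternating group of degree 6 -/

theorem A6_na : ¬ ∀ a c : A6, a * c = c * a := by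
  intro h
  have h1 := congrArg (Subtype.val : A6 → Perm (Fin 6))
    (h ⟨cyc 4 0, cyc_mem 4 0 (by norm_num)⟩ ⟨cyc 4 1, cyc_mem 4 1 (by norm_num)⟩)
  have h2 : cyc 4 0 * cyc 4 1 = cyc 4 1 * cyc 4 0 := h1
  revert h2
  decide +kernel

theorem A6_comm : ⁅(⊤ : Subgroup A6), (⊤ : Subgroup A6)⁆ = ⊤ := by
  rcases (inferInstance : (⁅(⊤ : Subgroup A6), (⊤ : Subgroup A6)⁆).Normal).eq_bot_or_eq_top with h | h
  · exfalso
    apply A6_na
    intro a c
    have h1 : ⁅a, c⁆ ∈ ⁅(⊤ : Subgroup A6), (⊤ : Subgroup A6)⁆ :=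
      Subgroup.commutator_mem_commutator (Subgroup.mem_top _) (Subgroup.mem_top _)
    rw [h, Subgroup.mem_bot, commutatorElement_eq_one_iff_mul_comm] at h1
    exact h1
  · exact h

theorem A6_center {a : A6} (h : ∀ c : A6, a * c = c * a) : a = 1 := by
  rcases (inferInstance : (Subgroup.center A6).Normal).eq_bot_or_eq_top with h1 | h1
  · have h2 : a ∈ Subgroup.center A6 := Subgroup.mem_center_iff.2 fun c => (h c).symm
    rw [h1, Subgroup.mem_bot] at h2
    exact h2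
  · exfalso
    apply A6_na
    intro a c
    have h2 : c ∈ Subgroup.center A6 := by rw [h1]; exact Subgroup.mem_top _
    exact Subgroup.mem_center_iff.1 h2 a

theorem card_A6 : Nat.card A6 = 360 := by
  have h := nat_card_alternatingGroup (α := Fin 6)
  have h6 : Nat.factorial 6 = 720 := by decide
  rw [Nat.card_eq_fintype_card (α := Fin 6), Fintype.card_fin, h6] at h
  exact h

namespace Mod

variable {L : Type*} [Group L] (D : Mod L)

/-! ### the action on 100 points -/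

/-- the permutation representation of degree 100 -/
noncomputable def φL : L →* Perm (Fin 100) :=
  D.π.liftOfSurjective D.surj ⟨φ.comp K.subtype, by
    intro k hk
    have h1 := (D.ker k).1 hk
    rw [← φ_eq_one_iff] at h1
    exact h1⟩

theorem φL_π (k : K) : D.φL (D.π k) = φ k := MonoidHom.liftOfRightInverse_comp_apply _ _ _ _ k

theorem φL_inj : Function.Injective D.φL := by
  rw [injective_iff_map_eq_one]
  intro l hl
  obtain ⟨k, rfl⟩ := D.surj l
  rw [φL_π, φ_eq_one_iff] at hl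
  exact (D.ker k).2 hl

/-! ### the involution `s0` of class 2B -/

/-- the involution below `g0` -/
def s0 : L := D.π ⟨g0, g0_mem_K⟩

/-- `A₆` in `L` -/
noncomputable def ψL : A6 →* L := D.π.comp (psi.codRestrict K psi_mem_K)

theorem ψL_apply (a : A6) : D.ψL a = D.π ⟨psi a, psi_mem_K a⟩ := rfl

/-- the subgroup `A₆` -/
noncomputable def B6 : Subgroup L := D.ψL.range

theorem ψL_inj : Function.Injective D.ψL := by
  rw [← MonoidHom.ker_eq_bot_iff]
  rcases (inferInstance : D.ψL.ker.Normal).eq_bot_or_eq_top with hb | ht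
  · exact hb
  · exfalso
    have h1 : (⟨cyc 4 0, cyc_mem 4 0 (by norm_num)⟩ : A6) ∈ D.ψL.ker := by rw [ht]; exact Subgroup.mem_top _
    rw [MonoidHom.mem_ker, ψL_apply, D.π_eq_one, psi_cyc (by norm_num), ← hw_nil, ← hw_τ] at h1
    rcases h1 with h1 | h1
    · have h3 := eqw_of_hw_eq (chkp 0 (by norm_num)).1 rfl h1
      rw [chk1.1] at h3
      exact Bool.noConfusion h3
    · have h3 := eqw_of_hw_eq (chkp 0 (by norm_num)).1 (by decide) h1
      rw [chk1.2] at h3
      exact Bool.noConfusion h3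

theorem s0_comm {l : L} (hl : l ∈ D.B6) : l * D.s0 = D.s0 * l := by
  obtain ⟨a, rfl⟩ := hl
  rw [ψL_apply, s0, π_mul, π_mul]
  exact D.π_congr _ (psi_g0 a)

theorem s0_sq : D.s0 * D.s0 = 1 := by
  rw [s0, π_mul, π_eq_one]
  exact Or.inr g0_sq

theorem s0_ne : D.s0 ≠ 1 := by
  rw [s0, Ne, π_eq_one]
  have h1 := g0_sq
  rintro (h | h)
  · rw [h, one_mul] at h1
    exact τ_ne_one h1.symm
  · rw [h, τ_mul_τ] at h1
    exact τ_ne_one h1.symm

theorem s0_notMem : D.s0 ∉ D.B6 := by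
  rintro ⟨a, ha⟩
  have h1 : a = 1 := by
    apply A6_center
    intro c
    apply D.ψL_inj
    rw [map_mul, map_mul, ha]
    exact (D.s0_comm ⟨c, rfl⟩).symm
  rw [h1, map_one] at ha
  exact D.s0_ne ha.symm

theorem card_B6 : Nat.card D.B6 = 360 := by
  rw [← card_A6]
  exact (Nat.card_congr (MonoidHom.ofInjective D.ψL_inj).toEquiv).symm

theorem B6_perf : ⁅D.B6, D.B6⁆ = D.B6 := by
  have h1 : D.B6 = (⊤ : Subgroup A6).map D.ψL := MonoidHom.range_eq_map _
  rw [h1, ← Subgroup.map_commutator, A6_comm]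

theorem B6_ne : D.B6 ≠ ⊥ := by
  intro h
  have h1 := D.card_B6
  rw [h, Subgroup.card_bot] at h1
  exact absurd h1 (by norm_num)

theorem B6_two (B : Subgroup L) (hB : B ≤ D.B6) (h2 : IsPGroup 2 B) (hn : ∀ l ∈ D.B6, ∀ c ∈ B, l * c * l⁻¹ ∈ B) :
    B = ⊥ := by
  have hN : (B.comap D.ψL).Normal := ⟨fun c hc a => by
    have := hn (D.ψL a) ⟨a, rfl⟩ _ hc
    rw [Subgroup.mem_comap, map_mul, map_mul, map_inv]
    exact this⟩
  have hBm : B = (B.comap D.ψL).map D.ψL := by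
    rw [Subgroup.map_comap_eq]
    exact (inf_eq_right.2 hB).symm
  rcases hN.eq_bot_or_eq_top with h | h
  · rw [hBm, h, Subgroup.map_bot]
  · exfalso
    have h3 : B = D.B6 := by
      rw [hBm, h, ← MonoidHom.range_eq_map]; rfl
    have := D.finite
    obtain ⟨n, hn2⟩ := IsPGroup.iff_card.1 h2
    rw [h3, card_B6] at hn2
    have h5 : 5 ∣ 2 ^ n := by rw [← hn2]; norm_num
    exact absurd (Nat.prime_dvd_prime_iff_eq (by norm_num) Nat.prime_two |>.1 (Nat.Prime.dvd_of_dvd_pow (by norm_num) h5))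
      (by norm_num)

theorem card_cent_s0 : Nat.card (centralizer ({D.s0} : Set L)) ≤ 2880 := by
  let C := centralizer ({D.s0} : Set L)
  have h1 : Nat.card (C.map D.φL) = Nat.card C := Subgroup.card_map_of_injective D.φL_inj
  have hle : C.map D.φL ≤ CentUp.cenA [g0w] := by
    rintro _ ⟨l, hl, rfl⟩
    obtain ⟨k, rfl⟩ := D.surj l
    rw [φL_π]
    refine Subgroup.mem_inf.2 ⟨range_le ⟨k, rfl⟩, ?_⟩
    rw [CentUp.wset_singleton, Set.image_singleton, mem_centralizer_singleton_iff]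
    have h2 := congrArg D.φL (mem_centralizer_singleton_iff.1 hl)
    rw [map_mul, map_mul, φL_π, s0, φL_π] at h2
    exact h2
  have hsign : ∀ g ∈ C.map D.φL, Perm.sign g = 1 := by
    rintro _ ⟨l, -, rfl⟩
    obtain ⟨k, rfl⟩ := D.surj l
    rw [φL_π]
    exact k.2
  have hz : φ gz ∈ CentUp.cenA [g0w] := by
    refine Subgroup.mem_inf.2 ⟨range_le ⟨gz, rfl⟩, ?_⟩
    rw [CentUp.wset_singleton, Set.image_singleton, mem_centralizer_singleton_iff]
    have h2 := congrArg φ z_g0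
    rw [map_mul, map_mul, map_mul, φ_τ, mul_one] at h2
    exact h2
  have h3 := Cfsg.Agent.SporadicA.PermTab.two_mul_card_le hle hsign hz (by rw [φ_gz]; exact sign_Z)
  have h4 := cG_le
  change Nat.card C ≤ 2880
  omega

theorem dser_s0 : ∃ m, TR.dser m (centralizer ({D.s0} : Set L)) ≤ D.B6 := by
  have := D.finite
  apply exists_dser_le _ _ D.s0
  · exact mem_centralizer_singleton_iff.2 rfl
  · exact fun l hl => mem_centralizer_singleton_iff.2 (D.s0_comm hl)
  · exact fun x hx => mem_centralizer_singleton_iff.1 hx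
  · exact D.s0_sq
  · exact D.s0_notMem
  · rw [card_B6]
    exact D.card_cent_s0

/-- the property of the involutions of class 2B -/
def IsB (s : L) : Prop :=
  ∃ B : Subgroup L, (∀ l ∈ B, l * s = s * l) ∧ ⁅B, B⁆ = B ∧ B ≠ ⊥ ∧
      (∃ m, TR.dser m (centralizer ({s} : Set L)) ≤ B) ∧
      ∀ C : Subgroup L, C ≤ B → IsPGroup 2 C → (∀ l ∈ B, ∀ c ∈ C, l * c * l⁻¹ ∈ C) → C = ⊥

theorem isB_s0 : IsB D.s0 :=
  ⟨D.B6, fun _ hl => D.s0_comm hl, D.B6_perf, D.B6_ne, D.dser_s0, D.B6_two⟩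

theorem _root_.Cfsg.Agent.KFacts.HS.IsB_map {s : L} (h : IsB s) (α : MulAut L) : IsB (α s) := by
  obtain ⟨B, h1, h2, h3, ⟨m, h4⟩, h5⟩ := h
  refine ⟨B.map α.toMonoidHom, ?_, ?_, ?_, ⟨m, ?_⟩, ?_⟩
  · rintro _ ⟨l, hl, rfl⟩
    change α l * α s = α s * α l
    rw [← map_mul, ← map_mul, h1 l hl]
  · rw [← Subgroup.map_commutator, h2]
  · intro h
    rw [Subgroup.map_eq_bot_iff_of_injective _ α.injective] at h
    exact h3 h
  · have h6 : centralizer ({α s} : Set L) = (centralizer ({s} : Set L)).map α.toMonoidHom := by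
      ext l
      rw [mem_centralizer_singleton_iff]
      constructor
      · intro hl
        refine ⟨α⁻¹ l, ?_, MulAut.apply_inv_self L α l⟩
        refine mem_centralizer_singleton_iff.2 ?_
        have h7 := congrArg (α⁻¹ : MulAut L) hl
        rw [map_mul, map_mul] at h7
        have h8 : (α⁻¹ : MulAut L) (α s) = s := MulAut.inv_apply_self L α s
        rwa [h8] at h7
      · rintro ⟨x, hx, rfl⟩
        change α x * α s = α s * α x
        rw [← map_mul, ← map_mul, mem_centralizer_singleton_iff.1 hx]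
    rw [h6, TR.dser_map]
    exact Subgroup.map_mono h4
  · intro C hC h6 h7
    have h8 : (C.comap α.toMonoidHom) = ⊥ := by
      apply h5
      · intro x hx
        obtain ⟨y, hy, hxy⟩ := hC hx
        have : y = x := α.injective hxy
        exact this ▸ hy
      · exact h6.comap_of_injective _ α.injective
      · intro l hl c hc
        have h9 := h7 (α l) ⟨l, hl, rfl⟩ _ hc
        change α (l * c * l⁻¹) ∈ C
        rw [map_mul, map_mul, map_inv]
        exact h9
    rw [eq_bot_iff]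
    intro x hx
    have h9 : (α⁻¹ : MulAut L) x ∈ C.comap α.toMonoidHom := by
      change α ((α⁻¹ : MulAut L) x) ∈ C
      rwa [MulAut.apply_inv_self]
    rw [h8, Subgroup.mem_bot] at h9
    have h10 := congrArg α h9
    rw [MulAut.apply_inv_self, map_one] at h10
    rw [h10]
    exact Subgroup.one_mem _

/-! ### the two classes of involutions -/

/-- conjugacy under `Aut(L)` is conjugacy in `L` for the class of `z` -/
theorem conj_z {l : L} (h : ∃ c : H0, l = D.au c D.z) : ∃ c : L, l = c * D.z * c⁻¹ := by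
  obtain ⟨c, rfl⟩ := h
  by_cases hc : c ∈ K
  · exact ⟨D.π ⟨c, hc⟩, by rw [← MulAut.conj_apply, ← D.au_K ⟨c, hc⟩]⟩
  · have h4 : WMask.R 4 ∉ K := by
      rw [R_mem_K_iff (by norm_num)]
      decide +kernel
    have hcK : c * WMask.R 4 ∈ K := by
      rw [mem_K_iff] at *
      rw [map_mul, (Int.units_eq_one_or (sgn c)).resolve_left hc, (Int.units_eq_one_or (sgn (WMask.R 4))).resolve_left h4]
      rfl
    refine ⟨D.π ⟨c * WMask.R 4, hcK⟩, ?_⟩
    rw [← MulAut.conj_apply, ← D.au_K ⟨c * WMask.R 4, hcK⟩, z, au_π', au_π']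
    apply D.π_congr
    change c * b * c⁻¹ = c * WMask.R 4 * b * (c * WMask.R 4)⁻¹
    rw [mul_assoc c (WMask.R 4), ← R_b]
    group

/-- `w u` -/
theorem wu_eq : D.k⁻¹ * D.z * D.k * D.u =
    D.π ⟨w0 * Cent.U, K.mul_mem (mem_Pt.1 w0_mem.1).2 U_mem_K⟩ := by
  rw [w_eq, u, π_mul]

theorem w0U_sq : w0 * Cent.U * (w0 * Cent.U) = τ := by
  have h1 : w0 * Cent.U = hw (kwi ++ bw ++ kw ++ rmw 28) := by
    rw [hw_append, hw_append, hw_append, w0, kk_inv]; rfl
  rw [h1, ← hw_append, ← hw_τ]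
  exact hw_eq (by decide +kernel)

/-- elements with square `τ` are conjugate in `H0` -/
theorem isConj_of_sq {g h : H0} (hg : g * g = τ) (hh : h * h = τ) : IsConj g h :=
  (Syl.isConj_of_sq_eq_τ (by rw [pow_two, hg])).symm.trans (Syl.isConj_of_sq_eq_τ (by rw [pow_two, hh]))

/-- conjugacy for the class 2B -/
theorem conj_wu {h : H0} (hk : h ∈ K) (h2 : h * h = τ) :
    ∃ c : L, D.π ⟨h, hk⟩ = c * (D.k⁻¹ * D.z * D.k * D.u) * c⁻¹ := by
  rw [wu_eq]
  obtain ⟨c, hc⟩ := isConj_iff.1 (isConj_of_sq w0U_sq h2)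
  by_cases hcK : c ∈ K
  · refine ⟨D.π ⟨c, hcK⟩, ?_⟩
    rw [π_conj]
    exact D.π_congr _ hc.symm
  · -- an outer element commuting with `w0 U` modulo `τ`
    obtain ⟨e, he⟩ := isConj_iff.1 (isConj_of_sq g0_sq w0U_sq)
    have hn : e * gz * e⁻¹ ∉ K := by
      intro h1
      have h3 : e⁻¹ * (e * gz * e⁻¹) * e⁻¹⁻¹ = gz := by group
      exact gz_not_mem (h3 ▸ K_conj h1)
    have hcn : c * (e * gz * e⁻¹) ∈ K := by
      rw [mem_K_iff] at *
      rw [map_mul, (Int.units_eq_one_or (sgn c)).resolve_left hcK,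
        (Int.units_eq_one_or (sgn (e * gz * e⁻¹))).resolve_left hn]
      rfl
    refine ⟨D.π ⟨c * (e * gz * e⁻¹), hcn⟩, ?_⟩
    rw [π_conj]
    refine D.π_congrτ _ _ ?_
    have h3 : e * gz * e⁻¹ * (w0 * Cent.U) = w0 * Cent.U * (e * gz * e⁻¹) * τ := by
      rw [← he]
      calc e * gz * e⁻¹ * (e * g0 * e⁻¹) = e * (gz * g0) * e⁻¹ := by group
        _ = e * (g0 * gz) * (τ * e⁻¹) := by rw [z_g0]; group
        _ = e * (g0 * gz) * (e⁻¹ * τ) := by rw [τ_comm]
        _ = _ := by group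
    have h4 : c * (e * gz * e⁻¹) * (w0 * Cent.U) * (c * (e * gz * e⁻¹))⁻¹ = h * τ := by
      calc c * (e * gz * e⁻¹) * (w0 * Cent.U) * (c * (e * gz * e⁻¹))⁻¹ =
          c * ((e * gz * e⁻¹) * (w0 * Cent.U)) * (e * gz * e⁻¹)⁻¹ * c⁻¹ := by group
        _ = c * (w0 * Cent.U) * (e * gz * e⁻¹) * (τ * (e * gz * e⁻¹)⁻¹) * c⁻¹ := by rw [h3]; group
        _ = c * (w0 * Cent.U) * (τ * c⁻¹) := by rw [← τ_comm (e * gz * e⁻¹)⁻¹]; group
        _ = c * (w0 * Cent.U) * c⁻¹ * τ := by rw [← τ_comm]; group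
        _ = h * τ := by rw [hc]
    rw [h4, mul_assoc, τ_mul_τ, mul_one]

theorem inv2 (x : L) (hx : x * x = 1) (h1 : x ≠ 1) :
    (∃ c, x = c * D.z * c⁻¹) ∨ ∃ c, x = c * (D.k⁻¹ * D.z * D.k * D.u) * c⁻¹ := by
  obtain ⟨⟨h, hk⟩, rfl⟩ := D.surj x
  rw [π_mul, π_eq_one] at hx
  rw [Ne, π_eq_one] at h1
  push Not at h1
  rcases hx with hx | hx
  · left
    have hnz : ¬ IsConj gz h := by
      intro h2
      obtain ⟨c, hc⟩ := isConj_iff.1 h2
      have h3 : c⁻¹ * h * c⁻¹⁻¹ = gz := by rw [← hc]; group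
      exact gz_not_mem (h3 ▸ K_conj hk)
    have hnd : ¬ IsConj Syl.d h := by
      intro h2
      obtain ⟨c, hc⟩ := isConj_iff.1 h2
      have h3 : c⁻¹ * h * c⁻¹⁻¹ = Syl.d := by rw [← hc]; group
      have h4 : Syl.d ∉ K := not_mem_K_of_par (a := [1, 3, 1, 2, 1, 4, 3, 4, 2, 4]) (by decide) (by decide)
      exact h4 (h3 ▸ K_conj hk)
    apply D.conj_z
    rcases Syl.involution_cases (g := h) (by rw [pow_two, hx]) with h2 | h2 | h2 | h2 | h2 | h2
    · exact absurd h2 h1.1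
    · exact absurd h2 h1.2
    all_goals first
      | exact absurd h2 hnz
      | exact absurd h2 hnd
      | (obtain ⟨c, hc⟩ := isConj_iff.1 h2
         refine ⟨c, ?_⟩
         rw [z, au_π']
         first
          | exact D.π_congr _ hc.symm
          | exact D.π_congrτ _ _ (by
              rw [← hc, b_eq]
              calc c * Syl.a * c⁻¹ = c * Syl.a * (τ * τ) * c⁻¹ := by rw [τ_mul_τ, mul_one]
                _ = c * (Syl.a * τ) * (τ * c⁻¹) := by group
                _ = _ := by rw [← τ_comm]; group))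
  · right
    exact D.conj_wu hk hx

/-! ### the remaining fields -/

theorem y1 (s : L) (hs : s * D.z = D.z * s) (hsP : s ∉ D.P) (hss : s * s = 1) :
    (∃ c : L, c * D.z = D.z * c ∧ s = c * (D.k⁻¹ * D.z * D.k) * c⁻¹) ∨ IsB s := by
  obtain ⟨⟨h, hk⟩, rfl⟩ := D.surj s
  have hP := (D.comm_z hk).1 hs
  have hP0 : h ∉ P0t := fun h0 => hsP ((D.π_mem_im τ_mem_P0t hk).2 h0)
  rw [π_mul, π_eq_one] at hss
  rcases hss with hss | hss
  · left
    obtain ⟨g, hg, hgh⟩ := exists_conj hP hP0 hss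
    have hgK := P0t_le_K hg
    refine ⟨(D.π ⟨g, hgK⟩)⁻¹, ?_, ?_⟩
    · have h1 : D.π ⟨g, hgK⟩ * D.z = D.z * D.π ⟨g, hgK⟩ := (D.comm_z hgK).2 (P0t_le hg)
      rw [inv_mul_eq_iff_eq_mul, ← mul_assoc, h1, mul_assoc, mul_inv_cancel, mul_one]
    · have h1 : D.π ⟨g, hgK⟩ * D.π ⟨h, hk⟩ * (D.π ⟨g, hgK⟩)⁻¹ = D.k⁻¹ * D.z * D.k := by
        rw [π_conj, w_eq]
        rcases hgh with h2 | h2
        · exact D.π_congr _ h2
        · exact D.π_congrτ _ _ h2
      rw [← h1]; group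
  · right
    obtain ⟨c, hc⟩ := isConj_iff.1 (isConj_of_sq g0_sq hss)
    have h1 : D.au c D.s0 = D.π ⟨h, hk⟩ := by
      rw [s0, au_π']
      exact D.π_congr _ hc
    rw [← h1]
    exact IsB_map D.isB_s0 _

theorem s_one : x0 * WMask.R 2 * x0⁻¹ * (WMask.R 2)⁻¹ = WMask.R 36 * sg false := by
  rw [x0, kk_inv, kk, b, WMask.R, WMask.R, ← hw_append, ← hw_append, ← hw_iw, ← hw_iw, ← hw_append, ← hw_append, ← hw_append]
  refine Eq.trans ?_ (mul_one _).symm
  exact hw_eq (by decide +kernel)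

theorem s_two : x0 * WMask.R 12 * x0⁻¹ * (WMask.R 12)⁻¹ = WMask.R 90 * sg true := by
  change _ = WMask.R 90 * b
  rw [x0, kk_inv, kk, b, WMask.R, WMask.R, ← hw_append, ← hw_append, ← hw_iw, ← hw_iw, ← hw_append, ← hw_append, ← hw_append,
    ← hw_append]
  exact hw_eq (by decide +kernel)

theorem sing {m : ℕ} (hm : m < 128) (h0 : m ≠ 0) (h1 : m ≠ 1) (hsq : eqw (rmw m ++ rmw m) [] = true) (e : Bool)
    (hk : WMask.R m * sg e ∈ K) : D.π ⟨WMask.R m * sg e, hk⟩ * D.π ⟨WMask.R m * sg e, hk⟩ = 1 ∧ D.π ⟨WMask.R m * sg e, hk⟩ ≠ 1 ∧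
      D.π ⟨WMask.R m * sg e, hk⟩ ≠ D.z := by
  have hne : ∀ e' : Bool, WMask.R m * sg e ≠ sg e' ∧ WMask.R m * sg e ≠ sg e' * τ := by
    intro e'
    constructor
    · intro h
      have h2 : WMask.R m * sg e = WMask.R 0 * sg e' := by rw [h, R_zero, one_mul]
      exact h0 (R_inj hm (by norm_num) h2).1
    · intro h
      have h2 : WMask.R m * sg e = WMask.R 1 * sg e' := by rw [h, R_one, τ_comm]
      exact h1 (R_inj hm (by norm_num) h2).1
  refine ⟨?_, ?_, ?_⟩
  · rw [π_mul, π_eq_one]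
    left
    have h2 := hw_eq hsq
    rw [hw_append, hw_nil] at h2
    calc WMask.R m * sg e * (WMask.R m * sg e) = WMask.R m * (sg e * WMask.R m) * sg e := by group
      _ = (WMask.R m * WMask.R m) * (sg e * sg e) := by rw [R_sg]; group
      _ = 1 := by
          rw [sg_mul, Bool.xor_self]
          change hw (rmw m) * hw (rmw m) * 1 = 1
          rw [h2, mul_one]
  · rw [Ne, π_eq_one]
    rintro (h | h)
    · exact (hne false).1 h
    · exact (hne false).2 (h.trans (one_mul τ).symm)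
  · rw [Ne, z, π_eq]
    rintro (h | h)
    · exact (hne true).1 h
    · exact (hne true).2 h

theorem y5 : ∃ r₁ ∈ D.R, ∃ r₂ ∈ D.R, ∃ s₁ s₂ : L, (D.k * D.z * D.k⁻¹) * r₁ * (D.k * D.z * D.k⁻¹)⁻¹ * r₁⁻¹ = s₁ ∧
    (D.k * D.z * D.k⁻¹) * r₂ * (D.k * D.z * D.k⁻¹)⁻¹ * r₂⁻¹ = s₂ ∧ s₁ * s₁ = 1 ∧ s₂ * s₂ = 1 ∧
    s₁ * s₂ * (s₁ * s₂) = 1 ∧ (s₁ ≠ 1 ∧ s₁ ≠ D.z) ∧ (s₂ ≠ 1 ∧ s₂ ≠ D.z) ∧ (s₁ * s₂ ≠ 1 ∧ s₁ * s₂ ≠ D.z) := by
  have hR : ∀ m < 128, par (rmw m) = false → ∀ e, WMask.R m * sg e ∈ K := fun m hm hp e =>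
    K.mul_mem ((R_mem_K_iff hm).2 hp) (sg_mem_K e)
  have h2K : WMask.R 2 ∈ K := (R_mem_K_iff (by norm_num)).2 (by decide +kernel)
  have h12K : WMask.R 12 ∈ K := (R_mem_K_iff (by norm_num)).2 (by decide +kernel)
  have hx0K := (mem_Pt.1 x0_mem.1).2
  refine ⟨D.π ⟨WMask.R 2, h2K⟩, (D.π_mem_im τ_mem_Rt h2K).2
    (mem_Rt.2 ⟨2, by norm_num, by decide +kernel, false, (mul_one _).symm⟩),
    D.π ⟨WMask.R 12, h12K⟩, (D.π_mem_im τ_mem_Rt h12K).2
    (mem_Rt.2 ⟨12, by norm_num, by decide +kernel, false, (mul_one _).symm⟩),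
    D.π ⟨WMask.R 36 * sg false, hR 36 (by norm_num) (by decide +kernel) _⟩,
    D.π ⟨WMask.R 90 * sg true, hR 90 (by norm_num) (by decide +kernel) _⟩, ?_, ?_, ?_⟩
  · rw [z1_eq, π_conj, π_inv, π_mul]
    exact D.π_congr _ s_one
  · rw [z1_eq, π_conj, π_inv, π_mul]
    exact D.π_congr _ s_two
  · obtain ⟨e, he⟩ := R_mul 36 90
    have h3 : WMask.R 36 * sg false * (WMask.R 90 * sg true) = WMask.R 126 * sg ((e ^^ false) ^^ true) := by
      calc WMask.R 36 * sg false * (WMask.R 90 * sg true) = WMask.R 36 * (sg false * WMask.R 90) * sg true := by group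
        _ = (WMask.R 36 * WMask.R 90) * sg false * sg true := by rw [R_sg]; group
        _ = WMask.R (36 ^^^ 90) * (sg e * sg false * sg true) := by rw [he]; group
        _ = _ := by rw [sg_mul, sg_mul]; rfl
    have a1 := D.sing (m := 36) (by norm_num) (by norm_num) (by norm_num) (by decide +kernel) false
      (hR 36 (by norm_num) (by decide +kernel) _)
    have a2 := D.sing (m := 90) (by norm_num) (by norm_num) (by norm_num) (by decide +kernel) true
      (hR 90 (by norm_num) (by decide +kernel) _)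
    have a3 := D.sing (m := 126) (by norm_num) (by norm_num) (by norm_num) (by decide +kernel) ((e ^^ false) ^^ true)
      (hR 126 (by norm_num) (by decide +kernel) _)
    have h4 : D.π ⟨WMask.R 36 * sg false, hR 36 (by norm_num) (by decide +kernel) _⟩ *
        D.π ⟨WMask.R 90 * sg true, hR 90 (by norm_num) (by decide +kernel) _⟩ =
        D.π ⟨WMask.R 126 * sg ((e ^^ false) ^^ true), hR 126 (by norm_num) (by decide +kernel) _⟩ := by
      rw [π_mul]
      exact D.π_congr _ h3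
    rw [h4]
    exact ⟨a1.1, a2.1, a3.1, a1.2, a2.2, a3.2⟩

/-- `w` inverts `u` -/
theorem w_inv_u : D.k⁻¹ * D.z * D.k * D.u * (D.k⁻¹ * D.z * D.k)⁻¹ = D.u⁻¹ := by
  rcases D.inv _ D.kz with h | h
  · exfalso
    apply D.kP
    rw [memP]
    exact mul_inv_eq_iff_eq_mul.1 h
  · exact h

theorem uP : D.u ∈ D.P := D.RP D.uR

theorem w_sq : D.k⁻¹ * D.z * D.k * (D.k⁻¹ * D.z * D.k) = 1 := by
  calc D.k⁻¹ * D.z * D.k * (D.k⁻¹ * D.z * D.k) = D.k⁻¹ * (D.z * D.z) * D.k := by group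
    _ = 1 := by rw [zz]; group

theorem y6 : ∃ n ∈ D.P, n * (D.k⁻¹ * D.z * D.k) * n⁻¹ = D.k⁻¹ * D.z * D.k * D.z := by
  refine ⟨D.u, D.uP, ?_⟩
  have h1 := D.w_inv_u
  set w := D.k⁻¹ * D.z * D.k
  have h2 : w⁻¹ = w := by rw [inv_eq_iff_mul_eq_one]; exact D.w_sq
  have h3 : w * D.u⁻¹ * w⁻¹ = D.u := by
    have : D.u = (w * D.u * w⁻¹)⁻¹ := by rw [h1, inv_inv]
    conv_rhs => rw [this]
    group
  have h4 : D.u * w * D.u⁻¹ = w * (w⁻¹ * D.u * w) * D.u⁻¹ := by group
  rw [h4, h2]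
  have h5 : w * D.u * w = D.u⁻¹ := by rw [h2] at h1; exact h1
  rw [h5, u_inv]
  calc w * (D.u * D.z) * (D.u * D.z) = w * D.u * (D.z * D.u) * D.z := by group
    _ = w * (D.u * D.u) * (D.z * D.z) := by
        have : D.z * D.u = D.u * D.z := by rw [← uu]; group
        rw [this]; group
    _ = w * D.z := by rw [zz, uu, mul_one]

theorem k0 : ∃ c : L, c * (D.k⁻¹ * D.z * D.k * D.u) * c⁻¹ ∈ D.P := by
  have h1 : el 2 [1, 1] false ∈ P0t :=
    (el_mem_P0t (by norm_num) (by decide +kernel) (by decide +kernel)).2 (by decide)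
  have h2 : el 2 [1, 1] false * el 2 [1, 1] false = τ := by
    rw [← hw_elw, ← hw_append, ← hw_τ]
    exact hw_eq (by decide +kernel)
  obtain ⟨c, hc⟩ := D.conj_wu (P0t_le_K h1) h2
  refine ⟨c, ?_⟩
  rw [← hc]
  exact (D.π_mem_im τ_mem_P0t _).2 h1

end Mod

end Cfsg.Agent.KFacts.HS

private theorem dce_9f239e1fa32a : _root_.True := by
  try have : _root_.True := by simp only [_root_.Cfsg.Agent.KFacts.HS.Mod.u.eq_1]
  try have : _root_.True := by simp only [_root_.Cfsg.Agent.KFacts.HS.Mod.s0.eq_1]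
  try have : _root_.True := by simp only [_root_.Cfsg.Agent.KFacts.HS.Mod.z.eq_1]
  exact _root_.True.intro
end

-- part: KFacts/HS/DFour
section
prune_inst 0x4000040000122000000000000200000200000000000000000004000000000000000020800002000000022800000028008110000000000000020008000000000000400020080481000000000400000000000000000000000000000000000000000000000000
set_option linter.all false
open scoped Cfsg.Agent.FastGrp

set_option autoImplicit false

/-!
# The facts on `HS` for D4 (helper937)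

`L` is isomorphic to `HS` (`D : Mod L`), `zA` is of class 2A, `wB` of class 2B, `LA ≅ A6` in `C(wB) = ⟨wB⟩ × Aut(A6)`.
* `inv_cases`: two classes of involutions;
* `cen`: `zA` is 2-central;
* `odd_A`, `odd_B`: `O(C(zA)) = 1`, `O(C(wB)) = 1`;
* `sylAut`, `z1`;
* `not_bad`, `out2`.
-/

namespace Cfsg.Agent.KFacts.HS.DFour

open Cfsg.Agent.HN Cfsg.Agent.HN.Pres Cfsg.Agent.HN.HS100 Cfsg.Agent.HN.P1408 Cfsg.Agent.HN.H0Basic
open Cfsg.Agent.HN.CentUp2 (centralizer_A6 zc a1 a2 wu)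
open Cfsg.Agent.KFacts.HS.TwoB (g0 g0w vw psi psi_cyc psi_g0 psi_mem_K g0_sq g0_mem_K A6 cG_le)
open Cfsg.Agent.KFacts.HS.Cent (Rt Rt_conj fixR)
open Cfsg.Agent.HN.WMask (b b_sq b_eq sg R)
open Cfsg.Agent.Lib.AltCarmichael Equiv
open Cfsg.Agent.OddHalf.D4.Spor (Cen Inn Bad)

/-! ### `H0` -/

/-- the element `a` of the class 2A -/
abbrev aa : H0 := Syl.a

theorem aa_mem_K : aa ∈ K := by
  change Syl.a ∈ K
  rw [← Syl.hw_a]
  exact mem_K_of_par (by decide) (by decide)

theorem mul_mem_K {g h : H0} (hg : g ∉ K) (hh : h ∉ K) : g * h ∈ K := by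
  rw [mem_K_iff] at hg hh ⊢
  rw [map_mul]
  rcases Int.units_eq_one_or (sgn g) with h1 | h1
  · exact absurd h1 hg
  rcases Int.units_eq_one_or (sgn h) with h2 | h2
  · exact absurd h2 hh
  rw [h1, h2]
  decide

/-- an odd element commuting with `a` -/
def oA : H0 := hw [0, 2, 4, 3, 0]

theorem oA_not : oA ∉ K := not_mem_K_of_par (by decide) (by decide)

theorem oA_comm : oA * aa = aa * oA := by
  rw [oA, aa, ← Syl.hw_a, ← hw_append, ← hw_append]
  exact hw_eq (by decide +kernel)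

theorem gz_not : gz ∉ K := Classes.gz_notMem_K

theorem gz_g0 : φ (gz * g0) = φ (g0 * gz) := by
  rw [TwoB.z_g0, map_mul, φ_τ, mul_one]

/-- an element commuting with the images of the generators of `A6` commutes with `a1` and `a2` -/
theorem cent_A6 {h : H0} (hc : ∀ i < 4, h * hw (vw i) = hw (vw i) * h) :
    h = 1 ∨ h = τ ∨ h = gz ∨ h = τ * gz ∨ h = zc ∨ h = τ * zc ∨ h = zc * gz ∨ h = gz * zc := by
  have e1 : a1 = hw (vw 2) * (hw (vw 1) * (hw (vw 3) * hw (vw 2))) := by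
    rw [a1, ← hw_append, ← hw_append, ← hw_append]
    exact hw_eq (by decide +kernel)
  have e2 : a2 = hw (vw 0) * (hw (vw 0) * (hw (vw 2) * (hw (vw 1) * hw (vw 0)))) := by
    rw [a2, ← hw_append, ← hw_append, ← hw_append, ← hw_append]
    exact hw_eq (by decide +kernel)
  have c0 : Commute h (hw (vw 0)) := hc 0 (by norm_num)
  have c1 : Commute h (hw (vw 1)) := hc 1 (by norm_num)
  have c2 : Commute h (hw (vw 2)) := hc 2 (by norm_num)
  have c3 : Commute h (hw (vw 3)) := hc 3 (by norm_num)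
  apply centralizer_A6
  · rw [e1]
    exact (c2.mul_right (c1.mul_right (c3.mul_right c2))).eq
  · rw [e2]
    exact (c0.mul_right (c0.mul_right (c2.mul_right (c1.mul_right c0)))).eq

/-- the same modulo `τ` -/
theorem cent_A6_mod {h : H0} (hc : ∀ i < 4, φ (h * hw (vw i)) = φ (hw (vw i) * h)) :
    h = 1 ∨ h = τ ∨ h = gz ∨ h = τ * gz ∨ h = zc ∨ h = τ * zc ∨ h = zc * gz ∨ h = gz * zc := by
  apply cent_A6
  intro i hi
  rcases φ_eq_iff.1 (hc i hi) with h1 | h1
  · exact h1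
  · exfalso
    have h3 : hw (vw i) ^ 3 = 1 := TwoB.rel.cube i hi
    have h4 : h * hw (vw i) * h⁻¹ = hw (vw i) * τ := by
      rw [h1, mul_assoc (hw (vw i)) h τ, τ_comm h, ← mul_assoc, mul_inv_cancel_right]
    have h5 : (h * hw (vw i) * h⁻¹) ^ 3 = 1 := by
      rw [conj_pow, h3, mul_one, mul_inv_cancel]
    have hcm : Commute (hw (vw i)) τ := τ_comm _
    rw [h4, hcm.mul_pow, h3, one_mul, pow_succ, τ_sq, one_mul] at h5
    exact τ_ne_one h5

theorem zcgz : zc * gz = g0 := by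
  rw [zc, ← hw_z, ← hw_append]
  rfl

theorem gzzc : φ (gz * zc) = φ g0 := by
  rw [← zcgz, map_mul, map_mul]
  have h1 : φ (gz * zc) = φ (zc * gz) := by
    rw [φ_eq_iff, zc, ← hw_z, ← hw_τ, ← hw_append, ← hw_append, ← hw_append]
    right
    exact hw_eq (by decide +kernel)
  rw [← map_mul, h1, map_mul]

theorem zc_not : zc ∉ K := not_mem_K_of_par (by decide) (by decide)

/-- elements of `K` centralising `A6` modulo `τ` -/
theorem cent_A6_even {h : H0} (hK : h ∈ K) (hc : ∀ i < 4, φ (h * hw (vw i)) = φ (hw (vw i) * h)) :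
    φ h = 1 ∨ φ h = φ g0 := by
  rcases cent_A6_mod hc with rfl | rfl | rfl | rfl | rfl | rfl | rfl | rfl
  · exact Or.inl (map_one φ)
  · exact Or.inl φ_τ
  · exact absurd hK gz_not
  · exact absurd ((K.mul_mem_cancel_left τ_mem_K).1 hK) gz_not
  · exact absurd hK zc_not
  · exact absurd ((K.mul_mem_cancel_left τ_mem_K).1 hK) zc_not
  · right; rw [zcgz]
  · right; exact gzzc

/-- odd elements centralising `A6` modulo `τ` -/
theorem cent_A6_odd {h : H0} (hK : h ∉ K) (hc : ∀ i < 4, φ (h * hw (vw i)) = φ (hw (vw i) * h)) :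
    φ h = φ gz ∨ φ h = φ zc := by
  rcases cent_A6_mod hc with rfl | rfl | rfl | rfl | rfl | rfl | rfl | rfl
  · exact absurd K.one_mem hK
  · exact absurd τ_mem_K hK
  · exact Or.inl rfl
  · left; rw [map_mul, φ_τ, one_mul]
  · exact Or.inr rfl
  · right; rw [map_mul, φ_τ, one_mul]
  · exact absurd (mul_mem_K zc_not gz_not) hK
  · exact absurd (mul_mem_K gz_not zc_not) hK

/-- the words of the elements moving `g0` to a commuting element -/
def xw : Bool → List ℕ
  | false => [2, 4, 3, 4, 2]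
  | true => [2, 0, 4, 2, 0, 4, 2]

/-- the words of the two outer elements -/
def ow : Bool → List ℕ
  | false => [4]
  | true => wu

theorem xw_K (e : Bool) : hw (xw e) ∈ K := by
  cases e <;> exact mem_K_of_par (by decide) (by decide)

/-- equality modulo `τ` -/
def eqt (u v : List ℕ) : Bool := eqw u v || eqw u (v ++ [0, 0])

theorem eqt_spec {u v : List ℕ} (h : eqt u v = true) : φ (hw u) = φ (hw v) := by
  rw [φ_eq_iff]
  unfold eqt at h
  rw [Bool.or_eq_true] at h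
  rcases h with h | h
  · exact Or.inl (hw_eq h)
  · right
    have := hw_eq h
    rwa [hw_append, hw_τ] at this

theorem xw_comm (e : Bool) : φ (hw (ow e) * hw (xw e)) = φ (hw (xw e) * hw (ow e)) := by
  rw [← hw_append, ← hw_append]
  cases e <;> exact eqt_spec (by decide +kernel)

/-- the word of `x g0 x⁻¹` -/
def gx0 (e : Bool) : List ℕ := xw e ++ (g0w ++ iw (xw e))

theorem hw_gx0 (e : Bool) : hw (gx0 e) = hw (xw e) * g0 * (hw (xw e))⁻¹ := by
  rw [gx0, hw_append, hw_append, hw_iw, g0, mul_assoc]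

theorem gx0_comm (e : Bool) : φ (hw (gx0 e) * g0) = φ (g0 * hw (gx0 e)) := by
  rw [g0, ← hw_append, ← hw_append]
  cases e <;> exact eqt_spec (by decide +kernel)

theorem gx0_ne (e : Bool) : φ (hw (gx0 e)) ≠ φ g0 := by
  intro h
  rw [φ_eq_iff, g0, ← hw_τ, ← hw_append] at h
  cases e
  · rcases h with h | h
    · exact absurd (eqw_of_hw_eq (by decide) (by decide) h) (by decide +kernel)
    · exact absurd (eqw_of_hw_eq (by decide) (by decide) h) (by decide +kernel)
  · rcases h with h | h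
    · exact absurd (eqw_of_hw_eq (by decide) (by decide) h) (by decide +kernel)
    · exact absurd (eqw_of_hw_eq (by decide) (by decide) h) (by decide +kernel)

/-! ### the group `L` -/

section

variable {L : Type*} [Group L] (D : Mod L)

theorem pi_eq (k l : K) : D.π k = D.π l ↔ φ (k : H0) = φ (l : H0) := by
  rw [D.eq_iff, φ_eq_iff]

/-- the involution of class 2A -/
def zA : L := D.π ⟨aa, aa_mem_K⟩

/-- the involution of class 2B -/
def wB : L := D.π ⟨g0, g0_mem_K⟩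

theorem zA_sq : zA D * zA D = 1 := by
  rw [zA, ← map_mul, D.ker]
  exact Or.inl Syl.a_sq

theorem wB_sq : wB D * wB D = 1 := by
  rw [wB, ← map_mul, D.ker]
  exact Or.inr g0_sq

theorem zA_ne : zA D ≠ 1 := by
  intro h
  rcases (D.ker _).1 h with h1 | h1
  · exact Classes.a_ne_one h1
  · exact Classes.a_ne_τ h1

theorem wB_ne : wB D ≠ 1 := by
  intro h
  have h2 := g0_sq
  rcases (D.ker _).1 h with h1 | h1
  · change g0 = 1 at h1
    rw [h1, one_mul] at h2
    exact τ_ne_one h2.symm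
  · change g0 = τ at h1
    rw [h1, τ_mul_τ] at h2
    exact τ_ne_one h2.symm

theorem conj_aux {g o : H0} (hg : g ∈ K) (ho : o ∉ K) (hog : φ (o * g) = φ (g * o)) {k : K}
    (h : IsConj g (k : H0)) : ∃ x : L, x * D.π ⟨g, hg⟩ * x⁻¹ = D.π k := by
  obtain ⟨c, hc⟩ := isConj_iff.1 h
  by_cases hcK : c ∈ K
  · refine ⟨D.π ⟨c, hcK⟩, ?_⟩
    rw [← map_inv, ← map_mul, ← map_mul, pi_eq]
    exact congrArg φ hc
  · refine ⟨D.π ⟨c * o, mul_mem_K hcK ho⟩, ?_⟩
    rw [← map_inv, ← map_mul, ← map_mul, pi_eq]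
    change φ (c * o * g * (c * o)⁻¹) = φ k
    rw [← hc]
    have h1 : φ o * φ g = φ g * φ o := by rw [← map_mul, hog, map_mul]
    simp only [map_mul, map_inv, mul_inv_rev]
    calc φ c * φ o * φ g * ((φ o)⁻¹ * (φ c)⁻¹) = φ c * (φ o * φ g) * (φ o)⁻¹ * (φ c)⁻¹ := by group
      _ = _ := by rw [h1]; group

/-- **the involutions of `L`** -/
theorem inv_cases (x : L) (hx : x * x = 1) (h1 : x ≠ 1) :
    (∃ c, c * zA D * c⁻¹ = x) ∨ (∃ c, c * wB D * c⁻¹ = x) := by
  obtain ⟨k, rfl⟩ := D.surj x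
  have h3 := (D.ker (k * k)).1 (by rw [map_mul, hx])
  have h4 : (k : H0) ^ 2 = 1 ∨ (k : H0) ^ 2 = τ := by rw [pow_two]; exact h3
  rcases Syl.sq_cases h4 with h | h | h | h | h | h | h
  · exact absurd ((D.ker k).2 (Or.inl h)) h1
  · exact absurd ((D.ker k).2 (Or.inr h)) h1
  · exact Or.inl (conj_aux D aa_mem_K oA_not (by rw [oA_comm]) h)
  · left
    have h5 := conj_aux D (g := aa * τ) (K.mul_mem aa_mem_K τ_mem_K) oA_not
      (by rw [← mul_assoc, oA_comm, map_mul, map_mul φ (aa * τ), map_mul φ aa τ, map_mul φ aa, φ_τ, mul_one, mul_one])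
      h
    have e : D.π ⟨aa * τ, K.mul_mem aa_mem_K τ_mem_K⟩ = zA D := by
      rw [zA, pi_eq]
      change φ (aa * τ) = φ aa
      rw [map_mul, φ_τ, mul_one]
    rwa [e] at h5
  · right
    have h5 : IsConj g0 (k : H0) := (Syl.isConj_of_sq_eq_τ (by rw [pow_two, g0_sq])).symm.trans h
    exact conj_aux D g0_mem_K gz_not gz_g0 h5
  · exact absurd ((Classes.mem_K_of_isConj h).2 k.2) gz_not
  · exact absurd ((Classes.mem_K_of_isConj h).2 k.2) Classes.d_notMem_K

theorem surj' (x : L) : ∃ (k : H0) (hk : k ∈ K), x = D.π ⟨k, hk⟩ := by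
  obtain ⟨k, rfl⟩ := D.surj x
  exact ⟨k, k.2, rfl⟩

include D in
theorem fin : Finite L := by
  have := finite_H0
  exact Finite.of_surjective _ D.surj

/-! ### the class 2A -/

/-- `zA` is 2-central -/
theorem cen : Cen (zA D) := by
  have := finite_H0
  have := fin D
  have hp2 : Fact (Nat.Prime 2) := ⟨Nat.prime_two⟩
  have hle : K ⊓ Syl.S ≤ K := inf_le_left
  let f : ↥(K ⊓ Syl.S) →* L := D.π.comp (Subgroup.inclusion hle)
  have hidx : K.index ≤ 2 := by
    have h1 : K.index = Nat.card sgn.range := Subgroup.index_ker sgn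
    rw [h1]
    refine (Subgroup.card_le_card_group _).trans ?_
    rw [Nat.card_eq_fintype_card]
    exact le_of_eq (by decide)
  have hK0 : K.index ≠ 0 := Subgroup.index_ne_zero_of_finite
  have h10 : 2 ^ 10 ≤ Nat.card ↥(K ⊓ Syl.S) := by
    have h1 : Nat.card (K.subgroupOf Syl.S) * (K.subgroupOf Syl.S).index = Nat.card Syl.S :=
      (K.subgroupOf Syl.S).card_mul_index
    have h2 : (K.subgroupOf Syl.S).index ∣ K.index := Subgroup.relIndex_dvd_index_of_normal K Syl.S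
    have h3 : (K.subgroupOf Syl.S).index ≤ 2 := (Nat.le_of_dvd (Nat.pos_of_ne_zero hK0) h2).trans hidx
    have h4 : Nat.card (K.subgroupOf Syl.S) = Nat.card ↥(K ⊓ Syl.S) := by
      rw [← Subgroup.inf_subgroupOf_right]
      exact Nat.card_congr (Subgroup.subgroupOfEquivOfLe inf_le_right).toEquiv
    rw [Syl.card_S, h4] at h1
    by_contra h5
    have h6 : Nat.card ↥(K ⊓ Syl.S) * (K.subgroupOf Syl.S).index ≤ Nat.card ↥(K ⊓ Syl.S) * 2 :=
      Nat.mul_le_mul_left _ h3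
    rw [h1] at h6
    omega
  have hker : Nat.card f.ker ≤ 2 := by
    have h1 : ∀ x : f.ker, (((x : ↥(K ⊓ Syl.S)) : H0)) ∈ ({1, τ} : Set H0) := by
      intro x
      have h2 : D.π (Subgroup.inclusion hle x) = 1 := x.2
      exact (D.ker _).1 h2
    have h3 : Nat.card f.ker ≤ Nat.card ({1, τ} : Set H0) :=
      Nat.card_le_card_of_injective (fun x => (⟨_, h1 x⟩ : ({1, τ} : Set H0))) (by
        intro x y hxy
        apply Subtype.ext
        apply Subtype.ext
        exact Subtype.mk.inj hxy)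
    refine h3.trans ?_
    rw [Nat.card_coe_set_eq]
    exact (Set.ncard_insert_le _ _).trans (by rw [Set.ncard_singleton])
  have hran : 2 ^ 9 ≤ Nat.card f.range := by
    have h1 := Subgroup.card_eq_card_quotient_mul_card_subgroup f.ker
    rw [Nat.card_congr (QuotientGroup.quotientKerEquivRange f).toEquiv] at h1
    by_contra h2
    have h3 : Nat.card f.range * Nat.card f.ker ≤ Nat.card f.range * 2 := Nat.mul_le_mul_left _ hker
    rw [← h1] at h3
    omega
  have hpS : IsPGroup 2 Syl.S := IsPGroup.of_card Syl.card_S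
  have hpr : IsPGroup 2 f.range := (hpS.to_le (inf_le_right : K ⊓ Syl.S ≤ Syl.S)).of_surjective f.rangeRestrict
    f.rangeRestrict_surjective
  obtain ⟨Q, hQ⟩ := hpr.exists_le_sylow
  have hcQ : Nat.card Q ≤ 2 ^ 9 := by
    obtain ⟨n, hn⟩ := IsPGroup.iff_card.mp Q.isPGroup'
    have h1 : Nat.card Q ∣ Nat.card L := Subgroup.card_subgroup_dvd_card _
    rw [D.card, hn] at h1
    have h2 : n ≤ 9 := by
      by_contra h3
      have h4 : 2 ^ 10 ∣ 44352000 := (pow_dvd_pow 2 (by omega)).trans h1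
      norm_num at h4
    rw [hn]
    exact Nat.pow_le_pow_right (by norm_num) h2
  have hQe : f.range = (Q : Subgroup L) := Subgroup.eq_of_le_of_card_ge hQ (hcQ.trans hran)
  refine ⟨Q, fun s hs => ?_⟩
  have hs' : s ∈ f.range := by rw [hQe]; exact hs
  obtain ⟨x, rfl⟩ := hs'
  change D.π (Subgroup.inclusion hle x) * D.π ⟨aa, aa_mem_K⟩ = D.π ⟨aa, aa_mem_K⟩ * D.π (Subgroup.inclusion hle x)
  rw [← map_mul, ← map_mul]
  congr 1
  apply Subtype.ext
  exact Syl.a_comm x.2.2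

/-- commuting with `a` modulo `τ` -/
theorem comm_b {h : H0} (hb : φ (h * aa) = φ (aa * h)) : h * b = b * h := by
  have h1 : h * aa = aa * h := by
    rcases φ_eq_iff.1 hb with h1 | h1
    · exact h1
    · exfalso
      apply Classes.not_isConj_a_aτ
      rw [isConj_iff]
      refine ⟨h, ?_⟩
      rw [h1, mul_assoc aa h τ, τ_comm h, ← mul_assoc, mul_inv_cancel_right]
  rw [b_eq, ← mul_assoc, h1, mul_assoc, τ_comm h, mul_assoc]

theorem φ_b : φ b = φ aa := by rw [b_eq, map_mul, φ_τ, mul_one]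

theorem φ_sg (e : Bool) : φ (sg e) = 1 ∨ φ (sg e) = φ aa := by
  cases e
  · exact Or.inl (map_one φ)
  · exact Or.inr φ_b

/-- elements trivial on `R` -/
theorem fix_R {h : H0} (hb : φ (h * aa) = φ (aa * h)) (hr : ∀ r ∈ Rt, φ (h * r) = φ (r * h)) :
    h ∈ K ∧ (φ h = 1 ∨ φ h = φ aa ∨ φ (h * h) = φ aa) := by
  have h1 : ∀ r ∈ Rt, h * r * h⁻¹ = r ∨ h * r * h⁻¹ = r * τ := by
    intro r hr'
    rcases φ_eq_iff.1 (hr r hr') with h2 | h2
    · left; rw [h2, mul_inv_cancel_right]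
    · right; rw [h2, mul_assoc r h τ, τ_comm h, ← mul_assoc, mul_inv_cancel_right]
  obtain ⟨e, he⟩ := fixR (comm_b hb) h1
  have hUs : ∀ e, φ ((Cent.U * sg e) * (Cent.U * sg e)) = φ aa := by
    intro e
    have h2 : (Cent.U * sg e) * (Cent.U * sg e) = b * (sg e * sg e) := by
      have h3 : sg e * Cent.U = Cent.U * sg e := by
        cases e
        · exact (one_mul _).trans (mul_one _).symm
        · exact Cent.U_b
      calc (Cent.U * sg e) * (Cent.U * sg e) = Cent.U * (sg e * Cent.U) * sg e := by group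
        _ = Cent.U * Cent.U * (sg e * sg e) := by rw [h3]; group
        _ = _ := by rw [Cent.U_sq]
    rw [h2, WMask.sg_mul, Bool.xor_self]
    change φ (b * 1) = φ aa
    rw [mul_one, φ_b]
  rcases he with rfl | rfl | rfl | rfl
  · refine ⟨Cent.sg_mem_K e, ?_⟩
    rcases φ_sg e with h2 | h2
    · exact Or.inl h2
    · exact Or.inr (Or.inl h2)
  · refine ⟨K.mul_mem τ_mem_K (Cent.sg_mem_K e), ?_⟩
    rw [map_mul, φ_τ, one_mul]
    rcases φ_sg e with h2 | h2
    · exact Or.inl h2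
    · exact Or.inr (Or.inl h2)
  · exact ⟨K.mul_mem Cent.U_mem_K (Cent.sg_mem_K e), Or.inr (Or.inr (hUs e))⟩
  · refine ⟨K.mul_mem (K.mul_mem Cent.U_mem_K τ_mem_K) (Cent.sg_mem_K e), Or.inr (Or.inr ?_)⟩
    have h2 := hUs e
    simp only [map_mul, φ_τ, mul_one] at h2 ⊢
    exact h2

theorem Rt_le_K : Rt ≤ K := inf_le_right

/-- the image of `R` -/
def RL : Subgroup L := (Rt.subgroupOf K).map D.π

theorem mem_RL {x : L} : x ∈ RL D ↔ ∃ (r : H0) (hr : r ∈ Rt), x = D.π ⟨r, Rt_le_K hr⟩ := by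
  constructor
  · rintro ⟨⟨r, hrK⟩, hr, rfl⟩
    exact ⟨r, hr, rfl⟩
  · rintro ⟨r, hr, rfl⟩
    exact ⟨⟨r, Rt_le_K hr⟩, hr, rfl⟩

theorem Rt_pow {r : H0} (hr : r ∈ Rt) : r ^ 4 = 1 := by
  obtain ⟨m, hm, _, e, rfl⟩ := Cent.mem_Rt.1 hr
  obtain ⟨e', he'⟩ := WMask.R_sq m
  have h1 : (R m * sg e) * (R m * sg e) = sg e' := by
    calc (R m * sg e) * (R m * sg e) = R m * (sg e * R m) * sg e := by group
      _ = (R m * R m) * (sg e * sg e) := by rw [WMask.R_sg]; group
      _ = _ := by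
        rw [he', WMask.sg_mul, Bool.xor_self]
        exact mul_one _
  have h2 : sg e' * sg e' = 1 := by
    rw [WMask.sg_mul, Bool.xor_self]
    rfl
  calc (R m * sg e) ^ 4 = ((R m * sg e) * (R m * sg e)) * ((R m * sg e) * (R m * sg e)) := by
        rw [pow_succ, pow_succ, pow_two]; group
    _ = 1 := by rw [h1, h2]

theorem RL_pow {x : L} (hx : x ∈ RL D) : x ^ 4 = 1 := by
  obtain ⟨r, hr, rfl⟩ := (mem_RL D).1 hx
  rw [← map_pow, D.ker]
  exact Or.inl (Rt_pow hr)

theorem RL_pGroup : IsPGroup 2 (RL D) := by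
  intro x
  exact ⟨2, Subtype.ext (RL_pow D x.2)⟩

theorem zA_mem_RL : zA D ∈ RL D := by
  rw [mem_RL]
  refine ⟨b, Cent.b_mem_Rt, ?_⟩
  rw [zA, pi_eq]
  exact φ_b.symm

/-- commuting with `zA` -/
theorem comm_zA {k : K} (h : D.π k * zA D = zA D * D.π k) : φ ((k : H0) * aa) = φ (aa * k) := by
  rw [zA, ← map_mul, ← map_mul, pi_eq] at h
  exact h

theorem RL_norm {c : L} (hc : c * zA D = zA D * c) {x : L} (hx : x ∈ RL D) : c * x * c⁻¹ ∈ RL D := by
  obtain ⟨r, hr, rfl⟩ := (mem_RL D).1 hx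
  obtain ⟨k, rfl⟩ := D.surj c
  have h1 := comm_b (comm_zA D hc)
  rw [mem_RL]
  refine ⟨k * r * (k : H0)⁻¹, Rt_conj h1 hr, ?_⟩
  rw [← map_inv, ← map_mul, ← map_mul]
  rfl

/-- elements commuting with `zA` and `RL` -/
theorem cent_RL {x : L} (hz : x * zA D = zA D * x) (h : ∀ r ∈ RL D, x * r = r * x) :
    x = 1 ∨ x = zA D ∨ x * x = zA D := by
  obtain ⟨k, rfl⟩ := D.surj x
  have h1 : ∀ r ∈ Rt, φ ((k : H0) * r) = φ (r * k) := by
    intro r hr
    have h2 := h (D.π ⟨r, Rt_le_K hr⟩) ((mem_RL D).2 ⟨r, hr, rfl⟩)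
    rw [← map_mul, ← map_mul, pi_eq] at h2
    exact h2
  rcases (fix_R (comm_zA D hz) h1).2 with h2 | h2 | h2
  · left
    rw [← map_one D.π, pi_eq]
    exact h2
  · right; left
    rw [zA, pi_eq]
    exact h2
  · right; right
    rw [zA, ← map_mul, pi_eq]
    exact h2

theorem odd_pow {G : Type*} [Group G] [Finite G] {I : Subgroup G} (hodd : Odd (Nat.card I)) {x : G} (hx : x ∈ I)
    {n : ℕ} (h4 : x ^ 2 ^ n = 1) : x = 1 := by
  have h1 : orderOf x ∣ Nat.card I := Subgroup.orderOf_dvd_natCard I hx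
  have h2 : orderOf x ∣ 2 ^ n := orderOf_dvd_of_pow_eq_one h4
  have h3 : (Nat.card I).Coprime (2 ^ n) := (Nat.Coprime.pow_right n hodd.coprime_two_right)
  rw [← orderOf_eq_one_iff]
  exact Nat.eq_one_of_dvd_coprimes h3 h1 h2

/-- `O(C(zA)) = 1` -/
theorem odd_A (I : Subgroup L) (hI : ∀ i ∈ I, i * zA D = zA D * i)
    (hn : ∀ c : L, c * zA D = zA D * c → ∀ i ∈ I, c * i * c⁻¹ ∈ I) (hodd : Odd (Nat.card I)) : I = ⊥ := by
  have := fin D
  rw [eq_bot_iff]
  intro i hi
  have hiz := hI i hi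
  have h1 : ∀ r ∈ RL D, i * r = r * i := by
    intro r hr
    have hrz : r * zA D = zA D * r := by
      obtain ⟨r', hr', rfl⟩ := (mem_RL D).1 hr
      rw [zA, ← map_mul, ← map_mul, pi_eq]
      change φ (r' * aa) = φ (aa * r')
      have h2 : r' * b = b * r' := by
        obtain ⟨m, hm, _, e, rfl⟩ := Cent.mem_Rt.1 hr'
        have h3 : sg e * b = b * sg e := by
          cases e
          · exact (one_mul _).trans (mul_one _).symm
          · rfl
        rw [mul_assoc, h3, ← mul_assoc, ← WMask.R_b, mul_assoc]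
      have h3 : φ (r' * b) = φ (b * r') := by rw [h2]
      rw [map_mul, map_mul, φ_b] at h3
      rw [map_mul, map_mul, h3]
    have h2 : i * r * i⁻¹ * r⁻¹ ∈ I := by
      have h3 := hn r hrz i⁻¹ (I.inv_mem hi)
      have h4 : i * r * i⁻¹ * r⁻¹ = i * (r * i⁻¹ * r⁻¹) := by group
      rw [h4]
      exact I.mul_mem hi h3
    have h3 : i * r * i⁻¹ * r⁻¹ ∈ RL D := (RL D).mul_mem (RL_norm D hiz hr) ((RL D).inv_mem hr)
    have h4 : i * r * i⁻¹ * r⁻¹ = 1 := odd_pow hodd h2 (n := 2) (RL_pow D h3)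
    calc i * r = (i * r * i⁻¹ * r⁻¹) * (r * i) := by group
      _ = r * i := by rw [h4, one_mul]
  have h2 : i ^ 2 ^ 2 = 1 := by
    have e : i ^ 2 ^ 2 = (i * i) * (i * i) := by
      rw [show (2 : ℕ) ^ 2 = 2 + 2 by norm_num, pow_add, pow_two]
    rcases cent_RL D hiz h1 with h | h | h
    · rw [h, one_pow]
    · rw [e, h, zA_sq, one_mul]
    · rw [e, h, zA_sq]
  exact Subgroup.mem_bot.2 (odd_pow hodd hi h2)

/-- a Sylow 2-subgroup centralising `zA` contains `RL` -/
theorem RL_le {S : Sylow 2 L} (hS : ∀ s ∈ S, s * zA D = zA D * s) : RL D ≤ S := by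
  have h1 : (S : Subgroup L) ≤ Subgroup.normalizer (RL D : Set L) := by
    intro s hs
    rw [Subgroup.mem_normalizer_iff]
    intro x
    constructor
    · intro hx
      exact RL_norm D (hS s hs) hx
    · intro hx
      have h2 := RL_norm D (hS _ ((S : Subgroup L).inv_mem hs)) hx
      have h3 : s⁻¹ * (s * x * s⁻¹) * s⁻¹⁻¹ = x := by group
      rwa [h3] at h2
  have h2 : IsPGroup 2 ((S : Subgroup L) ⊔ RL D : Subgroup L) :=
    IsPGroup.to_sup_of_normal_right' S.isPGroup' (RL_pGroup D) h1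
  have h3 := S.is_maximal' h2 le_sup_left
  rw [← h3]
  exact le_sup_right

/-- every Sylow 2-subgroup is conjugate to one centralising `zA` -/
theorem exists_conj_sylow (S : Sylow 2 L) : ∃ g : L, ∀ s ∈ S, (g * s * g⁻¹) * zA D = zA D * (g * s * g⁻¹) := by
  have := fin D
  have hp2 : Fact (Nat.Prime 2) := ⟨Nat.prime_two⟩
  obtain ⟨T, hT⟩ := cen D
  obtain ⟨g, hg⟩ := MulAction.exists_smul_eq L S T
  refine ⟨g, fun s hs => ?_⟩
  apply hT
  rw [← hg]
  exact Subgroup.smul_mem_pointwise_smul s (MulAut.conj g) (S : Subgroup L) hs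

/-- elements centralising `S` and lying in `C(zA)`, for a Sylow 2-subgroup `S` of `C(zA)` -/
theorem cent_S {S : Sylow 2 L} (hS : ∀ s ∈ S, s * zA D = zA D * s) {x : L} (hx : ∀ s ∈ S, s * x = x * s)
    (hxx : x * x = 1) (h1 : x ≠ 1) : x = zA D := by
  have h2 : ∀ r ∈ RL D, x * r = r * x := fun r hr => (hx r (RL_le D hS hr)).symm
  have h3 : x * zA D = zA D * x := h2 _ (zA_mem_RL D)
  rcases cent_RL D h3 h2 with h | h | h
  · exact absurd h h1
  · exact h
  · rw [hxx] at h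
    exact absurd h.symm (zA_ne D)

include D in
/-- `z1` -/
theorem z1 (S : Sylow 2 L) (x : L) (_ : x ∈ S) (hx : x * x = 1) (hx1 : x ≠ 1) (hxc : ∀ s ∈ S, s * x = x * s)
    (y : L) (_ : y ∈ S) (hy : y * y = 1) (hy1 : y ≠ 1) (hyc : ∀ s ∈ S, s * y = y * s) : x = y := by
  have := fin D
  have hp2 : Fact (Nat.Prime 2) := ⟨Nat.prime_two⟩
  obtain ⟨g, hg⟩ := exists_conj_sylow D S
  -- the Sylow subgroup `g S g⁻¹`
  have h1 : ∀ t ∈ (g • S : Sylow 2 L), ∃ s ∈ S, t = g * s * g⁻¹ := by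
    intro t ht
    obtain ⟨s, hs, rfl⟩ := ht
    exact ⟨s, hs, rfl⟩
  have h2 : ∀ t ∈ (g • S : Sylow 2 L), t * zA D = zA D * t := by
    intro t ht
    obtain ⟨s, hs, rfl⟩ := h1 t ht
    exact hg s hs
  have key : ∀ x : L, x * x = 1 → x ≠ 1 → (∀ s ∈ S, s * x = x * s) → g * x * g⁻¹ = zA D := by
    intro x hx hx1 hxc
    apply cent_S D h2
    · intro t ht
      obtain ⟨s, hs, rfl⟩ := h1 t ht
      calc g * s * g⁻¹ * (g * x * g⁻¹) = g * (s * x) * g⁻¹ := by group
        _ = g * (x * s) * g⁻¹ := by rw [hxc s hs]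
        _ = g * x * g⁻¹ * (g * s * g⁻¹) := by group
    · calc g * x * g⁻¹ * (g * x * g⁻¹) = g * (x * x) * g⁻¹ := by group
        _ = 1 := by rw [hx]; group
    · intro h
      apply hx1
      have h3 : x = g⁻¹ * (g * x * g⁻¹) * g := by group
      rw [h3, h]; group
  have e := (key x hx hx1 hxc).trans (key y hy hy1 hyc).symm
  have h3 : x = g⁻¹ * (g * x * g⁻¹) * g := by group
  rw [h3, e]; group

include D in
/-- `sylAut` -/
theorem sylAut (S : Sylow 2 L) (α : MulAut L) (hα : ∀ x ∈ S, α x = x) : Inn α := by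
  have := fin D
  have hp2 : Fact (Nat.Prime 2) := ⟨Nat.prime_two⟩
  obtain ⟨g, hg⟩ := exists_conj_sylow D S
  have h1 : ∀ t ∈ (g • S : Sylow 2 L), ∃ s ∈ S, t = g * s * g⁻¹ := by
    intro t ht
    obtain ⟨s, hs, rfl⟩ := ht
    exact ⟨s, hs, rfl⟩
  have h2 : ∀ t ∈ (g • S : Sylow 2 L), t * zA D = zA D * t := by
    intro t ht
    obtain ⟨s, hs, rfl⟩ := h1 t ht
    exact hg s hs
  -- `β = g α g⁻¹` fixes `g S g⁻¹`
  let β : MulAut L := MulAut.conj g * α * (MulAut.conj g)⁻¹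
  have hβ : ∀ r ∈ RL D, β r = r := by
    intro r hr
    obtain ⟨s, hs, rfl⟩ := h1 r (RL_le D h2 hr)
    change MulAut.conj g (α ((MulAut.conj g)⁻¹ (g * s * g⁻¹))) = g * s * g⁻¹
    have h3 : (MulAut.conj g)⁻¹ (g * s * g⁻¹) = s := by
      rw [MulAut.conj_inv_apply]; group
    rw [h3, hα s hs]
    rfl
  obtain ⟨h, hh⟩ := D.au_surj β
  have hr : ∀ r (hr : r ∈ Rt), φ (h * r) = φ (r * h) := by
    intro r hr
    have h3 := hβ (D.π ⟨r, Rt_le_K hr⟩) ((mem_RL D).2 ⟨r, hr, rfl⟩)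
    rw [← hh, D.au_π, pi_eq] at h3
    change φ (h * r * h⁻¹) = φ r at h3
    rw [map_mul, map_inv, mul_inv_eq_iff_eq_mul] at h3
    rw [h3, map_mul]
  have hb : φ (h * aa) = φ (aa * h) := by
    have h3 := hr b Cent.b_mem_Rt
    rw [map_mul, map_mul, φ_b] at h3
    rw [map_mul, map_mul, h3]
  have hK : h ∈ K := (fix_R hb hr).1
  have h3 : β = MulAut.conj (D.π ⟨h, hK⟩) := by rw [← hh, ← D.au_K]
  refine ⟨g⁻¹ * D.π ⟨h, hK⟩ * g, ?_⟩
  have h4 : α = (MulAut.conj g)⁻¹ * β * MulAut.conj g := by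
    change α = (MulAut.conj g)⁻¹ * (MulAut.conj g * α * (MulAut.conj g)⁻¹) * MulAut.conj g
    group
  rw [h4, h3, map_mul, map_mul, map_inv]

/-! ### the class 2B -/

/-- `A6` in `L` -/
noncomputable def rho : A6 →* L := D.π.comp (psi.codRestrict K psi_mem_K)

theorem rho_apply (s : A6) : rho D s = D.π ⟨psi s, psi_mem_K s⟩ := rfl

theorem vw_mem_K {i : ℕ} (hi : i < 4) : hw (vw i) ∈ K := by
  rw [← psi_cyc hi]
  exact psi_mem_K _

theorem rho_cyc {i : ℕ} (hi : i < 4) : rho D ⟨cyc 4 i, cyc_mem 4 i hi⟩ = D.π ⟨hw (vw i), vw_mem_K hi⟩ := by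
  rw [rho_apply]
  congr 1
  exact Subtype.ext (psi_cyc hi)

theorem vw0_ne : hw (vw 0) ≠ 1 ∧ hw (vw 0) ≠ τ := by
  constructor
  · intro h
    rw [← hw_nil] at h
    have := eqw_of_hw_eq (TwoB.chkp 0 (by norm_num)).1 (by decide) h
    rw [TwoB.chk1.1] at this
    exact absurd this (by decide)
  · intro h
    rw [← hw_τ] at h
    have := eqw_of_hw_eq (TwoB.chkp 0 (by norm_num)).1 (by decide) h
    rw [TwoB.chk1.2] at this
    exact absurd this (by decide)

theorem rho_inj : Function.Injective (rho D) := by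
  rw [← MonoidHom.ker_eq_bot_iff]
  rcases Subgroup.Normal.eq_bot_or_eq_top (H := (rho D).ker) inferInstance with h | h
  · exact h
  · exfalso
    have h1 : (⟨cyc 4 0, cyc_mem 4 0 (by norm_num)⟩ : A6) ∈ (rho D).ker := by rw [h]; trivial
    rw [MonoidHom.mem_ker, rho_cyc D (by norm_num), D.ker] at h1
    rcases h1 with h1 | h1
    · exact vw0_ne.1 h1
    · exact vw0_ne.2 h1

/-- the image of `A6` -/
noncomputable def LA : Subgroup L := (rho D).range

theorem card_LA : Nat.card (LA D) = 360 := by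
  rw [LA, ← Nat.card_congr (MonoidHom.ofInjective (rho_inj D)).toEquiv, nat_card_alternatingGroup,
    Nat.card_eq_fintype_card, Fintype.card_fin]
  rfl

theorem perf_LA : ⁅LA D, LA D⁆ = LA D := by
  rw [LA, MonoidHom.range_eq_map, ← Subgroup.map_commutator]
  congr 1
  exact commutator_alternatingGroup_eq_top (by rw [Nat.card_eq_fintype_card, Fintype.card_fin]; norm_num)

theorem LA_comm {l : L} (hl : l ∈ LA D) : l * wB D = wB D * l := by
  obtain ⟨s, rfl⟩ := hl
  rw [rho_apply, wB, ← map_mul, ← map_mul]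
  congr 1
  exact Subtype.ext (psi_g0 s)

theorem cent_LA {x : L} (h : ∀ l ∈ LA D, x * l = l * x) : x = 1 ∨ x = wB D := by
  obtain ⟨k, rfl⟩ := D.surj x
  have h1 : ∀ i < 4, φ ((k : H0) * hw (vw i)) = φ (hw (vw i) * k) := by
    intro i hi
    have h2 := h _ ⟨_, rho_cyc D hi⟩
    rw [← map_mul, ← map_mul, pi_eq] at h2
    exact h2
  rcases cent_A6_even k.2 h1 with h2 | h2
  · left
    rw [← map_one D.π, pi_eq]
    rw [h2]
    exact (map_one φ).symm
  · right
    rw [wB, pi_eq]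
    exact h2

theorem mem_cenG {h : H0} (hh : φ (h * g0) = φ (g0 * h)) : φ h ∈ CentUp.cenA [g0w] := by
  refine ⟨range_le ⟨h, rfl⟩, ?_⟩
  change φ h ∈ Subgroup.centralizer (φ '' CentUp.wset [g0w])
  rw [Subgroup.mem_centralizer_iff, CentUp.wset_singleton]
  rintro _ ⟨_, rfl, rfl⟩
  rw [← map_mul, ← map_mul]
  exact hh.symm

theorem card_C : Nat.card (Subgroup.centralizer ({wB D} : Set L)) ≤ 2880 := by
  classical
  have h1 : 2 * Nat.card ↥(CentUp.cenA [g0w] ⊓ K.map φ) ≤ Nat.card (CentUp.cenA [g0w]) := by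
    apply TwoB.two_mul_card_le_of (x := φ gz) inf_le_left (mem_cenG gz_g0)
    rintro ⟨_, k, hk, hkz⟩
    rcases φ_eq_iff.1 hkz with h | h
    · exact gz_not (h ▸ hk)
    · rw [h] at hk
      exact gz_not ((K.mul_mem_cancel_right τ_mem_K).1 hk)
  have h2 : ∀ x : Subgroup.centralizer ({wB D} : Set L),
      φ ((Function.surjInv D.surj (x : L) : K) : H0) ∈ CentUp.cenA [g0w] ⊓ K.map φ := by
    intro x
    refine ⟨mem_cenG ?_, ⟨_, (Function.surjInv D.surj (x : L)).2, rfl⟩⟩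
    have h3 : (x : L) * wB D = wB D * x := Subgroup.mem_centralizer_singleton_iff.1 x.2
    have h4 : D.π (Function.surjInv D.surj (x : L)) * wB D = wB D * D.π (Function.surjInv D.surj (x : L)) := by
      rw [Function.surjInv_eq D.surj (x : L)]
      exact h3
    change D.π _ * D.π ⟨g0, g0_mem_K⟩ = D.π ⟨g0, g0_mem_K⟩ * D.π _ at h4
    rw [← map_mul, ← map_mul, pi_eq] at h4
    exact h4
  have h3 : Nat.card (Subgroup.centralizer ({wB D} : Set L)) ≤ Nat.card ↥(CentUp.cenA [g0w] ⊓ K.map φ) := by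
    apply Nat.card_le_card_of_injective
      (fun x => (⟨_, h2 x⟩ : ↥(CentUp.cenA [g0w] ⊓ K.map φ)))
    intro x y hxy
    have h4 := congrArg Subtype.val hxy
    change φ _ = φ _ at h4
    rw [← pi_eq D, Function.surjInv_eq D.surj, Function.surjInv_eq D.surj] at h4
    exact Subtype.ext h4
  have h4 := TwoB.cG_le
  omega

theorem wB_not_mem_LA : wB D ∉ LA D := by
  intro h
  obtain ⟨s, hs⟩ := h
  have h1 : s ∈ Subgroup.center A6 := by
    rw [Subgroup.mem_center_iff]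
    intro t
    apply rho_inj D
    rw [map_mul, map_mul, hs]
    exact LA_comm D ⟨t, rfl⟩
  rw [alternatingGroup.center_eq_bot (by rw [Nat.card_eq_fintype_card, Fintype.card_fin]; norm_num),
    Subgroup.mem_bot] at h1
  rw [h1, map_one] at hs
  exact wB_ne D hs.symm

/-- `LA` is normal in `C(wB)` -/
theorem norm_LA {c : L} (hc : c * wB D = wB D * c) {l : L} (hl : l ∈ LA D) : c * l * c⁻¹ ∈ LA D := by
  have := fin D
  have hBC : LA D ≤ Subgroup.centralizer ({wB D} : Set L) := fun l hl =>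
    Subgroup.mem_centralizer_singleton_iff.2 (LA_comm D hl)
  obtain ⟨m, hm⟩ := TwoB.exists_dser_le (Subgroup.centralizer ({wB D} : Set L)) (LA D) (wB D)
    (Subgroup.mem_centralizer_singleton_iff.2 rfl) hBC
    (fun x hx => Subgroup.mem_centralizer_singleton_iff.1 hx) (wB_sq D) (wB_not_mem_LA D)
    ((card_C D).trans (by rw [card_LA]))
  have h1 : LA D ≤ Cfsg.Agent.OddHalf.TR.dser m (Subgroup.centralizer ({wB D} : Set L)) := by
    conv_lhs => rw [← Cfsg.Agent.OddHalf.TR.dser_of_perfect m (perf_LA D)]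
    exact Cfsg.Agent.OddHalf.TR.dser_mono m hBC
  have h2 := le_antisymm hm h1
  have h3 := Cfsg.Agent.OddHalf.TR.dser_map m (Subgroup.centralizer ({wB D} : Set L))
    (MulAut.conj c).toMonoidHom
  have h4 : (Subgroup.centralizer ({wB D} : Set L)).map (MulAut.conj c).toMonoidHom =
      Subgroup.centralizer ({wB D} : Set L) := by
    apply le_antisymm
    · rintro _ ⟨y, hy, rfl⟩
      have hc' : c ∈ Subgroup.centralizer ({wB D} : Set L) := Subgroup.mem_centralizer_singleton_iff.2 hc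
      exact Subgroup.mul_mem _ (Subgroup.mul_mem _ hc' hy) (Subgroup.inv_mem _ hc')
    · intro y hy
      have hc' : c ∈ Subgroup.centralizer ({wB D} : Set L) := Subgroup.mem_centralizer_singleton_iff.2 hc
      refine ⟨c⁻¹ * y * c, Subgroup.mul_mem _ (Subgroup.mul_mem _ (Subgroup.inv_mem _ hc') hy) hc', ?_⟩
      change c * (c⁻¹ * y * c) * c⁻¹ = y
      group
  rw [h4, h2] at h3
  rw [h3]
  exact ⟨l, hl, rfl⟩

/-- normal subgroups of `C(wB)` -/
theorem norm_cases (M : Subgroup L) (hM : ∀ m ∈ M, m * wB D = wB D * m)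
    (hn : ∀ c : L, c * wB D = wB D * c → ∀ m ∈ M, c * m * c⁻¹ ∈ M) :
    (∀ m ∈ M, m = 1 ∨ m = wB D) ∨ LA D ≤ M := by
  have hJ : (M.comap (rho D)).Normal := by
    constructor
    intro s hs t
    rw [Subgroup.mem_comap] at hs ⊢
    rw [map_mul, map_mul, map_inv]
    exact hn _ (LA_comm D ⟨t, rfl⟩) _ hs
  rcases Subgroup.Normal.eq_bot_or_eq_top (H := M.comap (rho D)) hJ with h | h
  · left
    intro m hm
    apply cent_LA D
    intro l hl
    have h1 : m * l * m⁻¹ * l⁻¹ ∈ M := by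
      have h2 := hn l (LA_comm D hl) m⁻¹ (M.inv_mem hm)
      have h3 : m * l * m⁻¹ * l⁻¹ = m * (l * m⁻¹ * l⁻¹) := by group
      rw [h3]
      exact M.mul_mem hm h2
    have h2 : m * l * m⁻¹ * l⁻¹ ∈ LA D := (LA D).mul_mem (norm_LA D (hM m hm) hl) ((LA D).inv_mem hl)
    obtain ⟨s, hs⟩ := h2
    have h3 : s ∈ M.comap (rho D) := by
      rw [Subgroup.mem_comap, hs]
      exact h1
    rw [h, Subgroup.mem_bot] at h3
    rw [h3, map_one] at hs
    calc m * l = (m * l * m⁻¹ * l⁻¹) * (l * m) := by group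
      _ = l * m := by rw [← hs, one_mul]
  · right
    rintro _ ⟨s, rfl⟩
    have h1 : s ∈ M.comap (rho D) := by rw [h]; trivial
    exact h1

/-- an involution of `A6` -/
def s0 : A6 := ⟨cyc 4 0, cyc_mem 4 0 (by norm_num)⟩ * ⟨cyc 4 1, cyc_mem 4 1 (by norm_num)⟩

theorem s0_sq : s0 * s0 = 1 := by decide +kernel

theorem s0_ne : s0 ≠ 1 := by decide +kernel

theorem rho_s0_sq : rho D s0 * rho D s0 = 1 := by rw [← map_mul, s0_sq, map_one]

theorem rho_s0_ne : rho D s0 ≠ 1 := by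
  intro h
  exact s0_ne (rho_inj D (h.trans (map_one _).symm))

/-- the involutions of `LA` are of class 2A -/
theorem exists_conj_s0 : ∃ c, c * zA D * c⁻¹ = rho D s0 := by
  rcases inv_cases D _ (rho_s0_sq D) (rho_s0_ne D) with h | ⟨c, hc⟩
  · exact h
  · exfalso
    obtain ⟨k, rfl⟩ := D.surj c
    rw [rho_apply, wB, ← map_inv, ← map_mul, ← map_mul, pi_eq] at hc
    change φ ((k : H0) * g0 * (k : H0)⁻¹) = φ (psi s0) at hc
    have h1 : psi s0 * psi s0 = 1 := by rw [← map_mul, s0_sq, map_one]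
    have h2 : ((k : H0) * g0 * (k : H0)⁻¹) * ((k : H0) * g0 * (k : H0)⁻¹) = τ := by
      calc ((k : H0) * g0 * (k : H0)⁻¹) * ((k : H0) * g0 * (k : H0)⁻¹) = k * (g0 * g0) * (k : H0)⁻¹ := by group
        _ = τ := by rw [g0_sq, τ_comm, mul_inv_cancel_right]
    rcases φ_eq_iff.1 hc with h3 | h3
    · rw [h3, h1] at h2
      exact τ_ne_one h2.symm
    · rw [h3] at h2
      have h4 : psi s0 * τ * (psi s0 * τ) = psi s0 * psi s0 * (τ * τ) := by
        calc psi s0 * τ * (psi s0 * τ) = psi s0 * (τ * psi s0) * τ := by group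
          _ = _ := by rw [← τ_comm]; group
      rw [h4, h1, τ_mul_τ, one_mul] at h2
      exact τ_ne_one h2.symm

/-- `O(C(wB)) = 1` -/
theorem odd_B (I : Subgroup L) (hI : ∀ i ∈ I, i * wB D = wB D * i)
    (hn : ∀ c : L, c * wB D = wB D * c → ∀ i ∈ I, c * i * c⁻¹ ∈ I) (hodd : Odd (Nat.card I)) : I = ⊥ := by
  have := fin D
  rcases norm_cases D I hI hn with h | h
  · rw [eq_bot_iff]
    intro i hi
    rcases h i hi with h1 | h1
    · exact Subgroup.mem_bot.2 h1
    · rw [h1] at hi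
      exact absurd (odd_pow hodd hi (n := 1) (by rw [pow_one, pow_two, wB_sq])) (wB_ne D)
  · exfalso
    exact rho_s0_ne D (odd_pow hodd (h ⟨s0, rfl⟩) (n := 1) (by rw [pow_one, pow_two, rho_s0_sq]))

theorem cen_conj {x : L} (h : Cen x) (c : L) : Cen (c * x * c⁻¹) := by
  obtain ⟨S, hS⟩ := h
  refine ⟨c • S, ?_⟩
  rintro _ ⟨s, hs, rfl⟩
  change c * s * c⁻¹ * (c * x * c⁻¹) = c * x * c⁻¹ * (c * s * c⁻¹)
  calc c * s * c⁻¹ * (c * x * c⁻¹) = c * (s * x) * c⁻¹ := by group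
    _ = c * (x * s) * c⁻¹ := by rw [hS s hs]
    _ = _ := by group

/-- an involution which is not 2-central is conjugate to `wB` -/
theorem exists_conj_wB {w : L} (hw : w * w = 1) (hw1 : w ≠ 1) (h : ¬ Cen w) : ∃ c, c * wB D * c⁻¹ = w := by
  rcases inv_cases D w hw hw1 with ⟨c, rfl⟩ | h1
  · exact absurd (cen_conj (cen D) c) h
  · exact h1

/-- transport of a normal subgroup of `C(w)` -/
theorem move {w : L} {N : Subgroup L} {u c : L} (hc : c * u * c⁻¹ = w) (hN : ∀ n ∈ N, n * w = w * n)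
    (hn : ∀ d : L, d * w = w * d → ∀ n ∈ N, d * n * d⁻¹ ∈ N) :
    (∀ m ∈ N.comap (MulAut.conj c).toMonoidHom, m * u = u * m) ∧
    (∀ d : L, d * u = u * d → ∀ m ∈ N.comap (MulAut.conj c).toMonoidHom,
      d * m * d⁻¹ ∈ N.comap (MulAut.conj c).toMonoidHom) := by
  have key : ∀ m : L, (c * m * c⁻¹) * w = w * (c * m * c⁻¹) ↔ m * u = u * m := by
    intro m
    rw [← hc]
    have e1 : c * m * c⁻¹ * (c * u * c⁻¹) = c * (m * u) * c⁻¹ := by group
    have e2 : c * u * c⁻¹ * (c * m * c⁻¹) = c * (u * m) * c⁻¹ := by group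
    rw [e1, e2, mul_left_inj, mul_right_inj]
  refine ⟨fun m hm => (key m).1 (hN _ hm), fun d hd m hm => ?_⟩
  have h1 := hn (c * d * c⁻¹) ((key d).2 hd) _ hm
  have h2 : c * d * c⁻¹ * (MulAut.conj c).toMonoidHom m * (c * d * c⁻¹)⁻¹ =
      (MulAut.conj c).toMonoidHom (d * m * d⁻¹) := by
    change c * d * c⁻¹ * (c * m * c⁻¹) * (c * d * c⁻¹)⁻¹ = c * (d * m * d⁻¹) * c⁻¹
    group
  rw [h2] at h1
  exact h1

include D in
/-- `Bad` is impossible -/
theorem not_bad (w : L) (N : Subgroup L) : ¬ Bad w N := by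
  intro hN
  have := fin D
  obtain ⟨c, hc⟩ := exists_conj_wB D hN.sq hN.ne (hN.non w hN.mem hN.sq hN.ne)
  obtain ⟨h1, h2⟩ := move hc hN.le hN.norm
  rcases norm_cases D _ h1 h2 with h | h
  · -- `|N| ≤ 2`
    have h3 : ∀ n ∈ N, n = 1 ∨ n = w := by
      intro n hn
      have h4 : c⁻¹ * n * c ∈ N.comap (MulAut.conj c).toMonoidHom := by
        change c * (c⁻¹ * n * c) * c⁻¹ ∈ N
        have e : c * (c⁻¹ * n * c) * c⁻¹ = n := by group
        rwa [e]
      have e : n = c * (c⁻¹ * n * c) * c⁻¹ := by group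
      rcases h _ h4 with h5 | h5
      · left; rw [e, h5]; group
      · right; rw [e, h5, hc]
    have h4 : Nat.card N ≤ 2 := by
      have h5 : Nat.card N ≤ Nat.card ({1, w} : Set L) :=
        Nat.card_le_card_of_injective (fun n : N => (⟨n, h3 n n.2⟩ : ({1, w} : Set L)))
          (fun a b hab => Subtype.ext (Subtype.mk.inj hab))
      refine h5.trans ?_
      rw [Nat.card_coe_set_eq]
      exact (Set.ncard_insert_le _ _).trans (by rw [Set.ncard_singleton])
    have h5 := Nat.le_of_dvd Nat.card_pos hN.four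
    omega
  · obtain ⟨d, hd⟩ := exists_conj_s0 D
    have h3 : c * rho D s0 * c⁻¹ ∈ N := h ⟨s0, rfl⟩
    have hne : c * rho D s0 * c⁻¹ ≠ 1 := by
      intro h4
      apply rho_s0_ne D
      have e : rho D s0 = c⁻¹ * (c * rho D s0 * c⁻¹) * c := by group
      rw [e, h4]; group
    have hsq : (c * rho D s0 * c⁻¹) * (c * rho D s0 * c⁻¹) = 1 := by
      calc (c * rho D s0 * c⁻¹) * (c * rho D s0 * c⁻¹) = c * (rho D s0 * rho D s0) * c⁻¹ := by group
        _ = 1 := by rw [rho_s0_sq]; group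
    refine hN.non _ h3 hsq hne ?_
    rw [← hd]
    exact cen_conj (cen_conj (cen D) d) c

/-! ### outer involutions -/

theorem four_dvd {G : Type*} [Group G] [Finite G] (N : Subgroup G) {x y : G} (hx : x ∈ N) (hy : y ∈ N)
    (hxx : x * x = 1) (hyy : y * y = 1) (hxy : x * y = y * x) (h1 : x ≠ 1) (h2 : y ≠ 1) (h3 : x ≠ y) :
    4 ∣ Nat.card N := by
  have hxi : x⁻¹ = x := inv_eq_of_mul_eq_one_left hxx
  have hyi : y⁻¹ = y := inv_eq_of_mul_eq_one_left hyy
  let E : Subgroup G :=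
    { carrier := {g | g = 1 ∨ g = x ∨ g = y ∨ g = x * y}
      one_mem' := Or.inl rfl
      mul_mem' := by
        have e1 : x * (x * y) = y := by rw [← mul_assoc, hxx, one_mul]
        have e2 : y * (x * y) = x := by rw [← mul_assoc, ← hxy, mul_assoc, hyy, mul_one]
        have e3 : x * y * x = y := by rw [hxy, mul_assoc, hxx, mul_one]
        have e4 : x * y * y = x := by rw [mul_assoc, hyy, mul_one]
        have e5 : x * y * (x * y) = 1 := by rw [← mul_assoc, e3, hyy]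
        rintro a b (rfl | rfl | rfl | rfl) (rfl | rfl | rfl | rfl) <;>
          simp only [Set.mem_setOf_eq, one_mul, mul_one, hxx, hyy, e1, e2, e3, e4, e5, ← hxy, true_or, or_true]
      inv_mem' := by
        rintro a (rfl | rfl | rfl | rfl)
        · exact Or.inl inv_one
        · exact Or.inr (Or.inl hxi)
        · exact Or.inr (Or.inr (Or.inl hyi))
        · right; right; right
          rw [mul_inv_rev, hxi, hyi, hxy] }
  have hEN : E ≤ N := by
    rintro g (rfl | rfl | rfl | rfl)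
    · exact N.one_mem
    · exact hx
    · exact hy
    · exact N.mul_mem hx hy
  have hxy1 : x * y ≠ 1 := fun h => h3 (by rw [← hyi]; exact eq_inv_of_mul_eq_one_left h)
  have hxyx : x * y ≠ x := fun h => h2 (mul_eq_left.1 h)
  have hxyy : x * y ≠ y := fun h => h1 (mul_eq_right.1 h)
  have hE : Nat.card E = 4 := by
    have e : (E : Set G) = {1, x, y, x * y} := rfl
    change Nat.card (E : Set G) = 4
    rw [e, Nat.card_coe_set_eq, Set.ncard_insert_of_notMem, Set.ncard_insert_of_notMem, Set.ncard_pair]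
    · exact fun h => hxyy h.symm
    · rintro (h | h)
      · exact h3 h
      · exact hxyx h.symm
    · rintro (h | h | h)
      · exact h1 h.symm
      · exact h2 h.symm
      · exact hxy1 h.symm
  rw [← hE]
  exact Subgroup.card_dvd_of_le hEN

include D in
/-- **`out2`** -/
theorem out2 (α : MulAut L) (hα : ¬ Inn α) (w : L) (hww : w * w = 1) (hw1 : w ≠ 1) (hwc : ¬ Cen w)
    (hαw : α w = w) (hαc : ∀ c : L, c * w = w * c → α c = c ∨ α c = w * c)
    (N : Subgroup L) (hwN : w ∈ N) (hn : ∀ c : L, α c = c → ∀ n ∈ N, c * n * c⁻¹ ∈ N)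
    (h2 : Nat.card N % 4 = 2) : False := by
  have := fin D
  obtain ⟨c, hc⟩ := exists_conj_wB D hww hw1 hwc
  -- `β = c⁻¹ α c`
  let β : MulAut L := (MulAut.conj c)⁻¹ * α * MulAut.conj c
  have hβ : ∀ x, β x = c⁻¹ * α (c * x * c⁻¹) * c := by
    intro x
    change (MulAut.conj c)⁻¹ (α (MulAut.conj c x)) = _
    rw [MulAut.conj_inv_apply]
    rfl
  have hfix : ∀ x, β x = x ↔ α (c * x * c⁻¹) = c * x * c⁻¹ := by
    intro x
    rw [hβ]
    constructor
    · intro h
      have e : α (c * x * c⁻¹) = c * (c⁻¹ * α (c * x * c⁻¹) * c) * c⁻¹ := by group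
      rw [e, h]
    · intro h
      rw [h]; group
  obtain ⟨h, hh⟩ := D.au_surj β
  have hK : h ∉ K := by
    intro hK
    apply hα
    have h3 : β = MulAut.conj (D.π ⟨h, hK⟩) := by rw [← hh, ← D.au_K]
    refine ⟨c * D.π ⟨h, hK⟩ * c⁻¹, ?_⟩
    have h4 : α = MulAut.conj c * β * (MulAut.conj c)⁻¹ := by
      change α = MulAut.conj c * ((MulAut.conj c)⁻¹ * α * MulAut.conj c) * (MulAut.conj c)⁻¹
      group
    rw [h4, h3, map_mul, map_mul, map_inv]
  -- `β` centralises `LA`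
  have hv : ∀ i < 4, φ (h * hw (vw i)) = φ (hw (vw i) * h) := by
    intro i hi
    have h3 : β (D.π ⟨hw (vw i), vw_mem_K hi⟩) = D.π ⟨hw (vw i), vw_mem_K hi⟩ := by
      rw [hfix]
      have hvL : D.π ⟨hw (vw i), vw_mem_K hi⟩ ∈ LA D := ⟨_, rho_cyc D hi⟩
      have hv3 : (D.π ⟨hw (vw i), vw_mem_K hi⟩) ^ 3 = 1 := by
        rw [← map_pow, D.ker]
        exact Or.inl (TwoB.rel.cube i hi)
      generalize D.π ⟨hw (vw i), vw_mem_K hi⟩ = v at hvL hv3
      have hvw : (c * v * c⁻¹) * w = w * (c * v * c⁻¹) := by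
        rw [← hc]
        calc c * v * c⁻¹ * (c * wB D * c⁻¹) = c * (v * wB D) * c⁻¹ := by group
          _ = c * (wB D * v) * c⁻¹ := by rw [LA_comm D hvL]
          _ = _ := by group
      have hx3 : (c * v * c⁻¹) ^ 3 = 1 := by rw [conj_pow, hv3, mul_one, mul_inv_cancel]
      rcases hαc _ hvw with h4 | h4
      · exact h4
      · exfalso
        have h5 : (α (c * v * c⁻¹)) ^ 3 = 1 := by rw [← map_pow, hx3, map_one]
        have hcm : Commute w (c * v * c⁻¹) := hvw.symm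
        rw [h4, hcm.mul_pow, hx3, mul_one, pow_succ, pow_two, hww, one_mul] at h5
        exact hw1 h5
    rw [← hh, D.au_π, pi_eq] at h3
    change φ (h * hw (vw i) * h⁻¹) = φ (hw (vw i)) at h3
    rw [map_mul, map_inv, mul_inv_eq_iff_eq_mul] at h3
    rw [h3, map_mul]
  obtain ⟨e, he⟩ : ∃ e, φ h = φ (hw (ow e)) := by
    rcases cent_A6_odd hK hv with h3 | h3
    · exact ⟨false, h3.trans (by rw [← hw_z]; rfl)⟩
    · exact ⟨true, h3⟩
  -- the element `x`
  let x : L := D.π ⟨hw (xw e), xw_K e⟩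
  have hx : β x = x := by
    change β (D.π ⟨hw (xw e), xw_K e⟩) = D.π ⟨hw (xw e), xw_K e⟩
    rw [← hh, D.au_π, pi_eq]
    change φ (h * hw (xw e) * h⁻¹) = φ (hw (xw e))
    have h3 := xw_comm e
    rw [map_mul, map_mul] at h3
    rw [map_mul, map_mul, map_inv, he, h3, mul_inv_cancel_right]
  have hxg : x * wB D * x⁻¹ = D.π ⟨hw (gx0 e), by
      rw [hw_gx0]
      exact K.mul_mem (K.mul_mem (xw_K e) g0_mem_K) (K.inv_mem (xw_K e))⟩ := by
    change D.π ⟨hw (xw e), xw_K e⟩ * D.π ⟨g0, g0_mem_K⟩ * (D.π ⟨hw (xw e), xw_K e⟩)⁻¹ = _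
    rw [← map_inv, ← map_mul, ← map_mul, pi_eq]
    change φ (hw (xw e) * g0 * (hw (xw e))⁻¹) = φ (hw (gx0 e))
    rw [hw_gx0]
  have hne : x * wB D * x⁻¹ ≠ wB D := by
    rw [hxg, wB, Ne, pi_eq]
    exact gx0_ne e
  have hcomm : (x * wB D * x⁻¹) * wB D = wB D * (x * wB D * x⁻¹) := by
    rw [hxg, wB, ← map_mul, ← map_mul, pi_eq]
    exact gx0_comm e
  -- `w` and `y = w ^ x` in `N`
  let y : L := (c * x * c⁻¹) * w * (c * x * c⁻¹)⁻¹
  have hyN : y ∈ N := hn _ ((hfix x).1 hx) w hwN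
  have hyc : y = c * (x * wB D * x⁻¹) * c⁻¹ := by
    change (c * x * c⁻¹) * w * (c * x * c⁻¹)⁻¹ = _
    rw [← hc]; group
  have hyy : y * y = 1 := by
    change (c * x * c⁻¹) * w * (c * x * c⁻¹)⁻¹ * ((c * x * c⁻¹) * w * (c * x * c⁻¹)⁻¹) = 1
    calc (c * x * c⁻¹) * w * (c * x * c⁻¹)⁻¹ * ((c * x * c⁻¹) * w * (c * x * c⁻¹)⁻¹) =
        (c * x * c⁻¹) * (w * w) * (c * x * c⁻¹)⁻¹ := by group
      _ = 1 := by rw [hww]; group
  have hwy : w * y = y * w := by
    rw [hyc, ← hc]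
    calc c * wB D * c⁻¹ * (c * (x * wB D * x⁻¹) * c⁻¹) = c * (wB D * (x * wB D * x⁻¹)) * c⁻¹ := by group
      _ = c * ((x * wB D * x⁻¹) * wB D) * c⁻¹ := by rw [hcomm]
      _ = _ := by group
  have hy1 : y ≠ 1 := by
    intro h3
    apply hw1
    have e' : w = (c * x * c⁻¹)⁻¹ * y * (c * x * c⁻¹) := by
      change w = (c * x * c⁻¹)⁻¹ * ((c * x * c⁻¹) * w * (c * x * c⁻¹)⁻¹) * (c * x * c⁻¹)
      group
    rw [e', h3]; group
  have hwy' : w ≠ y := by
    intro h3
    apply hne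
    rw [hyc, ← hc, mul_left_inj, mul_right_inj] at h3
    exact h3.symm
  have h4 := four_dvd N hwN hyN hww hyy hwy hw1 hy1 hwy'
  omega

end

end Cfsg.Agent.KFacts.HS.DFour

private theorem dce_e7ad433ce45f : _root_.True := by
  try have : _root_.True := by simp only [_root_.Cfsg.Agent.KFacts.HS.DFour.LA.eq_1]
  try have : _root_.True := by simp only [_root_.Cfsg.Agent.KFacts.HS.DFour.oA.eq_1]
  try have : _root_.True := by simp only [_root_.Cfsg.Agent.KFacts.HS.DFour.zA.eq_1]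
  try have : _root_.True := by simp only [_root_.Cfsg.Agent.KFacts.HS.DFour.gx0.eq_1]
  try have : _root_.True := by simp only [_root_.Cfsg.Agent.KFacts.HS.DFour.aa.eq_1]
  try have : _root_.True := by simp only [_root_.Cfsg.Agent.KFacts.HS.DFour.wB.eq_1]
  try have : _root_.True := by simp only [_root_.Cfsg.Agent.HN.CentUp2.zc.eq_1]
  exact _root_.True.intro
end

-- part: OddHalf/D4/Spor/HS
section
set_option linter.all false
open scoped Cfsg.Agent.FastGrp

set_option autoImplicit false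

/-!
# ODD half, D4: the sheet of `HS` (helper937)
-/

namespace Cfsg.Agent.OddHalf.D4.Spor.HS

open Cfsg.Agent Cfsg.Agent.KFacts.HS

/-- transport of balance -/
theorem bal_move {L : Type*} [Group L] {u a c : L} (hc : c * u * c⁻¹ = a)
    (h : ∀ I : Subgroup L, (∀ i ∈ I, i * u = u * i) → (∀ d : L, d * u = u * d → ∀ i ∈ I, d * i * d⁻¹ ∈ I) →
      Odd (Nat.card ↥I) → I = ⊥)
    (I : Subgroup L) (hI : ∀ i ∈ I, i * a = a * i) (hn : ∀ d : L, d * a = a * d → ∀ i ∈ I, d * i * d⁻¹ ∈ I)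
    (hodd : Odd (Nat.card ↥I)) : I = ⊥ := by
  obtain ⟨h1, h2⟩ := DFour.move hc hI hn
  have hcard : Nat.card ↥(I.comap (MulAut.conj c).toMonoidHom) = Nat.card ↥I := by
    refine Nat.card_congr (Equiv.ofBijective
      (fun m => (⟨(MulAut.conj c).toMonoidHom (m : L), m.2⟩ : I)) ⟨?_, ?_⟩)
    · intro x y hxy
      apply Subtype.ext
      exact (MulAut.conj c).injective (congrArg Subtype.val hxy)
    · rintro ⟨y, hy⟩
      have e : (MulAut.conj c).toMonoidHom (c⁻¹ * y * c) = y := by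
        change c * (c⁻¹ * y * c) * c⁻¹ = y
        group
      refine ⟨⟨c⁻¹ * y * c, ?_⟩, Subtype.ext e⟩
      rw [Subgroup.mem_comap, e]
      exact hy
  have h3 := h _ h1 h2 (by rw [hcard]; exact hodd)
  rw [eq_bot_iff]
  intro i hi
  have e : c * (c⁻¹ * i * c) * c⁻¹ = i := by group
  have h4 : c⁻¹ * i * c ∈ I.comap (MulAut.conj c).toMonoidHom := by
    change c * (c⁻¹ * i * c) * c⁻¹ ∈ I
    rwa [e]
  rw [h3, Subgroup.mem_bot] at h4
  rw [Subgroup.mem_bot, ← e, h4]
  group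

/-- perfect groups of automorphisms are inner -/
theorem schreier {L : Type*} [Group L] (D : KFacts.HS.Mod L) (P : Subgroup (MulAut L)) (hP : ⁅P, P⁆ = P) :
    P ≤ (MulAut.conj : L →* MulAut L).range := by
  obtain ⟨s, hs⟩ := D.exists_sign
  intro α hα
  have h1 : P ≤ s.ker := by
    conv_lhs => rw [← hP]
    rw [Subgroup.commutator_le]
    intro x _ y _
    rw [MonoidHom.mem_ker, map_commutatorElement, commutatorElement_eq_one_iff_mul_comm]
    exact mul_comm _ _
  obtain ⟨h, rfl⟩ := D.au_surj α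
  have h2 := h1 hα
  rw [MonoidHom.mem_ker, hs] at h2
  exact D.au_mem_inner.2 h2

/-- **the sheet of `HS`** -/
theorem sheet {L : Type*} [Group L] (h : Cfsg.Spor.IsoHS L) : Sheet L := by
  obtain ⟨D⟩ := exists_mod h
  have := DFour.fin D
  exact
  { out := by rw [D.index_inn]; omega
    schreier := schreier D
    sylAut := fun S α _ hα => DFour.sylAut D S α hα
    z1 := fun S x hx hxx hx1 hxc y hy hyy hy1 hyc => DFour.z1 D S x hx hxx hx1 hxc y hy hyy hy1 hyc
    bal := fun a ha ha1 I hI hn hodd => by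
      rcases DFour.inv_cases D a ha ha1 with ⟨c, hc⟩ | ⟨c, hc⟩
      · exact bal_move hc (DFour.odd_A D) I hI hn hodd
      · exact bal_move hc (DFour.odd_B D) I hI hn hodd
    out2 := fun α hα _ w hw hw1 hwc hαw hαc N hwN _ hn h2 =>
      DFour.out2 D α hα w hw hw1 hwc hαw hαc N hwN hn h2
    tab := tab_of_not_bad (DFour.not_bad D) }

end Cfsg.Agent.OddHalf.D4.Spor.HS
end
end
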