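import Cfsg.Agent.HN.XMatChk
import Cfsg.Agent.HN.Syl
import Cfsg.Agent.HN.CentUp
import Cfsg.Prelude.Def_Spor_Conway
import Cfsg.Agent.HN.AutHS
import Cfsg.Agent.HN.AutBound
import Cfsg.Agent.HN.DoubleCover
set_option linter.all false

-- part: HN/WMask
section
set_option autoImplicit false

/-!
The group `W` of order `2 ^ 8`, normal in `C(b)`, `b = a τ`, in `H0 = 2.HS.2`: words for a basis of `W/⟨b⟩`, masks
`m < 128`, and the `120 * 128 * 2` elements of `C(b)`.
-/

namespace Cfsg.Agent.HN.WMask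

open Cfsg.Agent.HN.Pres Cfsg.Agent.HN.HS100 Cfsg.Agent.HN.P1408 Cfsg.Agent.HN.H0Basic Cfsg.Agent.HN.XMat
open Cfsg.Agent.SporadicA.PermTab (band band_eq_true allB allB_iff)

/-! ### words -/

/-- the word of `b` -/
def bw : List ℕ := [2, 2, 2, 0, 0]

/-- the basis of `W/⟨b⟩` -/
def qw (i : ℕ) : List ℕ :=
  match i with
  | 0 => [0, 0]
  | 1 => [0, 4, 2, 2, 2, 4, 1]
  | 2 => [4, 2, 2, 2, 4, 3, 3, 3, 4]
  | 3 => [0, 3, 0, 2, 2, 2, 2, 4, 2, 4, 3, 3, 1, 3, 4]
  | 4 => [4, 2, 2, 0, 2, 2, 4, 2, 2, 2, 4, 3, 3, 1, 3, 3, 4]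
  | 5 => [4, 3, 0, 2, 2, 0, 4, 2, 2, 4, 3, 3, 4, 1, 3, 3, 1, 2, 4]
  | 6 => [4, 2, 0, 2, 0, 2, 4, 2, 2, 4, 3, 3, 4, 3, 1, 3, 1, 3, 4]
  | _ => []

/-- generators of `C(b)` modulo `W` -/
def gw (g : ℕ) : List ℕ :=
  match g with
  | 0 => [2]
  | _ => [4, 2, 4, 2, 2, 0, 2, 0, 2, 2, 4, 3, 1, 3, 3, 4]

/-- word of the mask `m` (partial) -/
def rwn (m n : ℕ) : List ℕ := Nat.rec [] (fun i acc => acc ++ (bif m.testBit i then qw i else [])) n

/-- word of the mask `m` -/
def rmw (m : ℕ) : List ℕ := rwn m 7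

/-- word of a word in the generators -/
def ew (w : List ℕ) : List ℕ := List.rec [] (fun g _ ih => gw g ++ ih) w

/-- equality up to `b` -/
def eqb (u v : List ℕ) : Bool := bif eqw u v then true else eqw u (v ++ bw)

/-- the element `b` -/
def b : H0 := hw bw

/-- the sign -/
def sg (e : Bool) : H0 := bif e then b else 1

theorem b_eq : b = Syl.a * τ := by
  rw [← Syl.hw_a, ← hw_τ, ← hw_append]
  rfl

theorem b_sq : b * b = 1 := by
  rw [b, ← hw_append, ← hw_nil]
  exact hw_eq (by decide +kernel)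

theorem b_ne : b ≠ 1 := by
  rw [b, ← hw_nil]
  exact hw_ne (p := 0) (by decide) (by decide) (by norm_num) (by decide +kernel)

theorem b_inv : b⁻¹ = b := by rw [inv_eq_iff_mul_eq_one, b_sq]

theorem sg_mul (e e' : Bool) : sg e * sg e' = sg (e ^^ e') := by
  cases e <;> cases e'
  · exact one_mul _
  · exact one_mul _
  · exact mul_one _
  · exact b_sq

theorem sg_comm {g : H0} (h : b * g = g * b) (e : Bool) : sg e * g = g * sg e := by
  cases e
  · exact (one_mul _).trans (mul_one _).symm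
  · exact h

theorem eqb_spec {u v : List ℕ} (h : eqb u v = true) : ∃ e, hw u = hw v * sg e := by
  unfold eqb at h
  cases h1 : eqw u v with
  | true => exact ⟨false, by rw [hw_eq h1]; exact (mul_one _).symm⟩
  | false =>
    rw [h1] at h
    exact ⟨true, by rw [hw_eq h, hw_append]; rfl⟩

/-- the element of mask `m` -/
def R (m : ℕ) : H0 := hw (rmw m)

/-- basis -/
def q (i : ℕ) : H0 := hw (qw i)

/-- partial product -/
def rr (m n : ℕ) : H0 := hw (rwn m n)

theorem rr_zero (m : ℕ) : rr m 0 = 1 := rfl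

theorem rr_succ (m n : ℕ) : rr m (n + 1) = rr m n * (bif m.testBit n then q n else 1) := by
  have h : rwn m (n + 1) = rwn m n ++ (bif m.testBit n then qw n else []) := rfl
  rw [rr, h, hw_append]
  cases m.testBit n <;> rfl

theorem chk_sq : allB (fun i => eqw (qw i ++ qw i) []) 7 = true := by decide +kernel

theorem q_sq {i : ℕ} (hi : i < 7) : q i * q i = 1 := by
  rw [q, ← hw_append, ← hw_nil]
  exact hw_eq ((allB_iff _ _).1 chk_sq i hi)

theorem chk_cb : allB (fun i => eqw (bw ++ qw i) (qw i ++ bw)) 7 = true := by decide +kernel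

theorem q_b {i : ℕ} (hi : i < 7) : b * q i = q i * b := by
  rw [b, q, ← hw_append, ← hw_append]
  exact hw_eq ((allB_iff _ _).1 chk_cb i hi)

theorem chk_comm : allB (fun i => allB (fun j => eqb (qw i ++ qw j) (qw j ++ qw i)) 7) 7 = true := by
  decide +kernel

theorem q_comm {i j : ℕ} (hi : i < 7) (hj : j < 7) : ∃ e, q i * q j = q j * q i * sg e := by
  have h := eqb_spec ((allB_iff _ _).1 ((allB_iff _ _).1 chk_comm i hi) j hj)
  rwa [hw_append, hw_append] at h

theorem rr_b (m : ℕ) {n : ℕ} (hn : n ≤ 7) : b * rr m n = rr m n * b := by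
  induction n with
  | zero => rw [rr_zero, one_mul, mul_one]
  | succ n ih =>
    rw [rr_succ]
    cases m.testBit n
    · simp only [cond_false, mul_one]
      exact ih (by omega)
    · simp only [cond_true]
      rw [← mul_assoc, ih (by omega), mul_assoc, q_b (by omega), mul_assoc]

theorem rr_q {m n i : ℕ} (hn : n ≤ 7) (hi : i < 7) : ∃ e, q i * rr m n = rr m n * q i * sg e := by
  induction n with
  | zero => exact ⟨false, by rw [rr_zero]; simp [sg]⟩
  | succ n ih =>
    obtain ⟨e, he⟩ := ih (by omega)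
    rw [rr_succ]
    cases m.testBit n
    · simp only [cond_false, mul_one]
      exact ⟨e, he⟩
    · simp only [cond_true]
      obtain ⟨e', he'⟩ := q_comm (i := i) (j := n) hi (by omega)
      refine ⟨e' ^^ e, ?_⟩
      calc q i * (rr m n * q n) = (q i * rr m n) * q n := by rw [mul_assoc]
        _ = rr m n * q i * (sg e * q n) := by rw [he]; group
        _ = rr m n * (q i * q n) * sg e := by rw [sg_comm (q_b (by omega))]; group
        _ = rr m n * q n * q i * (sg e' * sg e) := by rw [he']; group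
        _ = _ := by rw [sg_mul]

theorem rr_xor {m m' n : ℕ} (hn : n ≤ 7) : ∃ e, rr m n * rr m' n = rr (m ^^^ m') n * sg e := by
  induction n with
  | zero => exact ⟨false, by rw [rr_zero, rr_zero, rr_zero]; simp [sg]⟩
  | succ n ih =>
    obtain ⟨e, he⟩ := ih (by omega)
    obtain ⟨e', he'⟩ := rr_q (m := m') (n := n) (i := n) (by omega) (by omega)
    rw [rr_succ, rr_succ, rr_succ, Nat.testBit_xor]
    have hs := q_sq (i := n) (by omega)
    have hc : ∀ e, sg e * q n = q n * sg e := sg_comm (q_b (by omega))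
    rcases m.testBit n with _ | _ <;> rcases m'.testBit n with _ | _
    · exact ⟨e, by simpa using he⟩
    · refine ⟨e, ?_⟩
      simp only [cond_false, cond_true, mul_one, Bool.false_bne]
      rw [← mul_assoc, he, mul_assoc, hc, mul_assoc]
    · refine ⟨e ^^ e', ?_⟩
      simp only [cond_false, cond_true, mul_one, Bool.true_bne, Bool.not_false]
      calc rr m n * q n * rr m' n = rr m n * (q n * rr m' n) := by rw [mul_assoc]
        _ = (rr m n * rr m' n) * (q n * sg e') := by rw [he']; group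
        _ = rr (m ^^^ m') n * (sg e * q n) * sg e' := by rw [he]; group
        _ = rr (m ^^^ m') n * q n * (sg e * sg e') := by rw [hc]; group
        _ = _ := by rw [sg_mul]
    · refine ⟨e ^^ e', ?_⟩
      simp only [cond_false, cond_true, mul_one, Bool.true_bne, Bool.not_true]
      calc rr m n * q n * (rr m' n * q n) = rr m n * (q n * rr m' n) * q n := by group
        _ = (rr m n * rr m' n) * (q n * (sg e' * q n)) := by rw [he']; group
        _ = (rr m n * rr m' n) * (q n * q n) * sg e' := by rw [hc]; group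
        _ = rr (m ^^^ m') n * (sg e * sg e') := by rw [hs, mul_one, he]; group
        _ = _ := by rw [sg_mul]

theorem R_mul (m m' : ℕ) : ∃ e, R m * R m' = R (m ^^^ m') * sg e := rr_xor (n := 7) le_rfl

theorem R_b (m : ℕ) : b * R m = R m * b := rr_b m le_rfl

theorem R_sg (m : ℕ) (e : Bool) : sg e * R m = R m * sg e := sg_comm (R_b m) e

theorem R_zero : R 0 = 1 := rfl

theorem R_sq (m : ℕ) : ∃ e, R m * R m = sg e := by
  obtain ⟨e, he⟩ := R_mul m m
  exact ⟨e, by rw [he, Nat.xor_self, R_zero, one_mul]⟩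

theorem R_one : R 1 = τ := by
  rw [← hw_τ]
  exact hw_eq (by decide +kernel)

/-- the masks are faithful -/
def chk1 (m : ℕ) : Bool :=
  bif Nat.beq m 0 then true else bif eqw (rmw m) [] then false else bif eqw (rmw m) bw then false else okw (rmw m)

theorem chk_inj : allB chk1 128 = true := by decide +kernel

theorem okw_rmw {m : ℕ} (hm : m < 128) : okw (rmw m) = true := by
  have h := (allB_iff _ _).1 chk_inj m hm
  unfold chk1 at h
  cases h0 : Nat.beq m 0
  · rw [h0] at h
    cases h1 : eqw (rmw m) []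
    · rw [h1] at h
      cases h2 : eqw (rmw m) bw
      · rw [h2] at h; exact h
      · rw [h2] at h; exact (Bool.false_ne_true h).elim
    · rw [h1] at h; exact (Bool.false_ne_true h).elim
  · have := Nat.eq_of_beq_eq_true h0
    subst this
    rfl

theorem eq_zero_of_R {m : ℕ} (hm : m < 128) {e : Bool} (h : R m = sg e) : m = 0 := by
  by_contra hne
  have h1 := (allB_iff _ _).1 chk_inj m hm
  unfold chk1 at h1
  have h0 : Nat.beq m 0 = false := by
    rw [Bool.eq_false_iff]
    intro h2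
    exact hne (Nat.eq_of_beq_eq_true h2)
  rw [h0] at h1
  have hok := okw_rmw hm
  cases e
  · have h2 : eqw (rmw m) [] = true := eqw_of_hw_eq hok rfl h
    rw [h2] at h1
    exact (Bool.false_ne_true h1).elim
  · have h2 : eqw (rmw m) bw = true := eqw_of_hw_eq hok (by decide) h
    cases h3 : eqw (rmw m) []
    · rw [h3, h2] at h1
      exact (Bool.false_ne_true h1).elim
    · rw [h3] at h1
      exact (Bool.false_ne_true h1).elim

theorem sg_inj {e e' : Bool} (h : sg e = sg e') : e = e' := by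
  cases e <;> cases e'
  · rfl
  · exact absurd h.symm b_ne
  · exact absurd h b_ne
  · rfl

theorem R_inj {m m' : ℕ} (hm : m < 128) (hm' : m' < 128) {e e' : Bool} (h : R m * sg e = R m' * sg e') :
    m = m' ∧ e = e' := by
  obtain ⟨e1, h1⟩ := R_mul m m'
  obtain ⟨e2, h2⟩ := R_sq m'
  have h3 : R (m ^^^ m') = sg (((e' ^^ e) ^^ e2) ^^ e1) := by
    have h4 : R m = R m' * (sg e' * sg e) := by
      rw [← mul_assoc, ← h, mul_assoc, sg_mul, Bool.xor_self]
      exact (mul_one _).symm
    have h5 : R (m ^^^ m') = R m * R m' * sg e1 := by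
      rw [h1, mul_assoc, sg_mul, Bool.xor_self]
      exact (mul_one _).symm
    rw [h5, h4, sg_mul, mul_assoc (R m'), R_sg, ← mul_assoc, h2, sg_mul, sg_mul]
    congr 1
    cases e <;> cases e' <;> cases e2 <;> cases e1 <;> rfl
  have h4 := eq_zero_of_R (Nat.xor_lt_two_pow (n := 7) hm hm') h3
  have h5 := Nat.xor_eq_zero_iff.1 h4
  subst h5
  exact ⟨rfl, sg_inj (mul_left_cancel h)⟩

/-! ### the action of the generators -/

/-- image of a mask under a generator -/
def ap (g m : ℕ) : ℕ := appn (gen g) m 7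

theorem chk_act : allB (fun g => allB (fun m => band (Nat.blt (ap g m) 128)
    (eqb (rmw m ++ gw g) (gw g ++ rmw (ap g m)))) 128) 2 = true := by decide +kernel

theorem ap_lt {g m : ℕ} (hg : g < 2) (hm : m < 128) : ap g m < 128 := by
  have h := (allB_iff _ _).1 ((allB_iff _ _).1 chk_act g hg) m hm
  rw [band_eq_true] at h
  exact Nat.blt_eq ▸ h.1

theorem act_gw {g m : ℕ} (hg : g < 2) (hm : m < 128) :
    ∃ e, R m * hw (gw g) = hw (gw g) * (R (ap g m) * sg e) := by
  have h := (allB_iff _ _).1 ((allB_iff _ _).1 chk_act g hg) m hm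
  rw [band_eq_true] at h
  obtain ⟨e, he⟩ := eqb_spec h.2
  rw [hw_append, hw_append, mul_assoc] at he
  exact ⟨e, he⟩

theorem chk_gb : allB (fun g => eqw (bw ++ gw g) (gw g ++ bw)) 2 = true := by decide +kernel

theorem gw_b {g : ℕ} (hg : g < 2) : b * hw (gw g) = hw (gw g) * b := by
  rw [b, ← hw_append, ← hw_append]
  exact hw_eq ((allB_iff _ _).1 chk_gb g hg)

/-- the element of a word -/
def E (w : List ℕ) : H0 := hw (ew w)

theorem E_nil : E [] = 1 := rfl

theorem E_cons (g : ℕ) (w : List ℕ) : E (g :: w) = hw (gw g) * E w := hw_append _ _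

/-- action of a word on masks -/
def fw (w : List ℕ) : ℕ → ℕ := List.rec (fun m => m) (fun g _ ih m => ih (ap g m)) w

theorem fw_nil (m : ℕ) : fw [] m = m := rfl

theorem fw_cons (g : ℕ) (w : List ℕ) (m : ℕ) : fw (g :: w) m = fw w (ap g m) := rfl

theorem E_b {w : List ℕ} (hw2 : ∀ g ∈ w, g < 2) : b * E w = E w * b := by
  induction w with
  | nil => rw [E_nil, one_mul, mul_one]
  | cons g w ih =>
    rw [E_cons, ← mul_assoc, gw_b (hw2 g (by simp)), mul_assoc, ih (fun g' hg' => hw2 g' (by simp [hg'])),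
      mul_assoc]

theorem fw_lt {w : List ℕ} (hw2 : ∀ g ∈ w, g < 2) {m : ℕ} (hm : m < 128) : fw w m < 128 := by
  induction w generalizing m with
  | nil => exact hm
  | cons g w ih =>
    rw [fw_cons]
    exact ih (fun g' hg' => hw2 g' (by simp [hg'])) (ap_lt (hw2 g (by simp)) hm)

theorem act_E {w : List ℕ} (hw2 : ∀ g ∈ w, g < 2) {m : ℕ} (hm : m < 128) :
    ∃ e, R m * E w = E w * (R (fw w m) * sg e) := by
  induction w generalizing m with
  | nil => exact ⟨false, by rw [E_nil, fw_nil]; simp [sg]⟩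
  | cons g w ih =>
    have hg : g < 2 := hw2 g (by simp)
    have hw3 : ∀ g ∈ w, g < 2 := fun g' hg' => hw2 g' (by simp [hg'])
    obtain ⟨e, he⟩ := act_gw hg hm
    obtain ⟨e', he'⟩ := ih hw3 (ap_lt hg hm)
    refine ⟨e' ^^ e, ?_⟩
    rw [E_cons, fw_cons]
    calc R m * (hw (gw g) * E w) = (R m * hw (gw g)) * E w := by rw [mul_assoc]
      _ = hw (gw g) * (R (ap g m) * (sg e * E w)) := by rw [he]; group
      _ = hw (gw g) * ((R (ap g m) * E w) * sg e) := by rw [sg_comm (E_b hw3)]; group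
      _ = hw (gw g) * E w * (R (fw w (ap g m)) * (sg e' * sg e)) := by rw [he']; group
      _ = _ := by rw [sg_mul]

/-! ### the elements of `C(b)` -/

theorem S5_lt {w : List ℕ} (h : w ∈ S5W) : ∀ g ∈ w, g < 2 := by
  have h1 : S5W.all (fun w => w.all (fun g => Nat.blt g 2)) = true := by decide +kernel
  intro g hg
  have h2 := List.all_eq_true.1 (List.all_eq_true.1 h1 w h) g hg
  exact Nat.blt_eq ▸ h2

/-- key of the action of a word -/
def key (w : List ℕ) : ℕ :=
  Nat.rec 0 (fun i acc => Nat.add (Nat.mul 128 acc) (fw w (2 ^ i))) 7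

theorem nodup_key : (S5W.map key).Nodup := by decide +kernel

theorem key_congr {w w' : List ℕ} (h : ∀ i < 7, fw w (2 ^ i) = fw w' (2 ^ i)) : key w = key w' := by
  have : ∀ n ≤ 7, (Nat.rec 0 (fun i acc => Nat.add (Nat.mul 128 acc) (fw w (2 ^ i))) n : ℕ) =
      Nat.rec 0 (fun i acc => Nat.add (Nat.mul 128 acc) (fw w' (2 ^ i))) n := by
    intro n hn
    induction n with
    | zero => rfl
    | succ n ih =>
      change Nat.add (Nat.mul 128 _) (fw w (2 ^ n)) = Nat.add (Nat.mul 128 _) (fw w' (2 ^ n))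
      rw [ih (by omega), h n (by omega)]
  exact this 7 le_rfl

theorem key_inj {w w' : List ℕ} (hw : w ∈ S5W) (hw' : w' ∈ S5W) (h : key w = key w') : w = w' :=
  List.inj_on_of_nodup_map nodup_key hw hw' h

/-- general element of `C(b)` -/
def el (m : ℕ) (w : List ℕ) (e : Bool) : H0 := R m * E w * sg e

theorem act_el {m m' : ℕ} {w : List ℕ} {e : Bool} (hw2 : ∀ g ∈ w, g < 2) (hm' : m' < 128) :
    ∃ e', R m' * el m w e = el m w e * (R (fw w m') * sg e') := by
  obtain ⟨e1, h1⟩ := R_mul m' m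
  obtain ⟨e2, h2⟩ := R_mul m m'
  obtain ⟨e3, h3⟩ := act_E hw2 hm'
  refine ⟨(e1 ^^ e2) ^^ e3, ?_⟩
  have h4 : R m' * R m = R m * R m' * (sg e1 * sg e2) := by
    rw [h1, h2, Nat.xor_comm m' m, sg_mul, mul_assoc, sg_mul]
    congr 2
    cases e1 <;> cases e2 <;> rfl
  unfold el
  calc R m' * (R m * E w * sg e) = (R m' * R m) * E w * sg e := by group
    _ = R m * R m' * (sg (e1 ^^ e2) * E w) * sg e := by rw [h4, sg_mul]; group
    _ = R m * (R m' * E w) * (sg (e1 ^^ e2) * sg e) := by rw [sg_comm (E_b hw2)]; group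
    _ = R m * E w * (R (fw w m') * (sg e3 * sg (e1 ^^ e2) * sg e)) := by rw [h3]; group
    _ = R m * E w * (R (fw w m') * (sg e * sg ((e1 ^^ e2) ^^ e3))) := by
        rw [sg_mul, sg_mul, sg_mul]
        congr 3
        cases e <;> cases e1 <;> cases e2 <;> cases e3 <;> rfl
    _ = R m * E w * ((R (fw w m') * sg e) * sg ((e1 ^^ e2) ^^ e3)) := by rw [mul_assoc (R (fw w m'))]
    _ = R m * E w * sg e * (R (fw w m') * sg ((e1 ^^ e2) ^^ e3)) := by rw [← R_sg]; group

theorem el_inj {m m' : ℕ} {w w' : List ℕ} {e e' : Bool} (hm : m < 128) (hm' : m' < 128) (hw1 : w ∈ S5W)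
    (hw1' : w' ∈ S5W) (h : el m w e = el m' w' e') : m = m' ∧ w = w' ∧ e = e' := by
  have h1 : w = w' := by
    apply key_inj hw1 hw1'
    apply key_congr
    intro i hi
    have hi2 : 2 ^ i < 128 := by
      calc 2 ^ i < 2 ^ 7 := Nat.pow_lt_pow_right (by norm_num) hi
        _ = 128 := by norm_num
    obtain ⟨e1, h1⟩ := act_el (m := m) (w := w) (e := e) (S5_lt hw1) hi2
    obtain ⟨e2, h2⟩ := act_el (m := m') (w := w') (e := e') (S5_lt hw1') hi2
    rw [h, h2] at h1
    exact (R_inj (fw_lt (S5_lt hw1') hi2) (fw_lt (S5_lt hw1) hi2) (mul_left_cancel h1)).1.symm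
  subst h1
  have h2 : R m * sg e = R m' * sg e' := by
    have h3 : R m * sg e * E w = R m' * sg e' * E w := by
      rw [mul_assoc, sg_comm (E_b (S5_lt hw1)), mul_assoc (R m'), sg_comm (E_b (S5_lt hw1)), ← mul_assoc,
        ← mul_assoc]
      exact h
    exact mul_right_cancel h3
  obtain ⟨h3, h4⟩ := R_inj hm hm' h2
  exact ⟨h3, rfl, h4⟩

theorem el_b (m : ℕ) {w : List ℕ} (hw1 : w ∈ S5W) (e : Bool) : b * el m w e = el m w e * b := by
  have h1 : b * sg e = sg e * b := by
    cases e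
    · exact (mul_one _).trans (one_mul _).symm
    · rfl
  unfold el
  rw [← mul_assoc, ← mul_assoc, R_b, mul_assoc (R m), E_b (S5_lt hw1), mul_assoc, mul_assoc (E w), h1]
  group

/-- **the elements of `C(b)`**. -/
theorem cent_b {h : H0} (hh : b * h = h * b) : ∃ m < 128, ∃ w ∈ S5W, ∃ e, h = el m w e := by
  classical
  have := finite_H0
  let A := (Subgroup.centralizer ({Syl.a * τ} : Set H0))
  have l120 : S5W.length = 120 := by decide +kernel
  have hmem : ∀ (m : ℕ) (w : List ℕ) (e : Bool), w ∈ S5W → el m w e ∈ A := by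
    intro m w e hw1
    rw [Subgroup.mem_centralizer_singleton_iff, ← b_eq]
    exact (el_b m hw1 e).symm
  let F : Fin 128 × Fin S5W.length × Bool → A := fun p =>
    ⟨el p.1 (S5W.get p.2.1) p.2.2, hmem _ _ _ (List.get_mem _ _)⟩
  have hinj : Function.Injective F := by
    rintro ⟨m, w, e⟩ ⟨m', w', e'⟩ h1
    have h2 : el m (S5W.get w) e = el m' (S5W.get w') e' := congrArg Subtype.val h1
    obtain ⟨h3, h4, h5⟩ := el_inj m.2 m'.2 (List.get_mem _ _) (List.get_mem _ _) h2
    have hnd : S5W.Nodup := List.Nodup.of_map _ nodup_key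
    have h6 : w = w' := (List.nodup_iff_injective_get.1 hnd) h4
    rw [Fin.ext h3, h6, h5]
  have hA : Nat.card A = 30720 := CentUp.card_centralizer_aτ
  have hc : Nat.card A ≤ Nat.card (Fin 128 × Fin S5W.length × Bool) := by
    rw [hA, Nat.card_prod, Nat.card_prod, Nat.card_fin, Nat.card_fin, l120, Nat.card_eq_fintype_card,
      Fintype.card_bool]
  have hbij := hinj.bijective_of_nat_card_le hc
  obtain ⟨⟨m, w, e⟩, h1⟩ := hbij.2 ⟨h, by
    rw [Subgroup.mem_centralizer_singleton_iff, ← b_eq]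
    exact hh.symm⟩
  exact ⟨m, m.2, S5W.get w, List.get_mem _ _, e, (congrArg Subtype.val h1).symm⟩

end Cfsg.Agent.HN.WMask
end

-- part: KFacts/HS/Base
section
set_option autoImplicit false

/-!
# Facts on the Higman–Sims group: the model

`H0 = 2.HS.2`, `K ≤ H0` the even part `2.HS`, `τ` the central involution. For every group `L` isomorphic to `HS`:
a surjection `π : K →* L` with kernel `{1, τ}` and a surjection `au : H0 →* MulAut L` with kernel `{1, τ}`,
`au h (π k) = π (h k h⁻¹)`.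
-/

namespace Cfsg.Agent.KFacts.HS

open Cfsg.Agent.HN Cfsg.Agent.HN.Pres Cfsg.Agent.HN.HS100 Cfsg.Agent.HN.H0Basic Cfsg.Agent.HN.SrgHS
open Cfsg.Agent.HN.DoubleCover Equiv

instance : K.Normal := by
  unfold K
  infer_instance

theorem conj_mem (h : H0) (k : K) : h * k * h⁻¹ ∈ K := Subgroup.Normal.conj_mem inferInstance _ k.2 h

/-- the model of a group isomorphic to `HS` -/
structure Mod (L : Type*) [Group L] where
  π : K →* L
  surj : Function.Surjective π
  ker : ∀ k : K, π k = 1 ↔ (k : H0) = 1 ∨ (k : H0) = τ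
  au : H0 →* MulAut L
  au_π : ∀ (h : H0) (k : K), au h (π k) = π ⟨h * k * h⁻¹, conj_mem h k⟩
  au_surj : Function.Surjective au
  au_ker : ∀ h, au h = 1 ↔ h = 1 ∨ h = τ

theorem conj_mem_Q (h : H0) {q : Perm (Fin 100)} (hq : q ∈ Q) : φ h * q * (φ h)⁻¹ ∈ Q := by
  obtain ⟨k, hk, rfl⟩ := hq
  exact ⟨h * k * h⁻¹, conj_mem h ⟨k, hk⟩, by rw [map_mul, map_mul, map_inv]⟩

/-- the action of `H0` on `Q` -/
def auQ : H0 →* MulAut Q where
  toFun h :=
    { toFun := fun q => ⟨φ h * q * (φ h)⁻¹, conj_mem_Q h q.2⟩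
      invFun := fun q => ⟨φ h⁻¹ * q * (φ h⁻¹)⁻¹, conj_mem_Q h⁻¹ q.2⟩
      left_inv := fun q => Subtype.ext (by
        change φ h⁻¹ * (φ h * q * (φ h)⁻¹) * (φ h⁻¹)⁻¹ = q
        rw [map_inv]; group)
      right_inv := fun q => Subtype.ext (by
        change φ h * (φ h⁻¹ * q * (φ h⁻¹)⁻¹) * (φ h)⁻¹ = q
        rw [map_inv]; group)
      map_mul' := fun q r => Subtype.ext (by
        change φ h * (q * r) * (φ h)⁻¹ = φ h * q * (φ h)⁻¹ * (φ h * r * (φ h)⁻¹)
        group) }
  map_one' := by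
    ext q : 2
    change φ 1 * q * (φ 1)⁻¹ = q
    rw [map_one, one_mul, inv_one, mul_one]
  map_mul' h k := by
    ext q : 2
    change φ (h * k) * q * (φ (h * k))⁻¹ = φ h * (φ k * q * (φ k)⁻¹) * (φ h)⁻¹
    rw [map_mul, mul_inv_rev]
    group

theorem auQ_apply (h : H0) (q : Q) : ((auQ h q : Q) : Perm (Fin 100)) = φ h * q * (φ h)⁻¹ := rfl

/-- the model of `Q` -/
noncomputable def modQ : Mod Q where
  π := φK
  surj := φK_surj
  ker k := by
    rw [← φ_eq_one_iff, ← φK_coe, OneMemClass.coe_eq_one]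
  au := auQ
  au_π h k := Subtype.ext (by
    rw [auQ_apply, φK_coe, φK_coe, map_mul, map_mul, map_inv])
  au_surj σ := by
    obtain ⟨p, hp, h⟩ := AutHS.exists_perm σ
    rw [← AutBound.range_eq] at hp
    obtain ⟨x, rfl⟩ := hp
    refine ⟨x, ?_⟩
    ext q : 2
    rw [auQ_apply, h]
  au_ker h := by
    rw [← φ_eq_one_iff]
    constructor
    · intro h1
      apply AutHS.eq_one_of_comm
      intro q hq
      have h2 := congrArg (fun f : MulAut Q => ((f ⟨q, hq⟩ : Q) : Perm (Fin 100))) h1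
      have h3 : φ h * q * (φ h)⁻¹ = q := h2
      exact mul_inv_eq_iff_eq_mul.1 h3
    · intro h1
      ext q : 2
      rw [auQ_apply, h1, one_mul, inv_one, mul_one]
      rfl

/-- transport of a model -/
def Mod.map {L M : Type*} [Group L] [Group M] (D : Mod L) (e : L ≃* M) : Mod M where
  π := e.toMonoidHom.comp D.π
  surj := e.surjective.comp D.surj
  ker k := by
    change e (D.π k) = 1 ↔ _
    rw [map_eq_one_iff e e.injective, D.ker]
  au := (MulAut.congr e).toMonoidHom.comp D.au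
  au_π h k := by
    change e (D.au h (e.symm (e (D.π k)))) = e (D.π _)
    rw [MulEquiv.symm_apply_apply, D.au_π]
  au_surj := (MulAut.congr e).surjective.comp D.au_surj
  au_ker h := by
    change MulAut.congr e (D.au h) = 1 ↔ _
    rw [map_eq_one_iff _ (MulAut.congr e).injective, D.au_ker]

/-- **every group isomorphic to `HS` has a model** -/
theorem exists_mod {L : Type*} [Group L] (h : Cfsg.Spor.IsoHS L) : Nonempty (Mod L) := by
  obtain ⟨e⟩ := h
  obtain ⟨⟨f⟩, -⟩ := AutHS.nonempty_Q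
  exact ⟨modQ.map (f.trans e.symm)⟩

namespace Mod

variable {L : Type*} [Group L] (D : Mod L)

/-- `π` as a function of an element of `H0` in `K` -/
theorem eq_iff (k l : K) : D.π k = D.π l ↔ (k : H0) = l ∨ (k : H0) = l * τ := by
  have h1 : D.π k = D.π l ↔ D.π (l⁻¹ * k) = 1 := by
    rw [map_mul, map_inv, inv_mul_eq_one, eq_comm]
  rw [h1, D.ker]
  change (l : H0)⁻¹ * (k : H0) = 1 ∨ (l : H0)⁻¹ * (k : H0) = τ ↔ _
  rw [inv_mul_eq_one, inv_mul_eq_iff_eq_mul, @eq_comm _ (l : H0) (k : H0)]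

theorem au_eq_iff (g h : H0) : D.au g = D.au h ↔ g = h ∨ g = h * τ := by
  have h1 : D.au g = D.au h ↔ D.au (h⁻¹ * g) = 1 := by
    rw [map_mul, map_inv, inv_mul_eq_one, eq_comm]
  rw [h1, D.au_ker, inv_mul_eq_one, inv_mul_eq_iff_eq_mul, @eq_comm _ h g]

/-- `K` induces the inner automorphisms -/
theorem au_K (k : K) : D.au k = MulAut.conj (D.π k) := by
  ext l
  obtain ⟨j, rfl⟩ := D.surj l
  rw [D.au_π, MulAut.conj_apply, ← map_inv, ← map_mul, ← map_mul]
  rfl

/-- the elements outside `K` induce outer automorphisms -/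
theorem mem_K_of_inner {h : H0} (hh : D.au h ∈ (MulAut.conj : L →* MulAut L).range) : h ∈ K := by
  obtain ⟨l, hl⟩ := hh
  obtain ⟨k, rfl⟩ := D.surj l
  rw [← D.au_K, D.au_eq_iff] at hl
  rcases hl with hl | hl
  · rw [← hl]; exact k.2
  · have h1 : h = k * τ := by rw [hl, mul_assoc, τ_mul_τ, mul_one]
    rw [h1]
    exact K.mul_mem k.2 τ_mem_K

theorem au_mem_inner {h : H0} : D.au h ∈ (MulAut.conj : L →* MulAut L).range ↔ h ∈ K :=
  ⟨D.mem_K_of_inner, fun hk => ⟨D.π ⟨h, hk⟩, (D.au_K ⟨h, hk⟩).symm⟩⟩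

/-- the sign of an automorphism -/
theorem exists_sign : ∃ s : MulAut L →* ℤˣ, ∀ h, s (D.au h) = sgn h := by
  have hk : D.au.ker ≤ sgn.ker := by
    intro h hh
    rw [MonoidHom.mem_ker, D.au_ker] at hh
    rcases hh with rfl | rfl
    · exact Subgroup.one_mem _
    · exact sgn_τ
  refine ⟨D.au.liftOfSurjective D.au_surj ⟨sgn, hk⟩, fun h => ?_⟩
  exact MonoidHom.liftOfRightInverse_comp_apply _ _ _ _ h

include D in
/-- `|Aut(HS) : Inn(HS)| = 2` -/
theorem index_inn : (MulAut.conj : L →* MulAut L).range.index = 2 := by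
  have h1 : ((MulAut.conj : L →* MulAut L).range.comap D.au).index = 2 := by
    have h2 : (MulAut.conj : L →* MulAut L).range.comap D.au = K := by
      ext h
      exact D.au_mem_inner
    rw [h2, K_index]
  rwa [Subgroup.index_comap_of_surjective _ D.au_surj] at h1

include D in
theorem card : Nat.card L = 44352000 := by
  have := H0Basic.finite_H0
  have h1 := D.π.ker.card_mul_index
  rw [Subgroup.index_ker, MonoidHom.range_eq_top.2 D.surj, Subgroup.card_top] at h1
  have h2 : Nat.card D.π.ker = 2 := by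
    have h3 : (D.π.ker : Set K) = {1, ⟨τ, τ_mem_K⟩} := by
      ext k
      change D.π k = 1 ↔ k = 1 ∨ k = ⟨τ, τ_mem_K⟩
      rw [D.ker, Subtype.ext_iff, Subtype.ext_iff]
      rfl
    rw [← SetLike.coe_sort_coe, h3, Nat.card_coe_set_eq, Set.ncard_pair]
    exact fun h => τ_ne_one (congrArg Subtype.val h).symm
  have h3 : Nat.card K = 88704000 := DoubleCover.card_K card_H0
  rw [h2, h3] at h1
  omega

end Mod

/-! ### Statements for the user -/

universe u

/-- `|Aut(HS) : Inn(HS)| = 2` -/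
theorem index_inn {L : Type u} [Group L] (h : Cfsg.Spor.IsoHS L) :
    (MulAut.conj : L →* MulAut L).range.index = 2 :=
  (exists_mod h).elim fun D => D.index_inn

/-- **(OS) for `HS`** -/
theorem os {L : Type u} [Group L] (h : Cfsg.Spor.IsoHS L) (α : MulAut L)
    (hα : α ∉ (MulAut.conj : L →* MulAut L).range) :
    ∃ s : MulAut L →* ℤˣ, (∀ l : L, s (MulAut.conj l) = 1) ∧ s α = -1 := by
  obtain ⟨D⟩ := exists_mod h
  obtain ⟨s, hs⟩ := D.exists_sign
  refine ⟨s, fun l => ?_, ?_⟩
  · obtain ⟨k, rfl⟩ := D.surj l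
    rw [← D.au_K, hs]
    exact k.2
  · obtain ⟨a, rfl⟩ := D.au_surj α
    rw [hs]
    rw [D.au_mem_inner, mem_K_iff] at hα
    exact (Int.units_eq_one_or _).resolve_left hα

theorem card {L : Type u} [Group L] (h : Cfsg.Spor.IsoHS L) : Nat.card L = 44352000 :=
  (exists_mod h).elim fun D => D.card

end Cfsg.Agent.KFacts.HS
end
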